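import Cfsg.Agent.R2.F4N.NR

/-!
# S5931: no root elements, no white subspaces over algebraic extension fields (lead, box F4N)

* `nrF4_closed` : no one-parameter group `1 + t N` of `Aut(J_k)` commutes with `L`;
* `white_six`, `white_four` : no white `L`-stable subspaces of dimension 6, 4 (every characteristic), if `J_k^L = k u0`;
* `white` : no white `L`-stable subspaces (`p` odd).
-/

set_option autoImplicit false
set_option linter.unusedSectionVars false

namespace Cfsg.Agent.R2.F4N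

open Cfsg Cfsg.Lie Module Matrix
open Cfsg.Agent.ChevalleyStructure
open Cfsg.Agent.ChevalleyStructure.E6Min.Basic
open Cfsg.Agent.H163.E6 Cfsg.Agent.H65.E6Emb Cfsg.Agent.R2.H22.Norm Cfsg.Agent.R2.H22.Root Cfsg.Agent.H163.E6.Act
open Cfsg.Agent.H952.F4 (u0 tr1 tf sh cr)
open Cfsg.Agent.H952.F4.Jord
open Cfsg.Agent.R2.F4M
open Cfsg.Agent.R2.H9.E6
open Finset
open scoped Matrix

universe u v w

section cfg

variable {F : Type u} [Field F] [Fintype F] {K : Type w} [Field K] [Fintype K] {p a b : ℕ}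
  {H : Subgroup ↥(chevF4.group F)} {φ : ProjectiveSpecialLinearGroup (Fin 2) K →* ↥(chevF4.group F)}

/-- **no root elements commute with `L`**, over every algebraic extension field -/
theorem nrF4_closed (h : Cfg p a b H φ) {k : Type v} [Field k] [Algebra F k]
    [Algebra.IsAlgebraic F k] {N : Matrix I27 I27 k} (hN : N * N = 0)
    (hz : ∀ t : k, ∃ z : ↥(Zgrp k), mt z = 1 + t • N) (hu : N *ᵥ u0 k = 0)
    (hc : ∀ x, mt (emb (algebraMap F k) (zt F (φ x))) * N = N * mt (emb (algebraMap F k) (zt F (φ x)))) : N = 0 := by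
  classical
  choose z hz using hz
  let S : Set k := Set.range fun q : I27 × I27 => N q.1 q.2
  have hS : S.Finite := Set.finite_range _
  let L : IntermediateField F k := IntermediateField.adjoin F S
  have hfd : FiniteDimensional F L := by
    have : Finite S := hS
    exact IntermediateField.finiteDimensional_adjoin fun x _ => (Algebra.IsAlgebraic.isAlgebraic x).isIntegral
  have hfin : Finite L := Module.finite_of_finite F
  have hmem : ∀ i j, N i j ∈ L := fun i j => IntermediateField.subset_adjoin F S ⟨(i, j), rfl⟩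
  let N0 : Matrix I27 I27 L := Matrix.of fun i j => ⟨N i j, hmem i j⟩
  let j : L →+* k := algebraMap L k
  have hj : N0.map j = N := by
    ext i l
    rfl
  have hju : (fun i => j (u0 L i)) = u0 k := by
    funext i
    unfold u0
    rw [apply_ite j, map_one, map_zero]
  have hN0 : N0 * N0 = 0 := by
    apply Matrix.map_injective j.injective
    show (N0 * N0).map j = (0 : Matrix I27 I27 L).map j
    rw [Matrix.map_mul, hj, hN, Matrix.map_zero j (map_zero j)]
  have hu0 : N0 *ᵥ u0 L = 0 := by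
    have h1 := map_mulVec j N0 (u0 L)
    rw [hj, hju, hu] at h1
    funext i
    exact j.injective (by rw [Pi.zero_apply, map_zero]; exact (congrFun h1 i).symm)
  have hz0 : ∀ t : L, ∃ z0 : ↥(Zgrp L), emb j z0 = z (j t) ∧ mt z0 = 1 + t • N0 := by
    intro t
    refine Cfsg.Agent.H65.E6Full.exists_of_map_all j (z (j t)) (1 + t • N0) ?_
    change mt (z (j t)) = _
    rw [hz, ← hj]
    ext i l
    simp only [Matrix.map_apply, Matrix.add_apply, Matrix.smul_apply, smul_eq_mul, map_add, map_mul,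
      Matrix.one_apply, apply_ite j, map_one, map_zero]
  choose z0 hz0 hz0' using hz0
  have h0 : N0 = 0 := by
    refine nrF4 h (algebraMap F L) hN0 z0 hz0' hu0 fun t x => ?_
    apply emb_injective j
    rw [map_mul, map_mul, hz0, emb_emb]
    have h1 : j.comp (algebraMap F L) = algebraMap F k := rfl
    rw [h1]
    apply mt_inj
    rw [mt_mul, mt_mul, hz, mul_add, add_mul, mul_one, one_mul, mul_smul_comm, smul_mul_assoc, hc]
  rw [← hj, h0, Matrix.map_zero j (map_zero j)]

/-- the embedding of `L` into the big group -/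
noncomputable abbrev ψk (k : Type v) [Field k] [Algebra F k]
    (φ : ProjectiveSpecialLinearGroup (Fin 2) K →* ↥(chevF4.group F)) :
    ProjectiveSpecialLinearGroup (Fin 2) K →* ↥(Zgrp k) := (emb (algebraMap F k)).comp ((zt F).comp φ)

/-- `J_k^L = k u0` -/
def FixU (k : Type v) [Field k] [Algebra F k]
    (φ : ProjectiveSpecialLinearGroup (Fin 2) K →* ↥(chevF4.group F)) : Prop :=
  ∀ x : I27 → k, (∀ a, V k (ψk k φ a) x = x) → ∃ c : k, x = c • u0 k

variable {k : Type u} [Field k] [Algebra F k]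

theorem ψk_u0 (φ : ProjectiveSpecialLinearGroup (Fin 2) K →* ↥(chevF4.group F)) (a : ProjectiveSpecialLinearGroup (Fin 2) K) :
    V k (ψk k φ a) (u0 k) = u0 k := by
  have h1 := V_emb (algebraMap F k) (zt F (φ a)) (u0 F)
  have h2 : (fun i => algebraMap F k (u0 F i)) = u0 k := by
    funext i
    unfold u0
    rw [apply_ite (algebraMap F k), map_one, map_zero]
  rw [h2, V_zt, Jr_u0, h2] at h1
  exact h1

theorem u0_ne : u0 k ≠ 0 := by
  intro h
  have := congrFun h (0, 0, 0)
  simp [u0] at this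

/-- a nilpotent operator commuting with `L` kills `u0` -/
theorem N_u0_eq (hfix : FixU k φ) {N : Matrix I27 I27 k} (hN : N * N = 0)
    (hc : ∀ x, mt (ψk k φ x) * N = N * mt (ψk k φ x)) : N *ᵥ u0 k = 0 := by
  obtain ⟨c, hc'⟩ := hfix (N *ᵥ u0 k) fun a => by
    show mt (ψk k φ a) *ᵥ (N *ᵥ u0 k) = _
    rw [Matrix.mulVec_mulVec, hc, ← Matrix.mulVec_mulVec]
    congr 1
    exact ψk_u0 φ a
  have h1 : N *ᵥ (N *ᵥ u0 k) = 0 := by
    rw [Matrix.mulVec_mulVec, hN, Matrix.zero_mulVec]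
  rw [hc', Matrix.mulVec_smul, hc', smul_smul] at h1
  have h2 : c * c = 0 := (smul_eq_zero.1 h1).resolve_right u0_ne
  have h3 : c = 0 := mul_self_eq_zero.1 h2
  rw [hc', h3, zero_smul]

theorem ts_mono {W : Submodule k (I27 → k)} (hW : ∀ x ∈ W, sh x = 0) : TS W := ts_of hW

/-- **no white stable subspaces of dimension 6** -/
theorem white_six [Algebra.IsAlgebraic F k] (h : Cfg p a b H φ) (hfix : FixU k φ) {W : Submodule k (I27 → k)}
    (h6 : finrank k W = 6) (hW : ∀ x ∈ W, sh x = 0) (hst : ∀ x, ∀ w ∈ W, V k (ψk k φ x) w ∈ W) : False := by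
  obtain ⟨N, hN, hNc⟩ := Cfsg.Agent.H65.E6Root.root6 (V k) (Or.inl rfl) (B := (ψk k φ).range) (by
      have h1 := psl_perfect (K := K) (by have := h.seven; omega)
      rw [commutator_def] at h1
      rw [MonoidHom.range_eq_map, ← Subgroup.map_commutator, h1])
    h6 (ts_of hW) (by
      rintro _ ⟨x, rfl⟩ w hw
      exact hst x w hw)
  have hNc' : ∀ x, mt (ψk k φ x) * N = N * mt (ψk k φ x) := fun x => hNc _ ⟨x, rfl⟩
  refine hN.ne (nrF4_closed h hN.sq (fun t => ?_) (N_u0_eq hfix hN.sq hNc') hNc')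
  obtain ⟨g, hg, e⟩ := hN.mem t
  exact ⟨⟨g, hg⟩, e⟩

/-- **no white stable subspaces of dimension 4** -/
theorem white_four [Algebra.IsAlgebraic F k] (h : Cfg p a b H φ) (hfix : FixU k φ) {W : Submodule k (I27 → k)}
    (h4 : finrank k W = 4) (hW : ∀ x ∈ W, sh x = 0) (hst : ∀ x, ∀ w ∈ W, V k (ψk k φ x) w ∈ W) : False := by
  obtain ⟨Y, n, n', hWY, HY⟩ := Cfsg.Agent.R2.GEO.exists_hull_four (psl_perfect (K := K) (by have := h.seven; omega))
    (ψk k φ) (Or.inl ⟨rfl, rfl⟩) hst h4 hW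
  exact white_six h hfix HY.dim HY.ts HY.stab

theorem two_ne (h : Cfg p a b H φ) (hp : p ≠ 2) : (2 : K) ≠ 0 ∧ (2 : k) ≠ 0 := by
  have hcF := h.charF
  have hck : CharP k p := charP_of_injective_ringHom (algebraMap F k).injective p
  have hcK := h.charK
  refine ⟨fun h0 => ?_, fun h0 => ?_⟩
  · have h1 : ((2 : ℕ) : K) = 0 := by exact_mod_cast h0
    rw [CharP.cast_eq_zero_iff K p] at h1
    exact hp ((Nat.prime_dvd_prime_iff_eq h.prime Nat.prime_two).1 h1)
  · have h1 : ((2 : ℕ) : k) = 0 := by exact_mod_cast h0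
    rw [CharP.cast_eq_zero_iff k p] at h1
    exact hp ((Nat.prime_dvd_prime_iff_eq h.prime Nat.prime_two).1 h1)

theorem white_three [Algebra.IsAlgebraic F k] (h : Cfg p a b H φ) (hp : p ≠ 2) (hfix : FixU k φ)
    {W : Submodule k (I27 → k)}
    (h3 : finrank k W = 3) (hW : ∀ x ∈ W, sh x = 0) (hst : ∀ x, ∀ w ∈ W, V k (ψk k φ x) w ∈ W) : False := by
  obtain ⟨h2, h2'⟩ := two_ne (k := k) h hp
  obtain ⟨N, hN, hNc⟩ := Cfsg.Agent.H65.E6Root.root3 (V k) (Or.inl rfl) (B := (ψk k φ).range) (by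
      rintro θ ⟨_, x, rfl⟩
      exact psl_no_two (by have := h.seven; omega) h2 h2' (θ.comp (ψk k φ).rangeRestrict) x)
    h3 (ts_of hW) (by
      rintro _ ⟨x, rfl⟩ w hw
      exact hst x w hw)
  have hNc' : ∀ x, mt (ψk k φ x) * N = N * mt (ψk k φ x) := fun x => hNc _ ⟨x, rfl⟩
  refine hN.ne (nrF4_closed h hN.sq (fun t => ?_) (N_u0_eq hfix hN.sq hNc') hNc')
  obtain ⟨g, hg, e⟩ := hN.mem t
  exact ⟨⟨g, hg⟩, e⟩

/-- the two embeddings agree -/
theorem zt_emb (f : F →+* k) (g : ↥(chevF4.group F)) :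
    zt k (Cfsg.Agent.GpExc.Field.emb Cfsg.Agent.H952.F4.hF4 f g) = emb f (zt F g) := by
  apply Subtype.ext
  apply Units.ext
  rw [coe_emb]
  exact Cfsg.Agent.H952.F4.JMod.map_isJ f isJ_rJ isJ_rJ g

theorem V_ψk (φ : ProjectiveSpecialLinearGroup (Fin 2) K →* ↥(chevF4.group F)) (a : ProjectiveSpecialLinearGroup (Fin 2) K)
    (x : I27 → k) : V k (ψk k φ a) x =
      Jr k (Cfsg.Agent.GpExc.Field.emb Cfsg.Agent.H952.F4.hF4 (algebraMap F k) (φ a)) x := by
  rw [← V_zt, zt_emb]
  rfl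

theorem V'_ψk (φ : ProjectiveSpecialLinearGroup (Fin 2) K →* ↥(chevF4.group F)) (a : ProjectiveSpecialLinearGroup (Fin 2) K)
    (x : I27 → k) : V' k (ψk k φ a) x = V k (ψk k φ a) x := by
  rw [V_ψk, ← V'_zt, zt_emb]
  rfl

/-- a white vector is not fixed by `L` -/
theorem white_fixed (hfix : FixU k φ) {x : I27 → k} (hx : sh x = 0) (h : ∀ a, V k (ψk k φ a) x = x) : x = 0 := by
  obtain ⟨c, rfl⟩ := hfix x h
  rw [sh_smul, sh_u0, smul_eq_zero] at hx
  rcases hx with hx | hx
  · rw [pow_eq_zero_iff two_ne_zero] at hx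
    rw [hx, zero_smul]
  · exact absurd hx u0_ne

theorem white_le_two (h : Cfg p a b H φ) (hp : p ≠ 2) (hfix : FixU k φ) {W : Submodule k (I27 → k)}
    (h2 : finrank k W = 1 ∨ finrank k W = 2) (hW : ∀ x ∈ W, sh x = 0) (hst : ∀ x, ∀ w ∈ W, V k (ψk k φ x) w ∈ W) :
    False := by
  obtain ⟨e2, e2'⟩ := two_ne (k := k) h hp
  have h7 := h.seven
  have h3 := Cfsg.Agent.R2.GEO.trivial_of_dim (psl_perfect (K := K) (by omega)) (fun θ => psl_no_two (by omega) e2 e2' θ)
    ((V k).comp (ψk k φ)) hst h2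
  have h4 : W ≠ ⊥ := by
    rintro rfl
    rw [finrank_bot] at h2
    omega
  obtain ⟨u, hu, hu0⟩ := Submodule.exists_mem_ne_zero_of_ne_bot h4
  exact hu0 (white_fixed hfix (hW u hu) fun a => h3 a u hu)

open Cfsg.Agent.R2.GEO Cfsg.Agent.H203.E6 in
theorem white_five [Algebra.IsAlgebraic F k] (h : Cfg p a b H φ) (hp : p ≠ 2) (hfix : FixU k φ)
    {W : Submodule k (I27 → k)}
    (h5 : finrank k W = 5) (hW : ∀ x ∈ W, sh x = 0) (hst : ∀ x, ∀ w ∈ W, V k (ψk k φ x) w ∈ W) : False := by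
  obtain ⟨e2, e2'⟩ := two_ne (k := k) h hp
  have h7 := h.seven
  have hA := psl_perfect (K := K) (by omega)
  have hTS : Cfsg.Agent.H203.E6.TS W := fun w hw => (singular_iff w).2 (hW w hw)
  obtain ⟨g, hg, he⟩ := exists_four hTS (by rw [h5]; norm_num)
  rcases le_or_le (hTS.mp hg) he with hle | hle
  · -- inside a six-space
    have hH := hull_of hA (ψk k φ) hg fun a => hull_stab hg he hle (ψk k φ a).2 (stab_mp (ψk k φ) hst a)
    exact white_six h hfix hH.dim hH.ts hH.stab
  · -- maximal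
    have h6 : Cfsg.Agent.H203.E6.mp g W = sup k L5 :=
      Submodule.eq_of_le_of_finrank_eq hle (by rw [finrank_mp, h5, finrank_L5])
    have h8 : finrank k (Uc W) = 2 := by
      have h9 := finrank_Uc (F := k) ⟨g, hg⟩ W
      change finrank k (Uc (Cfsg.Agent.H203.E6.mp g W)) = _ at h9
      rw [← h9, h6, Uc_L5, finrank_M2]
    have hst' : ∀ a, ∀ u ∈ Uc W, V' k (ψk k φ a) u ∈ Uc W := by
      intro a u hu
      have h9 := (Uc_act (ψk k φ a)).2 hu
      rwa [stab_mp (ψk k φ) hst a] at h9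
    have h9 := trivial_of_dim hA (fun θ => psl_no_two (by omega) e2 e2' θ) ((V' k).comp (ψk k φ)) hst' (Or.inr h8)
    have h10 : Uc W ≤ k ∙ u0 k := by
      intro u hu
      obtain ⟨c, hc⟩ := hfix u fun a => by
        rw [← V'_ψk]
        exact h9 a u hu
      rw [hc]
      exact Submodule.smul_mem _ _ (Submodule.mem_span_singleton_self _)
    have h11 := Submodule.finrank_mono h10
    rw [finrank_span_singleton u0_ne, h8] at h11
    omega

/-- **WHITE** : no white stable subspaces, `p` odd -/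
theorem white [Algebra.IsAlgebraic F k] (h : Cfg p a b H φ) (hp : p ≠ 2) (hfix : FixU k φ)
    {W : Submodule k (I27 → k)} (hW : ∀ x ∈ W, sh x = 0) (hst : ∀ x, ∀ w ∈ W, V k (ψk k φ x) w ∈ W) : W = ⊥ := by
  by_contra hne
  have h0 : finrank k W ≠ 0 := fun h0 => hne (Submodule.finrank_eq_zero.1 h0)
  have h6 := Cfsg.Agent.R2.GEO.finrank_le_six hW
  have h7 : finrank k W = 1 ∨ finrank k W = 2 ∨ finrank k W = 3 ∨ finrank k W = 4 ∨ finrank k W = 5 ∨
      finrank k W = 6 := by omega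
  rcases h7 with h7 | h7 | h7 | h7 | h7 | h7
  · exact white_le_two h hp hfix (Or.inl h7) hW hst
  · exact white_le_two h hp hfix (Or.inr h7) hW hst
  · exact white_three h hp hfix h7 hW hst
  · exact white_four h hfix h7 hW hst
  · exact white_five h hp hfix h7 hW hst
  · exact white_six h hfix h7 hW hst

end cfg

end Cfsg.Agent.R2.F4N
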