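import Cfsg.Agent.R2.F4N.Orth2

/-!
# Case E of S5931: the factors `8 p^r`, `16 p^s` (lead)
-/

set_option autoImplicit false
set_option linter.unusedSectionVars false

namespace Cfsg.Agent.R2.F4N

open Cfsg Cfsg.Lie Module Matrix
open Cfsg.Agent.ChevalleyStructure.E6Min.Basic
open Cfsg.Agent.H952.F4 Cfsg.Agent.H952.F4.Jord
open Cfsg.Agent.H952.F4.FixV (W0 mem_W0 finrank_W0 u0_ne_zero tr1_eq)
open Cfsg.Agent.R2.F4M
open Cfsg.Agent.R2.H9.E6
open Cfsg.Agent.R2.H28.SL2 Cfsg.Agent.H943.RepAdd Cfsg.Agent.H943.SL2Mod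

universe u v w

variable {F : Type u} [Field F] [Fintype F] {K : Type v} [Field K] [Fintype K] {p a b : ℕ}
variable {H : Subgroup ↥(chevF4.group F)} {φ : ProjectiveSpecialLinearGroup (Fin 2) K →* ↥(chevF4.group F)}
variable {k : Type u} [Field k] {f : F →+* k} [DecidableEq k] [DecidableEq K] [IsAlgClosed k] (ι : K →+* k)
variable [Fact p.Prime] [CharP k p] [CharP K p]

/-- **case E** -/
theorem caseE (hc : Cfg p a b H φ) (hp : 17 ≤ p) {r s : ℕ} (hr : r < a) (hs : s < a)
    (hcf : cf (Sy.{u, u, v} ι p) (R0 f φ) = {8 * p ^ r, 16 * p ^ s})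
    (h8 : InSoc ι p (R0 f φ) (8 * p ^ r)) (h16 : InSoc ι p (R0 f φ) (16 * p ^ s)) : a = b := by
  obtain ⟨X, hX, h8⟩ := h8
  obtain ⟨Y, hY, h16⟩ := h16
  obtain ⟨x, bX⟩ := exists_sb ι p h8 (by omega)
  obtain ⟨y, bY⟩ := exists_sb ι p h16 (by omega)
  have hfin : ∀ X : Submodule k ↥(W0 k), Module.finrank k (X.map (W0 k).subtype) = Module.finrank k X := fun X =>
    (Submodule.equivMapOfInjective _ (W0 k).injective_subtype X).symm.finrank_eq
  have c8 : (Bf k (8 * p ^ r)).card = 9 := by rw [← h8.finrank, ← hfin, bX.finrank]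
  have c16 : (Bf k (16 * p ^ s)).card = 17 := by rw [← h16.finrank, ← hfin, bY.finrank]
  have hne : 8 * p ^ r ≠ 16 * p ^ s := fun h => by rw [h, c16] at c8; omega
  have hm : ∀ c ∈ cf (Sy.{u, u, v} ι p) (R0 f φ), c = 8 * p ^ r ∨ c = 16 * p ^ s := by
    intro c hc
    rw [hcf] at hc
    simpa using hc
  have uX : Uq f φ (X.map (W0 k).subtype) := by
    refine uq_map ι p h8 ?_ ?_
    · rw [hcf]
      simp [hne]
    · intro c hc h
      rcases hm c hc with rfl | rfl
      · rfl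
      · rw [c8, c16] at h
        omega
  have uY : Uq f φ (Y.map (W0 k).subtype) := by
    refine uq_map ι p h16 ?_ ?_
    · rw [hcf]
      simp [Ne.symm hne, hne]
    · intro c hc h
      rcases hm c hc with rfl | rfl
      · rw [c8, c16] at h
        omega
      · rfl
  by_cases hrs : r = s
  · subst hrs
    exact box_R hc hp uX uY bX bY
  · exfalso
    refine box_E_ne hp hc.cardK hr hs hrs uX.le uY.le ?_ bX bY
    intro w h1 h2
    rcases uX.ir (X.map (W0 k).subtype ⊓ Y.map (W0 k).subtype) inf_le_left (fun g z hz => ⟨uX.st g z hz.1, uY.st g z hz.2⟩)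
      with h4 | h4
    · have h5 : w ∈ X.map (W0 k).subtype ⊓ Y.map (W0 k).subtype := ⟨h1, h2⟩
      rwa [h4, Submodule.mem_bot] at h5
    · exfalso
      have h5 : X.map (W0 k).subtype ≤ Y.map (W0 k).subtype := inf_eq_left.1 h4
      rcases uY.ir _ h5 uX.st with h6 | h6
      · exact uX.ne h6
      · have h7 := bX.finrank
        have h8 := bY.finrank
        rw [h6] at h7
        omega

end Cfsg.Agent.R2.F4N
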