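import Cfsg.Agent.R2.F4N.Lam

/-!
# Rational points of submodules with rational bases (lead, S5931)
-/

set_option autoImplicit false
set_option linter.unusedSectionVars false

namespace Cfsg.Agent.R2.F4N

open Cfsg Cfsg.Lie Module Matrix
open Cfsg.Agent.ChevalleyStructure.E6Min.Basic
open Cfsg.Agent.H952.F4 Cfsg.Agent.H952.F4.Jord
open Cfsg.Agent.R2.F4M

universe u v w

variable {F : Type u} [Field F] [Fintype F] {k : Type u} [Field k] {f : F →+* k}

theorem up_li {I : Type*} {x : I → I27 → F} (h : LinearIndependent k (fun s => (fun i => f (x s i) : I27 → k))) :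
    LinearIndependent F x := by
  rw [linearIndependent_iff'] at h ⊢
  intro S g hg i hi
  have h1 : ∑ j ∈ S, f (g j) • (fun l => f (x j l) : I27 → k) = 0 := by
    have h2 := up_sum (f := f) S (fun j => g j • x j)
    rw [hg] at h2
    refine (Finset.sum_congr rfl fun j _ => (up_smul (g j) (x j)).symm).trans (h2.symm.trans ?_)
    funext l
    exact map_zero f
  exact f.injective (by rw [h S (fun j => f (g j)) h1 i hi, map_zero])

theorem dn_span {p b : ℕ} [Fact p.Prime] [CharP k p] (hF : Fintype.card F = p ^ b) {I : Type*} [Fintype I] {x : I → I27 → F}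
    (h : LinearIndependent k (fun s => (fun i => f (x s i) : I27 → k))) {X : Submodule k (I27 → k)}
    (hX : X = Submodule.span k (Set.range fun s => (fun i => f (x s i) : I27 → k))) :
    dn f X = Submodule.span F (Set.range x) := by
  classical
  apply le_antisymm
  · intro v hv
    rw [mem_dn, hX, Submodule.mem_span_range_iff_exists_fun] at hv
    obtain ⟨c, hc⟩ := hv
    let s : k →+* k := iterateFrobenius k p b
    have hs1 : ∀ c, s c = c ^ Fintype.card F := fun c => by rw [hF]; exact iterateFrobenius_def p b c
    have hs : ∀ c, s (f c) = f c := fun c => by rw [hs1, ← map_pow, FiniteField.pow_card]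
    have hup : ∀ w : I27 → F, sm s (fun i => f (w i)) = fun i => f (w i) := fun w => funext fun i => hs _
    have h1 := congrArg (sm s) hc
    rw [hup, sm_sum] at h1
    simp only [sm_smul, hup] at h1
    have h2 : ∑ i, (s (c i) - c i) • (fun j => f (x i j) : I27 → k) = 0 := by
      simp only [sub_smul, Finset.sum_sub_distrib]
      rw [h1, hc, sub_self]
    have h3 : ∀ i, ∃ d, f d = c i := fun i => exists_of_pow f (by
      rw [← hs1]
      exact sub_eq_zero.1 (Fintype.linearIndependent_iff.1 h _ h2 i))
    choose d hd using h3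
    rw [Submodule.mem_span_range_iff_exists_fun]
    refine ⟨d, up_inj (f := f) ?_⟩
    rw [up_sum, ← hc]
    refine Finset.sum_congr rfl fun i _ => ?_
    rw [up_smul, hd]
  · rw [Submodule.span_le]
    rintro _ ⟨s, rfl⟩
    show _ ∈ X
    rw [hX]
    exact Submodule.subset_span ⟨s, rfl⟩

end Cfsg.Agent.R2.F4N
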