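import Cfsg.Agent.R2.F4N.Tor
import Cfsg.Agent.R2.F4N.CaseE
import Cfsg.Agent.R2.F4N.Dn

/-!
# Case C of S5931: `p = 13`, `J₀ = 8 | 3 ⊗ 1' | 8` (lead)
-/

set_option autoImplicit false
set_option linter.unusedSectionVars false

namespace Cfsg.Agent.R2.F4N

open Cfsg Cfsg.Lie Module Matrix
open Cfsg.Agent.ChevalleyStructure.E6Min.Basic
open Cfsg.Agent.H952.F4 Cfsg.Agent.H952.F4.Jord
open Cfsg.Agent.H952.F4.FixV (W0 mem_W0 finrank_W0 u0_ne_zero tr1_eq)
open Cfsg.Agent.R2.F4M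
open Cfsg.Agent.R2.H9.E6
open Cfsg.Agent.R2.H28.SL2 Cfsg.Agent.H943.RepAdd Cfsg.Agent.H943.SL2Mod

universe u v w

section bf

variable {k : Type u} [Field k] [DecidableEq k] (p : ℕ) [Fact p.Prime] [CharP k p]

theorem mem_Bf_low {b n m : ℕ} (hn : n < p) : m ∈ Bf k (p * b + n) → ∃ s ≤ n, ∃ m' ∈ Bf k b, m = p * m' + s := by
  have hp : p.Prime := Fact.out
  intro h
  rw [← Nat.div_add_mod m p, mem_Bf_mul k p hn (Nat.mod_lt m hp.pos)] at h
  exact ⟨m % p, h.1, m / p, h.2, (Nat.div_add_mod m p).symm⟩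

theorem mem_Bf_pair_lt {n n' : ℕ} (hn : n < p) (hn' : n' < p) (i j : ℕ) : ∀ {m : ℕ}, m ∈ Bf k (n * p ^ i + n' * p ^ (i + j + 1)) →
    ∃ s ≤ n, ∃ s' ≤ n', m = s * p ^ i + s' * p ^ (i + j + 1) := by
  have hp : p.Prime := Fact.out
  induction i with
  | zero =>
    intro m h
    rw [show n * p ^ 0 + n' * p ^ (0 + j + 1) = p * (n' * p ^ j) + n by ring] at h
    obtain ⟨s, hs, m', hm', rfl⟩ := mem_Bf_low p hn h
    obtain ⟨s', hs', rfl⟩ := (mem_Bf_single p hn' j).1 hm'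
    exact ⟨s, hs, s', hs', by ring⟩
  | succ i ih =>
    intro m h
    rw [show n * p ^ (i + 1) + n' * p ^ (i + 1 + j + 1) = p * (n * p ^ i + n' * p ^ (i + j + 1)) + 0 by ring] at h
    obtain ⟨s, hs, m', hm', rfl⟩ := mem_Bf_low p hp.pos h
    obtain ⟨t, ht, t', ht', rfl⟩ := ih hm'
    obtain rfl : s = 0 := by omega
    exact ⟨t, ht, t', ht', by ring⟩

theorem mem_Bf_pair {n n' : ℕ} (hn : n < p) (hn' : n' < p) {i j : ℕ} (hij : i ≠ j) {m : ℕ}
    (h : m ∈ Bf k (n * p ^ i + n' * p ^ j)) : ∃ s ≤ n, ∃ s' ≤ n', m = s * p ^ i + s' * p ^ j := by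
  rcases lt_or_gt_of_ne hij with h1 | h1
  · obtain ⟨l, rfl⟩ : ∃ l, j = i + l + 1 := ⟨j - i - 1, by omega⟩
    exact mem_Bf_pair_lt p hn hn' i l h
  · obtain ⟨l, rfl⟩ : ∃ l, i = j + l + 1 := ⟨i - j - 1, by omega⟩
    rw [add_comm] at h
    obtain ⟨s, hs, s', hs', rfl⟩ := mem_Bf_pair_lt p hn' hn j l h
    exact ⟨s', hs', s, hs, by ring⟩

end bf

theorem isSS_h {k : Type u} [Field k] {K : Type w} [Field K] (ι : K →+* k) (g : Kˣ) :
    Cfsg.Agent.H179.SLC.IsSS ι (Cfsg.Agent.H943.SL2Rel.h g) (ι g) := by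
  refine ⟨![1, 0], ![0, 1], ?_, ?_, ?_⟩
  · ext i
    fin_cases i <;> simp [Cfsg.Agent.H943.SL2Rel.h, Matrix.mulVec, dotProduct, Fin.sum_univ_two]
  · ext i
    fin_cases i <;> simp [Cfsg.Agent.H943.SL2Rel.h, Matrix.mulVec, dotProduct, Fin.sum_univ_two]
  · simp

variable {F : Type u} [Field F] [Fintype F] {K : Type v} [Field K] [Fintype K] {p a b : ℕ}
variable {H : Subgroup ↥(chevF4.group F)} {φ : ProjectiveSpecialLinearGroup (Fin 2) K →* ↥(chevF4.group F)}
variable {k : Type u} [Field k] {f : F →+* k} [DecidableEq k] [DecidableEq K] [IsAlgClosed k] (ι : K →+* k)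
variable [Fact p.Prime] [CharP k p] [CharP K p]

/-- the eigenvalues of a torus element come from the composition factors -/
theorem eig_mem {V : Type u} [AddCommGroup V] [Module k V] [FiniteDimensional k V]
    (ρ : Representation k (SpecialLinearGroup (Fin 2) K) V) (hK : Fintype.card K = p ^ a) (ha : 1 ≤ a) (g : Kˣ) {ν : k} {v : V}
    (hv : v ≠ 0) (h : ρ (Cfsg.Agent.H943.SL2Rel.h g) v = ν • v) :
    ∃ c ∈ cf (Sy.{u, u, v} ι p) ρ, ∃ m ∈ Bf k c, (ι g) ^ m * (ι g)⁻¹ ^ (c - m) = ν := by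
  have hp : p.Prime := Fact.out
  have hM := isMult_cf.{u, u, v} ι p hK ρ
  have hN1 : (ι g) ^ (Fintype.card K - 1) = 1 := by
    rw [← map_pow, FiniteField.pow_card_sub_one_eq_one _ g.ne_zero, map_one]
  have hg1 : g ^ (Fintype.card K - 1) = 1 := Units.ext (by
    rw [Units.val_pow_eq_pow_val, FiniteField.pow_card_sub_one_eq_one _ g.ne_zero, Units.val_one])
  have hN0 : ((Fintype.card K - 1 : ℕ) : k) ≠ 0 := by
    intro h0
    have h1 : ((Fintype.card K : ℕ) : k) = 0 := by rw [hK, Nat.cast_pow, CharP.cast_eq_zero, zero_pow (by omega)]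
    have h3 : Fintype.card K = (Fintype.card K - 1) + 1 := by
      have : 0 < Fintype.card K := Fintype.card_pos
      omega
    rw [h3, Nat.cast_add, h0, zero_add, Nat.cast_one] at h1
    exact one_ne_zero h1
  have hν : ν ^ (Fintype.card K - 1) = 1 := by
    have h1 := pow_apply_eig (ρ := ρ) h (Fintype.card K - 1)
    rw [← map_pow, ← Cfsg.Agent.H943.SL2Rel.h_pow, hg1, Cfsg.Agent.H943.SL2Rel.h_one, map_one, Module.End.one_apply] at h1
    have h2 : (ν ^ (Fintype.card K - 1) - 1) • v = 0 := by rw [sub_smul, one_smul, ← h1, sub_self]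
    exact sub_eq_zero.1 ((smul_eq_zero.1 h2).resolve_right hv)
  have h1 := hM.eigen (Cfsg.Agent.H943.SL2Rel.h g) (ι g) _ (isSS_h ι g) hN1 hN0 ν hν
  have h2 : Module.finrank k (eig ρ (Cfsg.Agent.H943.SL2Rel.h g) ν) ≠ 0 := by
    intro h0
    have h3 := Submodule.finrank_eq_zero.1 h0
    have h4 : v ∈ eig ρ (Cfsg.Agent.H943.SL2Rel.h g) ν := (mem_eig ρ).2 h
    rw [h3, Submodule.mem_bot] at h4
    exact hv h4
  rw [h1] at h2
  obtain ⟨c, -, hc⟩ := Finset.exists_ne_zero_of_sum_ne_zero h2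
  have h5 := left_ne_zero_of_mul hc
  have h6 := right_ne_zero_of_mul hc
  refine ⟨c, Multiset.count_ne_zero.1 h5, ?_⟩
  unfold mf at h6
  obtain ⟨m, hm⟩ := Finset.card_ne_zero.1 h6
  rw [Finset.mem_filter] at hm
  exact ⟨m, hm.1, hm.2⟩

/-- a power of the unit -/
theorem pow_eq_zpow {k : Type u} [Field k] (z : kˣ) {m c : ℕ} (hm : m ≤ c) :
    (z : k) ^ m * ((z : k)⁻¹) ^ (c - m) = ((z ^ (2 * (m : ℤ) - c) : kˣ) : k) := by
  have h1 : (2 * (m : ℤ) - c) = (m : ℤ) + -((c - m : ℕ) : ℤ) := by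
    push_cast [Nat.cast_sub hm]
    ring
  rw [h1, _root_.zpow_add, _root_.zpow_neg, zpow_natCast, zpow_natCast, Units.val_mul, Units.val_pow_eq_pow_val, ← inv_pow,
    Units.val_pow_eq_pow_val, Units.val_inv_eq_inv_val]

theorem map_frob (r : ℕ) (g : Kˣ) : Units.map (((iterateFrobenius k p r).comp ι : K →+* k) : K →* k) g =
    (Units.map (ι : K →* k) g) ^ (p ^ r) := by
  apply Units.ext
  rw [Units.val_pow_eq_pow_val]
  exact iterateFrobenius_def p r (ι g)

/-- the eigenvalues in case C -/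
theorem eigC (hK : Fintype.card K = p ^ a) (ha : 2 ≤ a) (hp : p = 13) {r : ℕ} (hr : r < a)
    (hcf : ∀ c ∈ cf (Sy.{u, u, v} ι p) (R0 f φ), c = 8 * p ^ r ∨ c = 3 * p ^ r + 1 * p ^ ((r + 1) % a)) (g : Kˣ) {ν : k}
    {v : I27 → k} (hv : v ≠ 0) (h : Rk f φ (Cfsg.Agent.H943.SL2Rel.h g) v = ν • v) :
    ∃ m : Fin 17, (((Units.map (((iterateFrobenius k p r).comp ι : K →+* k) : K →* k) g) ^ (2 * ((m : ℤ) - 8)) : kˣ) : k) = ν := by
  by_cases h1 : ν = 1
  · refine ⟨8, ?_⟩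
    rw [h1]
    show (((Units.map (((iterateFrobenius k p r).comp ι : K →+* k) : K →* k) g) ^ (2 * (((8 : Fin 17) : ℕ) - 8 : ℤ)) : kˣ) : k) = 1
    simp
  have htr : tr1 v = 0 := by
    have h2 := Rk_tr f φ (Cfsg.Agent.H943.SL2Rel.h g) v
    rw [h, tr1_smul] at h2
    have h3 : (ν - 1) * tr1 v = 0 := by linear_combination h2
    exact (mul_eq_zero.1 h3).resolve_left (sub_ne_zero.2 h1)
  have hv0 : (⟨v, (mem_W0 v).2 htr⟩ : ↥(W0 k)) ≠ 0 := fun h0 => hv (congrArg Subtype.val h0)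
  obtain ⟨c, hc, m, hm, hν⟩ := eig_mem ι (R0 f φ) hK (by omega) g hv0 (ν := ν) (Subtype.ext (by
    rw [R0_apply]
    exact h))
  have hmc : m ≤ c := (mem_Bf.1 hm).1
  have hgu : (ι g : k) = ((Units.map (ι : K →* k) g : kˣ) : k) := rfl
  rw [hgu, pow_eq_zpow _ hmc] at hν
  rw [map_frob]
  set z : kˣ := Units.map (ι : K →* k) g with hz
  have hza : z ^ (p ^ a) = z := by
    rw [hz, ← map_pow, ← hK]
    congr 1
    exact Units.ext (by rw [Units.val_pow_eq_pow_val, FiniteField.pow_card])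
  have hzr : z ^ (p ^ ((r + 1) % a)) = z ^ (p ^ (r + 1)) := by
    rcases lt_or_ge (r + 1) a with h2 | h2
    · rw [Nat.mod_eq_of_lt h2]
    · obtain rfl : a = r + 1 := by omega
      rw [Nat.mod_self, pow_zero, pow_one, hza]
  rcases hcf c hc with rfl | rfl
  · obtain ⟨s, hs, rfl⟩ := (mem_Bf_single p (by omega) r).1 hm
    refine ⟨⟨s + 4, by omega⟩, ?_⟩
    rw [← hν, ← zpow_natCast z, ← _root_.zpow_mul]
    congr 2
    push_cast
    ring
  · obtain ⟨s, hs, s', hs', rfl⟩ := mem_Bf_pair p (by omega) (by omega) (by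
      rcases lt_or_ge (r + 1) a with h2 | h2
      · rw [Nat.mod_eq_of_lt h2]
        omega
      · obtain rfl : a = r + 1 := by omega
        rw [Nat.mod_self]
        omega) hm
    refine ⟨⟨s + 13 * s', by omega⟩, ?_⟩
    rw [← hν]
    congr 1
    have e1 : (2 * (((s * p ^ r + s' * p ^ ((r + 1) % a) : ℕ)) : ℤ) - ((3 * p ^ r + 1 * p ^ ((r + 1) % a) : ℕ) : ℤ)) =
        ((p ^ r : ℕ) : ℤ) * (2 * s - 3) + ((p ^ ((r + 1) % a) : ℕ) : ℤ) * (2 * s' - 1) := by
      push_cast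
      ring
    have e2 : z ^ (((p ^ r : ℕ) : ℤ) * (2 * s - 3) + ((p ^ ((r + 1) % a) : ℕ) : ℤ) * (2 * s' - 1)) =
        (z ^ p ^ r) ^ (2 * (((s + 13 * s' : ℕ) : ℤ) - 8)) := by
      rw [_root_.zpow_add, _root_.zpow_mul, _root_.zpow_mul, zpow_natCast, zpow_natCast, hzr, pow_succ p r, pow_mul,
        ← zpow_natCast _ p, ← _root_.zpow_mul, ← _root_.zpow_add]
      congr 1
      rw [hp]
      push_cast
      ring
    rw [e1, e2]

/-- **case C** -/
theorem caseC (hc : Cfg p a b H φ) (hp : p = 13) (ha : 2 ≤ a) {r : ℕ} (hr : r < a)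
    (hcf : cf (Sy.{u, u, v} ι p) (R0 f φ) = {8 * p ^ r, 8 * p ^ r, 3 * p ^ r + p ^ ((r + 1) % a)})
    {X : Submodule k ↥(W0 k)} {hX : ∀ g, ∀ x ∈ X, R0 f φ g x ∈ X}
    (h8 : IsV (V := ↥X) ι p (subRep (R0 f φ) X hX) (8 * p ^ r))
    (huniq : ∀ (Y : Submodule k ↥(W0 k)) (hY : ∀ g, ∀ x ∈ Y, R0 f φ g x ∈ Y) (c : ℕ),
      IsV (V := ↥Y) ι p (subRep (R0 f φ) Y hY) c → Y = X) : a = b := by
  classical
  have hcF := hc.charF
  have h2 : (2 : F) ≠ 0 := by
    have h := (CharP.cast_eq_zero_iff F p 2).not.2 (fun h => by rw [hp] at h; revert h; decide)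
    exact_mod_cast h
  obtain ⟨x, bX⟩ := exists_sb ι p h8 (by omega)
  have uX : Uq f φ (X.map (W0 k).subtype) := by
    refine ⟨ir_map ι p h8, fun Z hZ _ => ?_⟩
    obtain ⟨Y, hY, c, hcY, rfl⟩ := hZ.exists_isV ι p
    rw [huniq Y hY c hcY]
  obtain ⟨κ', hκ', x', ν, hν, hx', hSx⟩ := uX.rat hc (n := 8) (by norm_num) (by omega) (fun s hs => bX.mem hs)
    (fun s hs => bX.ne hs) bX.str bX.top
  obtain ⟨g, hg⟩ := IsCyclic.exists_ofOrder_eq_natCard (α := Kˣ)
  rw [Nat.card_eq_fintype_card, Fintype.card_units] at hg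
  have hQ : 48 < Fintype.card K - 1 := by
    rw [hc.cardK, hp]
    have : 13 ^ 2 ≤ 13 ^ a := Nat.pow_le_pow_right (by norm_num) ha
    omega
  have hmap : ∀ e : ℤ, f (((Units.map (κ' : K →* F) g) ^ e : Fˣ) : F) =
      (((Units.map (((iterateFrobenius k p r).comp ι : K →+* k) : K →* k) g) ^ e : kˣ) : k) := by
    intro e
    have e1 : Units.map (((iterateFrobenius k p r).comp ι : K →+* k) : K →* k) g =
        Units.map (f : F →* k) (Units.map (κ' : K →* F) g) := by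
      apply Units.ext
      show ((iterateFrobenius k p r).comp ι) g = f (κ' g)
      rw [← hκ']
      rfl
    rw [e1]
    exact congrArg Units.val (map_zpow (Units.map (f : F →* k)) (Units.map (κ' : K →* F) g) e)
  have hli : LinearIndependent k (fun s : Fin (8 + 1) => (fun i => f (x' s i) : I27 → k)) := by
    have h4 : (fun s : Fin (8 + 1) => (fun i => f (x' s i) : I27 → k)) = fun s : Fin (8 + 1) => ν • x s := by
      funext s
      exact hx' s (Nat.lt_succ_iff.1 s.2)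
    rw [h4]
    exact bX.li.units_smul (fun _ => Units.mk0 ν hν)
  have hsp : dn f (X.map (W0 k).subtype) = Submodule.span F (Set.range fun s : Fin (8 + 1) => x' s) := by
    refine dn_span (p := p) (b := b) hc.cardF hli ?_
    have h4 : (fun s : Fin (8 + 1) => (fun i => f (x' s i) : I27 → k)) = fun s : Fin (8 + 1) => ν • x s := by
      funext s
      exact hx' s (Nat.lt_succ_iff.1 s.2)
    rw [h4, bX.sp]
    apply le_antisymm
    · rw [Submodule.span_le]
      rintro _ ⟨s, rfl⟩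
      have h5 : x s = ν⁻¹ • (ν • x s) := by rw [smul_smul, inv_mul_cancel₀ hν, one_smul]
      show x s ∈ _
      rw [h5]
      exact Submodule.smul_mem _ _ (Submodule.subset_span ⟨s, rfl⟩)
    · rw [Submodule.span_le]
      rintro _ ⟨s, rfl⟩
      exact Submodule.smul_mem _ _ (Submodule.subset_span ⟨s, rfl⟩)
  have hliF : LinearIndependent F (fun s : Fin (8 + 1) => x' s) := up_li hli
  refine eq_of_onto hc κ' fun c => ?_
  obtain ⟨z, hz⟩ := torus_of_wt (φ := φ) h2 ⟨a, hc.ha, p, hc.prime, hcF, hc.cardK⟩ hQ hg (fun μ v hv h => by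
    have h5 : Rk f φ (Cfsg.Agent.H943.SL2Rel.h g) (fun i => f (v i)) = f μ • fun i => f (v i) := by
      rw [← up_RF, h, up_smul]
    have h6 : (fun i => f (v i) : I27 → k) ≠ 0 := by
      intro h0
      apply hv
      apply up_inj (f := f)
      rw [h0]
      funext i
      exact (map_zero f).symm
    obtain ⟨m, hm⟩ := eigC ι hc.cardK ha hp hr (fun c hc' => by
      rw [hcf] at hc'
      simp only [Multiset.insert_eq_cons, Multiset.mem_cons, Multiset.mem_singleton] at hc'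
      rw [one_mul]
      tauto) g h6 h5
    refine ⟨m, f.injective ?_⟩
    rw [hmap, hm]) c
  have hzx : ∀ s ≤ 8, Jr F z (x' s) = ((c ^ (-4 + (s : ℤ)) : Fˣ) : F) • x' s := by
    intro s hs
    have h5 := hz ⟨s + 4, by omega⟩ (x' s) (by
      rw [hSx.h s hs g]
      congr 1
      have h6 := pow_eq_zpow (Units.map (κ' : K →* F) g) (m := s) (c := 8) hs
      refine Eq.trans h6 ?_
      congr 2
      push_cast
      ring)
    rw [h5]
    congr 3
    push_cast
    ring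
  refine mem_range hc (n := 8) (by norm_num) (by omega) hSx hliF (U := Submodule.span F (Set.range fun s : Fin (8 + 1) => x' s))
    ?_ ?_ (z := z) ?_ (m := -4) hzx
  · rw [← hsp]
    exact uX.hst hc
  · refine pr_of_finrank ?_ ?_ <;> rw [finrank_span_eq_card hliF, Fintype.card_fin] <;> norm_num
  · intro w hw
    induction hw using Submodule.span_induction with
    | mem w hw =>
      obtain ⟨s, rfl⟩ := hw
      show Jr F z (x' s) ∈ _
      rw [hzx s (Nat.lt_succ_iff.1 s.2)]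
      exact Submodule.smul_mem _ _ (Submodule.subset_span ⟨s, rfl⟩)
    | zero =>
      rw [map_zero]
      exact Submodule.zero_mem _
    | add x y _ _ hx hy =>
      rw [map_add]
      exact Submodule.add_mem _ hx hy
    | smul e x _ hx =>
      rw [map_smul]
      exact Submodule.smul_mem _ _ hx

end Cfsg.Agent.R2.F4N
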