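import Cfsg.Agent.R2.F4N.Q13f
import Cfsg.Agent.R2.F4N.CaseC
import Cfsg.Agent.R2.F4T.HwOne
import Cfsg.Agent.R2.F4T.Sd

/-!
# Case D of S5931 : `Q = 13` (lead)
-/

set_option autoImplicit false
set_option linter.unusedSectionVars false

namespace Cfsg.Agent.R2.F4N

open Cfsg Cfsg.Lie Module Matrix
open Cfsg.Agent.ChevalleyStructure.E6Min.Basic
open Cfsg.Agent.H952.F4 Cfsg.Agent.H952.F4.Jord
open Cfsg.Agent.H952.F4.FixV (W0 mem_W0 finrank_W0 u0_ne_zero tr1_eq)
open Cfsg.Agent.R2.F4M
open Cfsg.Agent.R2.H9.E6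
open Cfsg.Agent.R2.H28.SL2 Cfsg.Agent.H943.RepAdd Cfsg.Agent.H943.SL2Mod
open Cfsg.Agent.R2.H22.Q7 (Ew mem_Ew)
open Cfsg.Agent.R2.F4T (SD hw_soc gen_one)

universe u v w

theorem Str.ext {k : Type u} [Field k] {K : Type v} [Field K] {W : Type w} [AddCommGroup W] [Module k W] {κ : K →+* k}
    {ρ : Representation k (SpecialLinearGroup (Fin 2) K) W} {n : ℕ} {v v' : ℕ → W} (h : Str κ ρ n v)
    (he : ∀ s ≤ n, v' s = v s) : Str κ ρ n v' where
  u s hs t := by
    rw [he s hs, h.u s hs t]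
    refine Finset.sum_congr rfl fun j hj => ?_
    rw [he (s + j) (by have := Finset.mem_range.1 hj; omega)]
  h s hs a := by rw [he s hs, h.h s hs a]
  w s hs := by rw [he s hs, he (n - s) (by omega), h.w s hs]

variable {F : Type u} [Field F] [Fintype F] {K : Type v} [Field K] [Fintype K] {p a b : ℕ}
variable {H : Subgroup ↥(chevF4.group F)} {φ : ProjectiveSpecialLinearGroup (Fin 2) K →* ↥(chevF4.group F)}
variable {k : Type u} [Field k] {f : F →+* k} [DecidableEq k] [DecidableEq K] [IsAlgClosed k] (ι : K →+* k)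
variable [Fact p.Prime] [CharP k p] [CharP K p]

theorem up_coef {v w : I27 → F} {d : k} (h : (fun i => f (v i)) = d • fun i => f (w i)) : ∃ c : F, v = c • w := by
  by_cases hw : w = 0
  · refine ⟨0, ?_⟩
    apply up_inj (f := f)
    rw [h, hw]
    funext i
    simp
  · obtain ⟨i, hi⟩ := Function.ne_iff.1 hw
    refine ⟨v i / w i, ?_⟩
    apply up_inj (f := f)
    have h1 := congrFun h i
    have h2 : f (w i) ≠ 0 := (map_ne_zero f).2 hi
    have h3 : d = f (v i / w i) := by
      rw [map_div₀, eq_div_iff h2]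
      exact h1.symm
    rw [h, h3, up_smul]

/-- **case D** -/
theorem caseD (hc : Cfg p a b H φ) (hp : p = 13) (ha : a = 1)
    (hcf : cf (Sy.{u, u, v} ι p) (R0 f φ) = {2, 4, 8, 8})
    {X : Submodule k ↥(W0 k)} {hX : ∀ g, ∀ x ∈ X, R0 f φ g x ∈ X}
    (h8 : IsV (V := ↥X) ι p (subRep (R0 f φ) X hX) 8)
    (huniq : ∀ (Y : Submodule k ↥(W0 k)) (hY : ∀ g, ∀ x ∈ Y, R0 f φ g x ∈ Y), Irrd (V := ↥Y) (subRep (R0 f φ) Y hY) → Y = X)
    (hwhite : ∀ W : Submodule k (I27 → k), (∀ g, ∀ x ∈ W, Rk f φ g x ∈ W) → (∀ x ∈ W, sh x = 0) → W = ⊥) : a = b := by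
  classical
  have hpp : p.Prime := Fact.out
  have hcF := hc.charF
  have h2 : (2 : k) ≠ 0 := by
    have h := (CharP.cast_eq_zero_iff k p 2).not.2 (fun h => by rw [hp] at h; revert h; decide)
    exact_mod_cast h
  have h3 : (3 : k) ≠ 0 := by
    have h := (CharP.cast_eq_zero_iff k p 3).not.2 (fun h => by rw [hp] at h; revert h; decide)
    exact_mod_cast h
  have hK : Fintype.card K = p := by rw [hc.cardK, ha, pow_one]
  have hK13 : Fintype.card K = 13 := by rw [hK, hp]
  have h8' : IsV (V := ↥X) ι p (subRep (R0 f φ) X hX) (8 * p ^ 0) := by rw [pow_zero, mul_one]; exact h8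
  obtain ⟨x, bX⟩ := exists_sb ι p h8' (by omega)
  have uX : Uq f φ (X.map (W0 k).subtype) := by
    refine ⟨ir_map ι p h8, fun Z hZ _ => ?_⟩
    obtain ⟨Y, hY, c, hcY, rfl⟩ := hZ.exists_isV ι p
    rw [huniq Y hY hcY.irr]
  obtain ⟨κ', hκ', x', ν, hν, hx', hSx⟩ := uX.rat hc (n := 8) (by norm_num) (by omega) (fun s hs => bX.mem hs)
    (fun s hs => bX.ne hs) bX.str bX.top
  have hκ : ∀ t, f (κ' t) = ι t := by
    intro t
    have h := RingHom.congr_fun hκ' t
    rw [RingHom.comp_apply, RingHom.comp_apply, iterateFrobenius_zero, RingHom.id_apply] at h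
    exact h
  -- the socle
  have hnosub : ∀ c, c ≠ 8 → ∀ (Y : Submodule k ↥(W0 k)) (hY : ∀ g, ∀ y ∈ Y, R0 f φ g y ∈ Y),
      ¬ IsV (V := ↥Y) ι p (subRep (R0 f φ) Y hY) c := by
    intro c hc8 Y hY h
    have h1 := huniq Y hY h.irr
    subst h1
    exact hc8 (h.uniq ι p h8)
  have hsoc : ∀ c, c ≠ 8 → ¬ InSoc ι p (R0 f φ) c := by
    rintro c hc8 ⟨Y, hY, hYc⟩
    exact hnosub c hc8 Y hY hYc
  have hmem : ∀ c ∈ cf (Sy.{u, u, v} ι p) (R0 f φ), c = 2 ∨ c = 4 ∨ c = 8 := by
    intro c hc'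
    rw [hcf] at hc'
    simp only [Multiset.insert_eq_cons, Multiset.mem_cons, Multiset.mem_singleton] at hc'
    tauto
  have hpow : ∀ (g : Kˣ) (e : ℕ), ι (g : K) ^ e = ι (g : K) ^ (e % 12) := by
    intro g e
    have h := FiniteField.pow_card_sub_one_eq_one (g : K) g.ne_zero
    rw [hK13] at h
    have h' : ι (g : K) ^ 12 = 1 := by rw [← map_pow, h, map_one]
    conv_lhs => rw [← Nat.div_add_mod e 12, pow_add, pow_mul, h', one_pow, one_mul]
  -- the vectors over `k`
  have hup : ∀ (v : I27 → F) (e : ℕ), tr1 v = 0 → (∀ t, RF φ (Cfsg.Agent.H943.SL2Rel.u t) v = v) → Wt κ' φ e v →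
      ∃ V : ↥(W0 k), (V : I27 → k) = (fun i => f (v i)) ∧ V ∈ Ew ι (R0 f φ) (e % 12) := by
    intro v e htr hu hw
    refine ⟨⟨fun i => f (v i), (mem_W0 _).2 (by rw [tr1_up, htr, map_zero])⟩, rfl, fun t => ?_, fun g => ?_⟩
    · apply Subtype.ext
      rw [R0_apply]
      show Rk f φ _ (fun i => f (v i)) = _
      rw [← up_RF, hu]
    · apply Subtype.ext
      rw [R0_apply]
      show Rk f φ _ (fun i => f (v i)) = _
      rw [← up_RF, hw, up_smul, map_pow, hκ, hpow]
      rfl
  have hz : ∀ (v : I27 → F) (V : ↥(W0 k)), (V : I27 → k) = (fun i => f (v i)) → V = 0 → v = 0 := by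
    intro v V h1 h2
    apply up_inj (f := f)
    rw [← h1, h2]
    funext i
    simp
  let xx : ℕ → I27 → F := fun s => if s ≤ 8 then x' s else 0
  have hxx : ∀ s ≤ 8, xx s = x' s := fun s hs => if_pos hs
  have hxx0 : ∀ s, 8 < s → xx s = 0 := fun s hs => if_neg (by omega)
  have htrk : ∀ w ∈ X.map (W0 k).subtype, tr1 w = 0 := by
    rintro _ ⟨w, -, rfl⟩
    exact (mem_W0 _).1 w.2
  have hν2 : ν * ν ≠ 0 := mul_ne_zero hν hν
  -- isotropic
  have hiso : ∀ w ∈ X, ∀ y ∈ X, tf0 k w y = 0 := by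
    have S : SD (R0 f φ) (tf0 k) := ⟨R0_dul f φ h3, fun x y => by rw [tf0_apply, tf0_apply, tf_comm]⟩
    have h9 : finrank k X = 9 := by
      have h1 := bX.finrank
      exact (LinearEquiv.finrank_eq (Submodule.equivMapOfInjective (W0 k).subtype (W0 k).injective_subtype X)).trans h1
    have h10 := S.finrank_orth hX
    rw [finrank_W0, h9] at h10
    have hO0 : orth (tf0 k) X ≠ ⊥ := by
      intro h0
      rw [h0, finrank_bot] at h10
      omega
    obtain ⟨Y, ⟨hY0, hYs, hYO⟩, hmin⟩ := (wellFounded_lt (α := Submodule k ↥(W0 k))).has_min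
      {W | W ≠ ⊥ ∧ (∀ g, ∀ x ∈ W, R0 f φ g x ∈ W) ∧ W ≤ orth (tf0 k) X} ⟨_, hO0, S.orth_inv hX, le_rfl⟩
    have hYX : Y = X := by
      refine huniq Y hYs (irr_of_min _ hYs hY0 fun W' hle hW' => ?_)
      by_contra hcon
      rw [not_or] at hcon
      exact hmin W' ⟨hcon.1, hW', hle.trans hYO⟩ (lt_of_le_of_ne hle hcon.2)
    intro w hw y hy
    rw [← hYX] at hy
    exact hYO hy w hw
  have hisok : ∀ w ∈ X.map (W0 k).subtype, ∀ y ∈ X.map (W0 k).subtype, tf w y = 0 := by
    rintro _ ⟨w, hw, rfl⟩ _ ⟨y, hy, rfl⟩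
    exact hiso w hw y hy
  have htrx : ∀ s, tr1 (xx s) = 0 := by
    intro s
    rcases le_or_gt s 8 with hs | hs
    · rw [hxx s hs]
      apply f.injective
      rw [← tr1_up, hx' s hs, tr1_smul, htrk _ (bX.mem hs), mul_zero, map_zero]
    · rw [hxx0 s hs, ← zero_smul F (0 : I27 → F), tr1_smul, zero_mul]
  have hisx : ∀ s t, tf (xx s) (xx t) = 0 := by
    intro s t
    rcases le_or_gt s 8 with hs | hs
    · rcases le_or_gt t 8 with ht | ht
      · rw [hxx s hs, hxx t ht]
        apply f.injective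
        rw [← map_tf, hx' s hs, hx' t ht, tf_smul_left, tf_smul_right, hisok _ (bX.mem hs) _ (bX.mem ht), mul_zero, mul_zero,
          map_zero]
      · rw [hxx0 t ht, tf_zr]
    · rw [hxx0 s hs, tf_zl]
  have q : Qt κ' φ xx := by
    refine ⟨hK13, hp ▸ hcF, hp ▸ (inferInstance : CharP K p), hSx.ext hxx, hxx0, htrx, hisx, ?_, ?_, ?_, ?_, ?_⟩
    · -- `ne`
      rw [hxx 8 le_rfl]
      intro h0
      have h1 := hx' 8 le_rfl
      rw [h0] at h1
      refine bX.ne (s := 8) le_rfl ?_
      have h4 : ν • x 8 = 0 := by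
        rw [← h1]
        funext i
        simp
      exact (smul_eq_zero.1 h4).resolve_left hν
    · -- `nw`
      by_contra hcon
      have hst0 : ∀ i j, st (xx i) (xx j) = 0 := by
        intro i j
        by_contra h
        exact hcon ⟨i, j, h⟩
      have hcr : ∀ i ≤ 8, ∀ j ≤ 8, cr (x i) (x j) = 0 := by
        intro i hi j hj
        have h1 := hst0 i j
        unfold F4N.st at h1
        rw [hisx, zero_div, zero_smul, add_zero, hxx i hi, hxx j hj] at h1
        have h4 := map_cr f (x' i) (x' j)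
        rw [h1, hx' i hi, hx' j hj, cr_smul_left, cr_smul_right, smul_smul] at h4
        have h5 : (ν * ν) • cr (x i) (x j) = 0 := by
          rw [h4]
          funext i
          simp
        exact (smul_eq_zero.1 h5).resolve_left hν2
      have hcr2 : ∀ w ∈ X.map (W0 k).subtype, ∀ y ∈ X.map (W0 k).subtype, cr w y = 0 := by
        have hc0 : ∀ y : I27 → k, cr 0 y = 0 := fun y => by
          have h := cr_smul_left (0 : k) 0 y
          rwa [zero_smul, zero_smul] at h
        intro w hw y hy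
        rw [bX.sp] at hw hy
        induction hw using Submodule.span_induction with
        | mem w hw =>
          obtain ⟨s, rfl⟩ := hw
          induction hy using Submodule.span_induction with
          | mem y hy =>
            obtain ⟨t, rfl⟩ := hy
            exact hcr s (by omega) t (by omega)
          | zero => rw [cr_comm, hc0]
          | add y z _ _ h1 h2 => rw [cr_add_right, h1, h2, add_zero]
          | smul c y _ h1 => rw [cr_smul_right, h1, smul_zero]
        | zero => rw [hc0]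
        | add w z _ _ h1 h2 => rw [cr_add_left, h1, h2, add_zero]
        | smul c w _ h1 => rw [cr_smul_left, h1, smul_zero]
      have h0 := hwhite (X.map (W0 k).subtype) (ir_map ι p h8).st (fun w hw => by
        have h1 := hcr2 w hw w hw
        rw [cr_self] at h1
        exact (smul_eq_zero.1 h1).resolve_left h2)
      exact (ir_map ι p h8).ne h0
    · -- `fix`
      intro v e htr hu hw h4 h8e
      obtain ⟨V, hV, hVe⟩ := hup v e htr hu hw
      refine hz v V hV ?_
      by_contra hV0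
      obtain ⟨c, hc', hce⟩ := mem_cf_of_hw ι p hV0 hVe.1 hVe.2
      rw [hK13] at hce
      have h12 : e % 12 = 2 := by
        rcases hmem c hc' with rfl | rfl | rfl <;> omega
      rw [h12] at hVe
      obtain ⟨Y, hY, hYc, -⟩ := hw_soc ι p hK (c := 2) (by norm_num) (by omega) (hsoc _ (by omega)) hVe hV0
      exact hnosub 2 (by norm_num) Y hY hYc
    · -- `fix8`
      intro v e htr hu hw h8e
      obtain ⟨V, hV, hVe⟩ := hup v e htr hu hw
      by_cases hV0 : V = 0
      · exact ⟨0, by rw [hz v V hV hV0, zero_smul]⟩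
      rw [h8e] at hVe
      obtain ⟨Y, hY, hYc, hVY⟩ := hw_soc ι p hK (c := 8) (by norm_num) (by omega) (hsoc _ (by omega)) hVe hV0
      rw [huniq Y hY hYc.irr] at hVY
      obtain ⟨c, hc'⟩ := bX.top (V : I27 → k) ⟨V, hVY, rfl⟩ (fun t => congrArg Subtype.val (hVe.1 t))
      rw [hxx 8 le_rfl]
      refine up_coef (f := f) (d := c * ν⁻¹) ?_
      rw [← hV, hc', hx' 8 le_rfl, smul_smul, mul_assoc, inv_mul_cancel₀ hν, mul_one]
    · -- `ss`
      intro v e htr hu hw h4e hS
      obtain ⟨V, hV, hVe⟩ := hup v e htr hu hw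
      refine hz v V hV ?_
      by_contra hV0
      rw [h4e] at hVe
      obtain ⟨Y, hY, hYc, -⟩ := gen_one ι p hK (c := 4) (by norm_num) (by omega) hVe (by
        rw [SS_apply]
        apply Subtype.ext
        rw [Submodule.coe_sum, Submodule.coe_zero]
        have h5 : ∀ t : K, ((R0 f φ (Cfsg.Agent.H943.SL2Rel.u t) (R0 f φ Cfsg.Agent.H943.SL2Rel.w V) : ↥(W0 k)) : I27 → k) =
            fun i => f (RF φ (Cfsg.Agent.H943.SL2Rel.u t) (RF φ Cfsg.Agent.H943.SL2Rel.w v) i) := by
          intro t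
          rw [R0_apply, R0_apply, hV, up_RF, up_RF]
        rw [Finset.sum_congr rfl fun t _ => h5 t, ← up_sum, hS]
        funext i
        simp) hV0
      exact hnosub 4 (by norm_num) Y hY hYc
  -- the end
  have hli : LinearIndependent k (fun s : Fin (8 + 1) => (fun i => f (x' s i) : I27 → k)) := by
    have h4 : (fun s : Fin (8 + 1) => (fun i => f (x' s i) : I27 → k)) = fun s : Fin (8 + 1) => ν • x s := by
      funext s
      exact hx' s (Nat.lt_succ_iff.1 s.2)
    rw [h4]
    exact bX.li.units_smul (fun _ => Units.mk0 ν hν)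
  have hsp : dn f (X.map (W0 k).subtype) = Submodule.span F (Set.range fun s : Fin (8 + 1) => x' s) := by
    refine dn_span (p := p) (b := b) hc.cardF hli ?_
    have h4 : (fun s : Fin (8 + 1) => (fun i => f (x' s i) : I27 → k)) = fun s : Fin (8 + 1) => ν • x s := by
      funext s
      exact hx' s (Nat.lt_succ_iff.1 s.2)
    rw [h4, bX.sp]
    apply le_antisymm
    · rw [Submodule.span_le]
      rintro _ ⟨s, rfl⟩
      have h5 : x s = ν⁻¹ • (ν • x s) := by rw [smul_smul, inv_mul_cancel₀ hν, one_smul]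
      show x s ∈ _
      rw [h5]
      exact Submodule.smul_mem _ _ (Submodule.subset_span ⟨s, rfl⟩)
    · rw [Submodule.span_le]
      rintro _ ⟨s, rfl⟩
      exact Submodule.smul_mem _ _ (Submodule.subset_span ⟨s, rfl⟩)
  have hliF : LinearIndependent F (fun s : Fin (8 + 1) => x' s) := up_li hli
  refine eq_of_onto hc κ' fun c => ?_
  obtain ⟨z, hz⟩ := q.torus c
  have hzx : ∀ s ≤ 8, Jr F z (x' s) = ((c ^ (-4 + (s : ℤ)) : Fˣ) : F) • x' s := by
    intro s hs
    rw [← hxx s hs]
    exact hz s hs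
  refine mem_range hc (n := 8) (by norm_num) (by omega) hSx hliF (U := Submodule.span F (Set.range fun s : Fin (8 + 1) => x' s))
    ?_ ?_ (z := z) ?_ (m := -4) hzx
  · rw [← hsp]
    exact uX.hst hc
  · refine pr_of_finrank ?_ ?_ <;> rw [finrank_span_eq_card hliF, Fintype.card_fin] <;> norm_num
  · intro w hw
    induction hw using Submodule.span_induction with
    | mem w hw =>
      obtain ⟨s, rfl⟩ := hw
      show Jr F z (x' s) ∈ _
      rw [hzx s (Nat.lt_succ_iff.1 s.2)]
      exact Submodule.smul_mem _ _ (Submodule.subset_span ⟨s, rfl⟩)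
    | zero =>
      rw [map_zero]
      exact Submodule.zero_mem _
    | add x y _ _ hx hy =>
      rw [map_add]
      exact Submodule.add_mem _ hx hy
    | smul e x _ hx =>
      rw [map_smul]
      exact Submodule.smul_mem _ _ hx

end Cfsg.Agent.R2.F4N
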