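import Cfsg.Agent.H65.E6Full
import Cfsg.Agent.H952.F4.Defs
import Cfsg.Agent.H952.F4.Inv

/-!
# The group of type `E₆` is transitive on the vectors with `cubicT x = 1`, every field (lead, box F4N)

* `exists_u0` : `cubicT x = 1 → ∃ z ∈ Zgrp F, z x = u0`.
-/

set_option autoImplicit false
set_option linter.unusedSectionVars false

namespace Cfsg.Agent.R2.F4N

open Cfsg Cfsg.Lie Module
open Cfsg.Agent.ChevalleyStructure.E6Min.Tables Cfsg.Agent.ChevalleyStructure.E6Min.Basic
  Cfsg.Agent.ChevalleyStructure.E6Min.Inv Cfsg.Agent.ChevalleyStructure.E6Min.Forms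
  Cfsg.Agent.ChevalleyStructure.E6Min.Elim Cfsg.Agent.ChevalleyStructure.E6Min.Torus
open Cfsg.Agent.H952.F4 (u0)
open scoped Matrix

universe u

/-- the three weights of the unit -/
abbrev c0 : I27 := (0, 0, 0)
abbrev c4 : I27 := (0, 1, 1)
abbrev c8 : I27 := (0, 2, 2)

def chkN (i j : ℕ) : Bool := !((relN 0 i == 2) && (relN 0 j == 2) && (relN i j == 1)) ||
  ((sgN (rtN i j) 0 == 0) && allLt 27 fun x => !(relN 0 x == 1) || (sgN (rtN i j) x == 0) ||
    (relN 0 (srN (rtN i j) x) == 1))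

theorem chk_all : allLt 27 (fun i => allLt 27 fun j => chkN i j) = true := by decide +kernel

theorem chk_spec {i j : I27} (h1 : rel c0 i = 2) (h2 : rel c0 j = 2) (h3 : rel i j = 1) :
    sg (rt i j) c0 = 0 ∧ ∀ x, rel c0 x = 1 → sg (rt i j) x = 0 ∨ rel c0 (sr (rt i j) x) = 1 := by
  have h := allLt_spec (allLt_spec chk_all _ (code_lt i)) _ (code_lt j)
  unfold chkN at h
  simp only [Bool.or_eq_true, Bool.and_eq_true, Bool.not_eq_true', beq_iff_eq, Bool.and_eq_false_iff,
    beq_eq_false_iff_ne] at h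
  have hc : code c0 = 0 := rfl
  have e1 : relN 0 (code i) = 2 := h1
  have e2 : relN 0 (code j) = 2 := h2
  have e3 : relN (code i) (code j) = 1 := h3
  rcases h with h | ⟨h4, h5⟩
  · rcases h with (h | h) | h
    · exact absurd e1 h
    · exact absurd e2 h
    · exact absurd e3 h
  · refine ⟨h4, fun x hx => ?_⟩
    have h6 := allLt_spec h5 _ (code_lt x)
    simp only [Bool.or_eq_true, Bool.not_eq_true', beq_iff_eq, beq_eq_false_iff_ne] at h6
    rcases h6 with (h6 | h6) | h6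
    · exact absurd hx h6
    · exact Or.inl h6
    · right
      have h7 := code_sr (rt_spec h3).1 x
      unfold rel
      rw [h7]
      exact h6

/-- the ten weights opposite to `c0` -/
noncomputable def neigh : List I27 := (Finset.univ.filter fun j => rel c4 j = 1 ∧ rel c0 j = 2).toList

theorem mem_neigh {j : I27} : j ∈ neigh ↔ rel c4 j = 1 ∧ rel c0 j = 2 := by
  unfold neigh
  simp

theorem cases_all : ∀ j : I27, j = c0 ∨ j = c4 ∨ j = c8 ∨ rel c0 j = 1 ∨ (rel c4 j = 1 ∧ rel c0 j = 2) := by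
  decide +kernel

section

variable {F : Type u} [Field F]

/-- supported on `c0` and the weights opposite to `c0` -/
def P0 (w : I27 → F) : Prop := w c0 ≠ 0 ∧ ∀ x, rel c0 x = 1 → w x = 0

theorem keep {w : I27 → F} (hw : P0 w) {i j : I27} (h1 : rel c0 i = 2) (h2 : rel c0 j = 2) (h3 : rel i j = 1) (t : F) :
    P0 (zM (rt i j) t *ᵥ w) := by
  obtain ⟨h4, h5⟩ := chk_spec h1 h2 h3
  refine ⟨?_, fun x hx => ?_⟩
  · rw [zM_mulVec, h4]
    simpa using hw.1
  · rw [zM_mulVec]
    rcases h5 x hx with h6 | h6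
    · rw [h6, hw.2 x hx]; simp
    · rw [hw.2 x hx, hw.2 _ h6]; simp

theorem clear8 {w : I27 → F} (hw : P0 w) (h4 : w c4 ≠ 0) :
    ∀ l : List I27, (∀ j ∈ l, rel c4 j = 1 ∧ rel c0 j = 2) → ∃ z ∈ Zgrp F,
      P0 ((z : Matrix I27 I27 F) *ᵥ w) ∧ ((z : Matrix I27 I27 F) *ᵥ w) c4 = w c4 ∧
      (∀ j ∈ l, ((z : Matrix I27 I27 F) *ᵥ w) j = 0) ∧
      (∀ j, rel c4 j = 1 → j ∉ l → ((z : Matrix I27 I27 F) *ᵥ w) j = w j) := by
  intro l
  induction l with
  | nil =>
    intro _
    refine ⟨1, one_mem _, ?_, ?_, ?_, ?_⟩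
    · rw [Units.val_one, Matrix.one_mulVec]; exact hw
    · rw [Units.val_one, Matrix.one_mulVec]
    · intro j hj; simp at hj
    · intro j _ _; rw [Units.val_one, Matrix.one_mulVec]
  | cons j l ih =>
    intro hl
    obtain ⟨z, hz, hz1, hz2, hz3, hz4⟩ := ih fun k hk => hl k (List.mem_cons_of_mem _ hk)
    obtain ⟨hj, hj0⟩ := hl j List.mem_cons_self
    by_cases hjl : j ∈ l
    · refine ⟨z, hz, hz1, hz2, ?_, ?_⟩
      · intro k hk
        rcases List.mem_cons.mp hk with rfl | hk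
        · exact hz3 _ hjl
        · exact hz3 _ hk
      · intro k hk hkl
        exact hz4 k hk fun h => hkl (List.mem_cons_of_mem _ h)
    · obtain ⟨hr, hsg, hsr, hsi⟩ := rt_spec hj
      have ha : ((sg (rt c4 j) j : ℤ) : F) ≠ 0 := sg_cast_ne_zero hsg
      set t : F := -(w j) / (((sg (rt c4 j) j : ℤ) : F) * w c4) with ht
      refine ⟨zU (rt c4 j) t * z, mul_mem (zU_mem _ _) hz, ?_, ?_, ?_, ?_⟩
      · rw [coe_mul_mulVec, coe_zU hr]
        exact keep hz1 (by decide +kernel) hj0 hj t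
      · rw [coe_mul_mulVec, coe_zU hr, zM_mulVec, hsi, hz2]; simp
      · intro k hk
        rw [coe_mul_mulVec, coe_zU hr, zM_mulVec]
        by_cases hkj : k = j
        · subst hkj
          rw [hsr, hz2, hz4 k hj hjl, ht]
          field_simp
          ring
        · rcases List.mem_cons.mp hk with h | hk
          · exact absurd h hkj
          · rw [Cfsg.Agent.ChevalleyStructure.E6Min.Elim.c4 hj (hl k (List.mem_cons_of_mem _ hk)).1 hkj, hz3 k hk]; simp
      · intro k hk hkl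
        rw [coe_mul_mulVec, coe_zU hr, zM_mulVec]
        have hkj : k ≠ j := fun h => hkl (h ▸ List.mem_cons_self)
        rw [Cfsg.Agent.ChevalleyStructure.E6Min.Elim.c4 hj hk hkj, hz4 k hk fun h => hkl (List.mem_cons_of_mem _ h)]; simp

theorem cubicT_act {z : GL I27 F} (hz : z ∈ Zgrp F) (v : I27 → F) : cubicT ((z : Matrix I27 I27 F) *ᵥ v) = cubicT v :=
  Zgrp_le F hz v

/-- a vector supported on `c0, c4, c8` -/
theorem cubicT_diag {w : I27 → F} (h : ∀ j, j ≠ c0 → j ≠ c4 → j ≠ c8 → w j = 0) : cubicT w = w c0 * w c4 * w c8 := by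
  rw [Cfsg.Agent.ChevalleyStructure.E6Min.Expand.cubicT_expand]
  have e1 := h (0, 0, 1) (by decide) (by decide) (by decide)
  have e2 := h (0, 0, 2) (by decide) (by decide) (by decide)
  have e3 := h (0, 1, 0) (by decide) (by decide) (by decide)
  have e4 := h (0, 1, 2) (by decide) (by decide) (by decide)
  have e5 := h (0, 2, 0) (by decide) (by decide) (by decide)
  have e6 := h (0, 2, 1) (by decide) (by decide) (by decide)
  have f1 : ∀ i j, w (1, i, j) = 0 := fun i j => h _ (by simp) (by simp) (by simp)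
  have f2 : ∀ i j, w (2, i, j) = 0 := fun i j => h _ (by simp) (by simp) (by simp)
  simp only [e1, e2, e3, e4, e5, e6, f1, f2]
  ring

/-- the diagonal element -/
theorem exists_torus {a b c : F} (h : a * b * c = 1) : ∃ z ∈ Zgrp F, ∀ w : I27 → F,
    (∀ j, j ≠ c0 → j ≠ c4 → j ≠ c8 → w j = 0) → w c0 = a → w c4 = b → w c8 = c → (z : Matrix I27 I27 F) *ᵥ w = u0 F := by
  have ha : a ≠ 0 := by rintro rfl; simp at h
  have hb : b ≠ 0 := by rintro rfl; simp at h
  have hc : c ≠ 0 := by rintro rfl; simp at h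
  let d : Fin 3 → F := ![a, b, c]
  have hd : ∀ i, d i ≠ 0 := by
    intro i
    fin_cases i
    · exact ha
    · exact hb
    · exact hc
  let f : I27 → F := fun x => if x.1 = 0 then (d x.2.1)⁻¹ else if x.1 = 1 then 1 else d x.2.2
  have hf : ∀ x, f x ≠ 0 := by
    intro x
    show (if x.1 = 0 then (d x.2.1)⁻¹ else if x.1 = 1 then 1 else d x.2.2) ≠ 0
    split_ifs
    · exact inv_ne_zero (hd _)
    · exact one_ne_zero
    · exact hd _
  have hdet : IsUnit (Matrix.diagonal f).det := by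
    rw [Matrix.det_diagonal, isUnit_iff_ne_zero]
    exact Finset.prod_ne_zero_iff.2 fun x _ => hf x
  let g : GL I27 F := Matrix.GeneralLinearGroup.mk'' (Matrix.diagonal f) hdet
  have hg : ∀ (v : I27 → F) x, ((g : Matrix I27 I27 F) *ᵥ v) x = f x * v x := fun v x => by
    show (Matrix.diagonal f *ᵥ v) x = _
    rw [Matrix.mulVec_diagonal]
  have hmem : g ∈ E6univ F := by
    rw [mem_E6univ_iff]
    intro v
    have m0 : mat3 ((g : Matrix I27 I27 F) *ᵥ v) 0 = Matrix.diagonal (fun i => (d i)⁻¹) * mat3 v 0 := by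
      ext i j
      rw [Matrix.diagonal_mul]
      exact hg v (0, i, j)
    have m1 : mat3 ((g : Matrix I27 I27 F) *ᵥ v) 1 = mat3 v 1 := by
      ext i j
      show ((g : Matrix I27 I27 F) *ᵥ v) (1, i, j) = v (1, i, j)
      rw [hg]
      show 1 * v (1, i, j) = _
      rw [one_mul]
    have m2 : mat3 ((g : Matrix I27 I27 F) *ᵥ v) 2 = mat3 v 2 * Matrix.diagonal d := by
      ext i j
      rw [Matrix.mul_diagonal]
      show ((g : Matrix I27 I27 F) *ᵥ v) (2, i, j) = v (2, i, j) * d j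
      rw [hg, mul_comm]
      rfl
    have d1 : (Matrix.diagonal d).det = 1 := by
      rw [Matrix.det_diagonal, Fin.prod_univ_three]
      exact h
    have d2 : (Matrix.diagonal fun i => (d i)⁻¹).det = 1 := by
      rw [Matrix.det_diagonal, Fin.prod_univ_three]
      show a⁻¹ * b⁻¹ * c⁻¹ = 1
      rw [← mul_inv, ← mul_inv, h, inv_one]
    have d3 : Matrix.diagonal d * (Matrix.diagonal fun i => (d i)⁻¹) = (1 : Matrix (Fin 3) (Fin 3) F) := by
      rw [Matrix.diagonal_mul_diagonal, ← Matrix.diagonal_one]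
      congr 1
      funext i
      exact mul_inv_cancel₀ (hd i)
    unfold cubicT
    rw [m0, m1, m2, Matrix.det_mul, Matrix.det_mul, d1, d2, one_mul, mul_one]
    congr 1
    rw [← mul_assoc, Matrix.trace_mul_comm, ← mul_assoc, ← mul_assoc, ← mul_assoc, d3, one_mul]
  have hsc : ∀ m, Scales g m := by
    intro m
    refine ⟨f m, hf m, ?_⟩
    funext x
    rw [hg, Pi.smul_apply, smul_eq_mul, e_apply]
    split_ifs with hx
    · rw [hx]
    · rw [mul_zero, mul_zero]
  refine ⟨g, diag_mem hmem hsc, fun w hw ha' hb' hc' => ?_⟩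
  funext x
  rw [hg]
  by_cases h0 : x = c0
  · subst h0
    rw [ha']
    show a⁻¹ * a = _
    rw [inv_mul_cancel₀ ha]
    simp [u0]
  by_cases h4 : x = c4
  · subst h4
    rw [hb']
    show b⁻¹ * b = _
    rw [inv_mul_cancel₀ hb]
    simp [u0]
  by_cases h8 : x = c8
  · subst h8
    rw [hc']
    show c⁻¹ * c = _
    rw [inv_mul_cancel₀ hc]
    simp [u0]
  rw [hw x h0 h4 h8, mul_zero]
  unfold u0
  rw [if_neg]
  revert x
  decide

/-- **transitivity** -/
theorem exists_u0 {v : I27 → F} (hv : cubicT v = 1) : ∃ z ∈ Zgrp F, (z : Matrix I27 I27 F) *ᵥ v = u0 F := by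
  -- the coordinate `c0`
  obtain ⟨j, hj⟩ : ∃ j, v j ≠ 0 := by
    by_contra hcon
    push Not at hcon
    rw [cubicT_diag fun j _ _ _ => hcon j, hcon c0] at hv
    simp at hv
  have hp : ∀ j : I27, pathN [] 0 (code j) = true := by decide +kernel
  obtain ⟨z1, hz1, -, h1⟩ := path_spec (M := []) (i := c0) (hp j) v hj
  obtain ⟨z2, hz2, -, h2, h3, -⟩ := clear_aux ((z1 : Matrix I27 I27 F) *ᵥ v) h1 [] (by simp) (by simp)
    ((Finset.univ.filter fun j => rel c0 j = 1).toList) (by intro j hj; simpa using hj)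
  rw [← coe_mul_mulVec] at h2 h3
  set w := ((z2 * z1 : GL I27 F) : Matrix I27 I27 F) *ᵥ v with hw
  have hw0 : P0 w := ⟨by rw [h2]; exact h1, fun x hx => h3 x (by simpa using hx)⟩
  have hwc : cubicT w = 1 := by rw [hw, cubicT_act (mul_mem hz2 hz1), hv]
  -- the coordinate `c4`
  obtain ⟨z3, hz3, hP3, h4⟩ : ∃ z3 ∈ Zgrp F, P0 ((z3 : Matrix I27 I27 F) *ᵥ w) ∧
      ((z3 : Matrix I27 I27 F) *ᵥ w) c4 ≠ 0 := by
    by_cases h40 : w c4 = 0
    · obtain ⟨j, hj1, hj2, hj⟩ : ∃ j, rel c4 j = 1 ∧ rel c0 j = 2 ∧ w j ≠ 0 := by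
        by_contra hcon
        push Not at hcon
        have h5 : ∀ j, j ≠ c0 → j ≠ c4 → j ≠ c8 → w j = 0 := by
          intro j ha hb hc
          rcases cases_all j with h | h | h | h | h
          · exact absurd h ha
          · exact absurd h hb
          · exact absurd h hc
          · exact hw0.2 j h
          · exact hcon j h.1 h.2
        rw [cubicT_diag h5, h40] at hwc
        simp at hwc
      have hj3 : rel j c4 = 1 := by rw [rel_symm]; exact hj1
      obtain ⟨hr, hsg, hsr, hsi⟩ := rt_spec hj3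
      refine ⟨zU (rt j c4) 1, zU_mem _ _, ?_, ?_⟩
      · rw [coe_zU hr]
        exact keep hw0 hj2 (by decide +kernel) hj3 1
      · rw [coe_zU hr, zM_mulVec, h40, hsr, one_mul, zero_add]
        exact mul_ne_zero (sg_cast_ne_zero hsg) hj
    · exact ⟨1, one_mem _, by rw [Units.val_one, Matrix.one_mulVec]; exact hw0, by
        rw [Units.val_one, Matrix.one_mulVec]; exact h40⟩
  obtain ⟨z4, hz4, hP4, h5, h6, -⟩ := clear8 hP3 h4 neigh fun j hj => mem_neigh.1 hj
  rw [← coe_mul_mulVec] at hP4 h5 h6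
  set w' := ((z4 * z3 : GL I27 F) : Matrix I27 I27 F) *ᵥ w with hw'
  have hwc' : cubicT w' = 1 := by rw [hw', cubicT_act (mul_mem hz4 hz3), hwc]
  have hsupp : ∀ j, j ≠ c0 → j ≠ c4 → j ≠ c8 → w' j = 0 := by
    intro j ha hb hc
    rcases cases_all j with h | h | h | h | h
    · exact absurd h ha
    · exact absurd h hb
    · exact absurd h hc
    · exact hP4.2 j h
    · exact h6 j (mem_neigh.2 h)
  rw [cubicT_diag hsupp] at hwc'
  obtain ⟨z5, hz5, h7⟩ := exists_torus hwc'
  refine ⟨z5 * (z4 * z3) * (z2 * z1), mul_mem (mul_mem hz5 (mul_mem hz4 hz3)) (mul_mem hz2 hz1), ?_⟩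
  rw [coe_mul_mulVec, coe_mul_mulVec]
  exact h7 w' hsupp rfl rfl rfl

end

end Cfsg.Agent.R2.F4N
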