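import Cfsg.Agent.H952.F4.Defs

/-!
# A lower bound for the number of vectors with `cubicT x = 1` (lead, box F4N)

* `card_ge` : `q ^ 20 (q ^ 3 - 1) ^ 2 ≤ #{x | cubicT x = 1}`.
-/

set_option autoImplicit false
set_option linter.unusedSectionVars false

namespace Cfsg.Agent.R2.F4N

open Cfsg Cfsg.Lie Module
open Cfsg.Agent.H952.F4 (ofM)
open Finset
open scoped Matrix

universe u v w

section fib

theorem card_fib {V : Type v} {W : Type w} [AddCommGroup V] [AddCommGroup W] [Fintype V] [Fintype W] [DecidableEq W]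
    (f : V →+ W) (hf : Function.Surjective f) (y : W) :
    (univ.filter fun x => f x = y).card * Fintype.card W = Fintype.card V := by
  classical
  have h1 : ∀ y' : W, (univ.filter fun x => f x = y').card = (univ.filter fun x => f x = y).card := by
    intro y'
    obtain ⟨a, ha⟩ := hf (y - y')
    refine Finset.card_bij (fun x _ => x + a) ?_ ?_ ?_
    · intro x hx
      rw [mem_filter] at hx ⊢
      refine ⟨mem_univ _, ?_⟩
      rw [map_add, ha, hx.2]
      abel
    · intro x _ x' _ h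
      exact add_right_cancel h
    · intro x hx
      rw [mem_filter] at hx
      refine ⟨x - a, ?_, by abel⟩
      rw [mem_filter]
      refine ⟨mem_univ _, ?_⟩
      rw [map_sub, ha, hx.2]
      abel
  have h2 := Finset.card_eq_sum_card_fiberwise (s := (univ : Finset V)) (t := (univ : Finset W)) (f := f)
    (fun x _ => mem_coe.2 (mem_univ _))
  rw [Finset.card_univ] at h2
  rw [h2, Finset.sum_congr rfl fun y' _ => h1 y', Finset.sum_const, Finset.card_univ, smul_eq_mul, mul_comm]

end fib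

variable {F : Type u} [Field F] [Fintype F] [DecidableEq F]

local notation "q" => Fintype.card F

theorem card_dot {l : Fin 3 → F} (hl : l ≠ 0) (s : F) : (univ.filter fun r : Fin 3 → F => r ⬝ᵥ l = s).card = q ^ 2 := by
  classical
  let f : (Fin 3 → F) →+ F :=
    { toFun := fun r => r ⬝ᵥ l
      map_zero' := by simp
      map_add' := fun a b => by simp [add_dotProduct] }
  have hf : Function.Surjective f := by
    intro y
    obtain ⟨i, hi⟩ := Function.ne_iff.1 hl
    refine ⟨Pi.single i (y * (l i)⁻¹), ?_⟩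
    show Pi.single i (y * (l i)⁻¹) ⬝ᵥ l = y
    rw [single_dotProduct, mul_assoc, inv_mul_cancel₀ hi, mul_one]
  have h1 := card_fib f hf s
  have h2 : Fintype.card (Fin 3 → F) = q ^ 3 := by rw [Fintype.card_fun, Fintype.card_fin]
  rw [h2] at h1
  have hq : 0 < q := Fintype.card_pos
  have h3 : (univ.filter fun r : Fin 3 → F => r ⬝ᵥ l = s).card * q = q ^ 2 * q := by
    rw [← pow_succ]
    exact h1
  exact Nat.eq_of_mul_eq_mul_right hq h3

theorem card_mat : Fintype.card (Matrix (Fin 3) (Fin 3) F) = q ^ 9 := by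
  rw [Fintype.card_congr (Matrix.of (m := Fin 3) (n := Fin 3) (α := F)).symm, Fintype.card_fun, Fintype.card_fun,
    Fintype.card_fin, ← pow_mul]

theorem card_mulVec {c : Fin 3 → F} (hc : c ≠ 0) (y : Fin 3 → F) :
    (univ.filter fun B : Matrix (Fin 3) (Fin 3) F => B *ᵥ c = y).card = q ^ 6 := by
  classical
  let f : Matrix (Fin 3) (Fin 3) F →+ (Fin 3 → F) :=
    { toFun := fun B => B *ᵥ c
      map_zero' := by simp
      map_add' := fun a b => by simp [Matrix.add_mulVec] }
  have hf : Function.Surjective f := by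
    intro y
    obtain ⟨i, hi⟩ := Function.ne_iff.1 hc
    refine ⟨Matrix.of fun a b => if b = i then y a * (c i)⁻¹ else 0, ?_⟩
    show (Matrix.of fun a b => if b = i then y a * (c i)⁻¹ else 0) *ᵥ c = y
    funext a
    simp only [Matrix.mulVec, dotProduct, Matrix.of_apply, ite_mul, zero_mul, Finset.sum_ite_eq', Finset.mem_univ, if_true]
    rw [mul_assoc, inv_mul_cancel₀ hi, mul_one]
  have h1 := card_fib f hf y
  have h2 : Fintype.card (Fin 3 → F) = q ^ 3 := by rw [Fintype.card_fun, Fintype.card_fin]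
  rw [h2, card_mat] at h1
  have hq : 0 < q ^ 3 := pow_pos Fintype.card_pos _
  have h3 : (univ.filter fun B : Matrix (Fin 3) (Fin 3) F => B *ᵥ c = y).card * q ^ 3 = q ^ 6 * q ^ 3 := by
    rw [← pow_add]
    exact h1
  exact Nat.eq_of_mul_eq_mul_right hq h3

theorem card_col (y : Fin 3 → F) :
    (univ.filter fun C : Matrix (Fin 3) (Fin 3) F => (fun j => C j 2) = y).card = q ^ 6 := by
  classical
  let f : Matrix (Fin 3) (Fin 3) F →+ (Fin 3 → F) :=
    { toFun := fun B => fun j => B j 2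
      map_zero' := by funext j; simp
      map_add' := fun a b => by funext j; simp }
  have hf : Function.Surjective f := by
    intro y
    exact ⟨Matrix.of fun a b => y a, rfl⟩
  have h1 := card_fib f hf y
  have h2 : Fintype.card (Fin 3 → F) = q ^ 3 := by rw [Fintype.card_fun, Fintype.card_fin]
  rw [h2, card_mat] at h1
  have hq : 0 < q ^ 3 := pow_pos Fintype.card_pos _
  have h3 : (univ.filter fun C : Matrix (Fin 3) (Fin 3) F => (fun j => C j 2) = y).card * q ^ 3 = q ^ 6 * q ^ 3 := by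
    rw [← pow_add]
    exact h1
  exact Nat.eq_of_mul_eq_mul_right hq h3

/-- the matrix with rows `u 0, u 1, r` -/
def rowM (u : Fin 2 → Fin 3 → F) (r : Fin 3 → F) : Matrix (Fin 3) (Fin 3) F := Matrix.of ![u 0, u 1, r]

/-- the linear coefficient -/
def Lc (u : Fin 2 → Fin 3 → F) (C B : Matrix (Fin 3) (Fin 3) F) : Fin 3 → F :=
  ![u 0 1 * u 1 2 - u 0 2 * u 1 1, u 0 2 * u 1 0 - u 0 0 * u 1 2, u 0 0 * u 1 1 - u 0 1 * u 1 0] - B *ᵥ fun j => C j 2

theorem cubicT_ofM (A B C : Matrix (Fin 3) (Fin 3) F) :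
    cubicT (ofM A B C) = A.det + B.det + C.det - (A * B * C).trace := by
  have h0 : mat3 (ofM A B C) 0 = A := by
    ext i j
    simp [mat3, ofM]
  have h1 : mat3 (ofM A B C) 1 = B := by
    ext i j
    simp [mat3, ofM]
  have h2 : mat3 (ofM A B C) 2 = C := by
    ext i j
    simp [mat3, ofM]
  unfold cubicT
  rw [h0, h1, h2]

theorem cubicT_row (u : Fin 2 → Fin 3 → F) (C B : Matrix (Fin 3) (Fin 3) F) (r : Fin 3 → F) :
    cubicT (ofM (rowM u r) B C) = r ⬝ᵥ Lc u C B + cubicT (ofM (rowM u 0) B C) := by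
  rw [cubicT_ofM, cubicT_ofM]
  simp only [rowM, Lc, Matrix.det_fin_three, Matrix.trace, Matrix.diag, Fin.sum_univ_three, Matrix.mul_apply,
    dotProduct, Matrix.mulVec, Matrix.of_apply, Matrix.cons_val', Matrix.cons_val_zero, Matrix.cons_val_one,
    Matrix.cons_val, Pi.sub_apply, Pi.zero_apply]
  ring

theorem card_ge : q ^ 20 * (q ^ 3 - 1) ^ 2 ≤ (univ.filter fun x : I27 → F => cubicT x = 1).card := by
  classical
  -- the parameters
  let P : Type u := (Fin 2 → Fin 3 → F) × Matrix (Fin 3) (Fin 3) F × Matrix (Fin 3) (Fin 3) F × (Fin 3 → F)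
  let N : P → F := fun p => cubicT (ofM (rowM p.1 p.2.2.2) p.2.2.1 p.2.1)
  have h1 : (univ.filter fun p : P => N p = 1).card ≤ (univ.filter fun x : I27 → F => cubicT x = 1).card := by
    refine Finset.card_le_card_of_injOn (fun p => ofM (rowM p.1 p.2.2.2) p.2.2.1 p.2.1) ?_ ?_
    · intro p hp
      rw [mem_coe, mem_filter] at hp ⊢
      exact ⟨mem_univ _, hp.2⟩
    · rintro ⟨a, c, b, r⟩ _ ⟨a', c', b', r'⟩ _ h
      have h' : ofM (rowM a r) b c = ofM (rowM a' r') b' c' := h
      have k0 : ∀ i j, rowM a r i j = rowM a' r' i j := fun i j => by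
        have := congrFun h' (0, i, j)
        simpa [ofM] using this
      have k1 : ∀ i j, b i j = b' i j := fun i j => by
        have := congrFun h' (1, i, j)
        simpa [ofM] using this
      have k2 : ∀ i j, c i j = c' i j := fun i j => by
        have := congrFun h' (2, i, j)
        simpa [ofM] using this
      have e1 : b = b' := Matrix.ext k1
      have e2 : c = c' := Matrix.ext k2
      have e3 : r = r' := by
        funext j
        exact k0 2 j
      have e4 : a = a' := by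
        funext i j
        fin_cases i
        · exact k0 0 j
        · exact k0 1 j
      rw [e1, e2, e3, e4]
  refine le_trans ?_ h1
  rw [Finset.card_filter, Fintype.sum_prod_type]
  -- the fibres
  have h2 : ∀ (a : Fin 2 → Fin 3 → F) (c b : Matrix (Fin 3) (Fin 3) F), Lc a c b ≠ 0 →
      (∑ r : Fin 3 → F, if N (a, c, b, r) = 1 then 1 else 0) = q ^ 2 := by
    intro a c b hL
    rw [← Finset.card_filter]
    have h3 : (univ.filter fun r : Fin 3 → F => N (a, c, b, r) = 1) =
        univ.filter fun r : Fin 3 → F => r ⬝ᵥ Lc a c b = 1 - cubicT (ofM (rowM a 0) b c) := by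
      ext r
      rw [mem_filter, mem_filter]
      have h4 : N (a, c, b, r) = r ⬝ᵥ Lc a c b + cubicT (ofM (rowM a 0) b c) := cubicT_row a c b r
      rw [h4, eq_sub_iff_add_eq]
    rw [h3, card_dot hL]
  have h3 : ∀ (a : Fin 2 → Fin 3 → F) (c : Matrix (Fin 3) (Fin 3) F), (fun j => c j 2) ≠ 0 →
      (q ^ 9 - q ^ 6) * q ^ 2 ≤ ∑ b : Matrix (Fin 3) (Fin 3) F, ∑ r : Fin 3 → F, if N (a, c, b, r) = 1 then 1 else 0 := by
    intro a c hc
    have h4 : (univ.filter fun b : Matrix (Fin 3) (Fin 3) F => Lc a c b ≠ 0).card = q ^ 9 - q ^ 6 := by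
      have h5 := card_mulVec hc ![a 0 1 * a 1 2 - a 0 2 * a 1 1, a 0 2 * a 1 0 - a 0 0 * a 1 2,
        a 0 0 * a 1 1 - a 0 1 * a 1 0]
      have h6 : (univ.filter fun b : Matrix (Fin 3) (Fin 3) F => Lc a c b ≠ 0) =
          univ \ (univ.filter fun b : Matrix (Fin 3) (Fin 3) F => (b *ᵥ fun j => c j 2) =
            ![a 0 1 * a 1 2 - a 0 2 * a 1 1, a 0 2 * a 1 0 - a 0 0 * a 1 2, a 0 0 * a 1 1 - a 0 1 * a 1 0]) := by
        ext b
        simp only [mem_filter, mem_sdiff, mem_univ, true_and]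
        unfold Lc
        rw [Ne, sub_eq_zero, eq_comm]
      rw [h6, Finset.card_sdiff_of_subset (Finset.subset_univ _), h5, Finset.card_univ, card_mat]
    calc (q ^ 9 - q ^ 6) * q ^ 2 = ∑ b ∈ (univ.filter fun b : Matrix (Fin 3) (Fin 3) F => Lc a c b ≠ 0), q ^ 2 := by
          rw [Finset.sum_const, smul_eq_mul, h4]
      _ = ∑ b ∈ (univ.filter fun b : Matrix (Fin 3) (Fin 3) F => Lc a c b ≠ 0),
          ∑ r : Fin 3 → F, (if N (a, c, b, r) = 1 then 1 else 0) :=
          Finset.sum_congr rfl fun b hb => (h2 a c b (mem_filter.1 hb).2).symm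
      _ ≤ _ := Finset.sum_le_sum_of_subset (Finset.subset_univ _)
  have h4 : (univ.filter fun c : Matrix (Fin 3) (Fin 3) F => (fun j => c j 2) ≠ 0).card = q ^ 9 - q ^ 6 := by
    have h5 := card_col (F := F) 0
    have h6 : (univ.filter fun c : Matrix (Fin 3) (Fin 3) F => (fun j => c j 2) ≠ 0) =
        univ \ (univ.filter fun c : Matrix (Fin 3) (Fin 3) F => (fun j => c j 2) = 0) := by
      ext b
      simp only [mem_filter, mem_sdiff, mem_univ, true_and, ne_eq]
    rw [h6, Finset.card_sdiff_of_subset (Finset.subset_univ _), h5, Finset.card_univ, card_mat]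
  have h5 : ∀ a : Fin 2 → Fin 3 → F, (q ^ 9 - q ^ 6) * ((q ^ 9 - q ^ 6) * q ^ 2) ≤
      ∑ x : Matrix (Fin 3) (Fin 3) F × Matrix (Fin 3) (Fin 3) F × (Fin 3 → F), if N (a, x) = 1 then 1 else 0 := by
    intro a
    rw [Fintype.sum_prod_type]
    calc (q ^ 9 - q ^ 6) * ((q ^ 9 - q ^ 6) * q ^ 2) =
        ∑ c ∈ (univ.filter fun c : Matrix (Fin 3) (Fin 3) F => (fun j => c j 2) ≠ 0), (q ^ 9 - q ^ 6) * q ^ 2 := by
          rw [Finset.sum_const, smul_eq_mul, h4]
      _ ≤ ∑ c ∈ (univ.filter fun c : Matrix (Fin 3) (Fin 3) F => (fun j => c j 2) ≠ 0),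
          ∑ y : Matrix (Fin 3) (Fin 3) F × (Fin 3 → F), (if N (a, c, y) = 1 then 1 else 0) := by
          refine Finset.sum_le_sum fun c hc => ?_
          rw [Fintype.sum_prod_type]
          exact h3 a c (mem_filter.1 hc).2
      _ ≤ _ := Finset.sum_le_sum_of_subset (Finset.subset_univ _)
  have h6 : Fintype.card (Fin 2 → Fin 3 → F) = q ^ 6 := by
    rw [Fintype.card_fun, Fintype.card_fun, Fintype.card_fin, Fintype.card_fin, ← pow_mul]
  have h7 : q ^ 9 - q ^ 6 = q ^ 6 * (q ^ 3 - 1) := by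
    rw [Nat.mul_sub, ← pow_add, mul_one]
  calc q ^ 20 * (q ^ 3 - 1) ^ 2 = ∑ _a : Fin 2 → Fin 3 → F, (q ^ 9 - q ^ 6) * ((q ^ 9 - q ^ 6) * q ^ 2) := by
        rw [Finset.sum_const, Finset.card_univ, smul_eq_mul, h6, h7]
        ring
    _ ≤ _ := Finset.sum_le_sum fun a _ => h5 a

end Cfsg.Agent.R2.F4N
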