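import Mathlib

/-!
# Endomorphisms of finite order over a field with enough roots of unity (lead, S5931)
-/

set_option autoImplicit false

namespace Cfsg.Agent.R2.F4N

open Finset

universe u v

variable {F : Type u} [Field F] {V : Type v} [AddCommGroup V] [Module F V]

/-- the projection to the eigenspace, up to the factor `n` -/
noncomputable def prj (A : Module.End F V) (n : ℕ) (ζ : F) (e : ℕ) (v : V) : V :=
  ∑ j ∈ range n, (ζ⁻¹ ^ e) ^ j • (A ^ j) v

theorem prj_eig {A : Module.End F V} {n : ℕ} {ζ : F} (hζ : ζ ^ n = 1) (hn : 0 < n) (hA : A ^ n = 1) (e : ℕ) (v : V) :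
    A (prj A n ζ e v) = ζ ^ e • prj A n ζ e v := by
  have hζ0 : ζ ≠ 0 := by
    rintro rfl
    rw [zero_pow (by omega)] at hζ
    exact zero_ne_one hζ
  have h1 : ∀ j, A ((ζ⁻¹ ^ e) ^ j • (A ^ j) v) = ζ ^ e • ((ζ⁻¹ ^ e) ^ (j + 1) • (A ^ (j + 1)) v) := by
    intro j
    rw [map_smul, pow_succ' A j, Module.End.mul_apply, smul_smul, pow_succ (ζ⁻¹ ^ e) j]
    congr 1
    have : ζ ^ e * ζ⁻¹ ^ e = 1 := by rw [← mul_pow, mul_inv_cancel₀ hζ0, one_pow]
    calc (ζ⁻¹ ^ e) ^ j = (ζ⁻¹ ^ e) ^ j * (ζ ^ e * ζ⁻¹ ^ e) := by rw [this, mul_one]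
      _ = _ := by ring
  unfold prj
  rw [map_sum, Finset.smul_sum]
  simp only [h1]
  rw [← Finset.smul_sum, ← Finset.smul_sum]
  congr 1
  have h2 := Finset.sum_range_succ (fun j => (ζ⁻¹ ^ e) ^ j • (A ^ j) v) n
  have h3 := Finset.sum_range_succ' (fun j => (ζ⁻¹ ^ e) ^ j • (A ^ j) v) n
  have h4 : (ζ⁻¹ ^ e) ^ n = 1 := by rw [← pow_mul, mul_comm, pow_mul, inv_pow, hζ, inv_one, one_pow]
  rw [h3] at h2
  simp only [h4, hA, pow_zero] at h2
  exact add_right_cancel h2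

theorem sum_prj {A : Module.End F V} {n : ℕ} {ζ : F} (hζ : IsPrimitiveRoot ζ n) (hn : 0 < n) (v : V) :
    ∑ e ∈ range n, prj A n ζ e v = (n : F) • v := by
  unfold prj
  rw [Finset.sum_comm, Finset.sum_eq_single 0]
  · simp [Nat.cast_smul_eq_nsmul]
  · intro j hj hj0
    rw [mem_range] at hj
    rw [← Finset.sum_smul]
    have h1 : ∑ e ∈ range n, (ζ⁻¹ ^ e) ^ j = 0 := by
      have h2 : ∀ e, (ζ⁻¹ ^ e) ^ j = (ζ⁻¹ ^ j) ^ e := fun e => by rw [← pow_mul, ← pow_mul, mul_comm]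
      simp only [h2]
      have h3 : ζ⁻¹ ^ j ≠ 1 := by
        intro h4
        rw [inv_pow, inv_eq_one] at h4
        exact hj0 (Nat.eq_zero_of_dvd_of_lt ((hζ.pow_eq_one_iff_dvd j).1 h4) hj)
      have h5 := mul_geom_sum (ζ⁻¹ ^ j) n
      have h6 : (ζ⁻¹ ^ j) ^ n = 1 := by rw [← pow_mul, mul_comm, pow_mul, inv_pow, hζ.pow_eq_one, inv_one, one_pow]
      rw [h6, sub_self] at h5
      exact (mul_eq_zero.1 h5).resolve_left (sub_ne_zero.2 h3)
    rw [h1, zero_smul]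
  · intro h
    exact absurd (mem_range.2 hn) h

/-- the eigenspaces span -/
theorem iSup_eig {A : Module.End F V} {n : ℕ} {ζ : F} (hζ : IsPrimitiveRoot ζ n) (hn : 0 < n) (hnF : (n : F) ≠ 0)
    (hA : A ^ n = 1) {I : Type*} (ν : I → F) (hν : ∀ μ : F, ∀ v : V, v ≠ 0 → A v = μ • v → ∃ i, ν i = μ) :
    ⨆ i, Module.End.eigenspace A (ν i) = ⊤ := by
  rw [eq_top_iff]
  intro v _
  have h1 : v = (n : F)⁻¹ • ∑ e ∈ range n, prj A n ζ e v := by
    rw [sum_prj hζ hn, smul_smul, inv_mul_cancel₀ hnF, one_smul]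
  rw [h1]
  refine Submodule.smul_mem _ _ (Submodule.sum_mem _ fun e _ => ?_)
  by_cases h0 : prj A n ζ e v = 0
  · rw [h0]
    exact Submodule.zero_mem _
  · have h2 := prj_eig hζ.pow_eq_one hn hA e v
    obtain ⟨i, hi⟩ := hν _ _ h0 h2
    refine Submodule.mem_iSup_of_mem i ?_
    rw [Module.End.mem_eigenspace_iff, hi]
    exact h2

/-- a basis of eigenvectors -/
theorem exists_eig_basis {A : Module.End F V} [FiniteDimensional F V] {n : ℕ} {ζ : F} (hζ : IsPrimitiveRoot ζ n) (hn : 0 < n)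
    (hnF : (n : F) ≠ 0) (hA : A ^ n = 1) {I : Type} [Fintype I] [DecidableEq I] (ν : I → F) (hinj : Function.Injective ν)
    (hν : ∀ μ : F, ∀ v : V, v ≠ 0 → A v = μ • v → ∃ i, ν i = μ) :
    ∃ (J : Type) (_ : Fintype J) (B : Module.Basis J F V) (m : J → I), (∀ j, A (B j) = ν (m j) • B j) ∧
      ∀ i v, A v = ν i • v → ∀ j, B.repr v j ≠ 0 → m j = i := by
  classical
  have hint : DirectSum.IsInternal (fun i => Module.End.eigenspace A (ν i)) := by
    rw [DirectSum.isInternal_submodule_iff_iSupIndep_and_iSup_eq_top]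
    exact ⟨(Module.End.eigenspaces_iSupIndep A).comp hinj, iSup_eig hζ hn hnF hA ν hν⟩
  let b : ∀ i, Module.Basis (Fin (Module.finrank F (Module.End.eigenspace A (ν i)))) F (Module.End.eigenspace A (ν i)) :=
    fun i => Module.finBasis F _
  refine ⟨Σ i, Fin (Module.finrank F (Module.End.eigenspace A (ν i))), inferInstance, hint.collectedBasis b, fun j => j.1,
    fun j => ?_, fun i v hv j hj => ?_⟩
  · exact Module.End.mem_eigenspace_iff.1 (hint.collectedBasis_mem b j)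
  · by_contra hne
    apply hj
    exact hint.collectedBasis_repr_of_mem_ne b (Ne.symm hne) (Module.End.mem_eigenspace_iff.2 hv)

end Cfsg.Agent.R2.F4N
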