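import Mathlib
import Cfsg.Agent.H943.SL2Rel

/-!
# Trilinear invariants of `SL(2, K)` have exact weights (lead, S5931)

`Str κ ρ n v` : the vectors `v 0, …, v n` are a standard basis of `V_n` (`κ : K →+* k`).

* `exact_of` : `N` trilinear, invariant, strings of lengths `i, j, l < p`, `i + j + l = 2 s`; if `N (x 0) (y j) (z c) = 0` for
  `c + j ≠ s`, then `N (x a) (y b) (z c) = 0` for `a + b + c ≠ s`;
* `exact` : the same if `i + j < l + (|K| - 1)`.
-/

set_option autoImplicit false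
set_option linter.unusedSectionVars false

namespace Cfsg.Agent.R2.F4N

open Matrix Cfsg.Agent.H943.SL2Rel Finset

universe u v w

section coef

variable {k : Type u} [Field k] {K : Type w} [Field K] [Fintype K] (κ : K →+* k)

theorem coef_zero {d : ℕ} (hd : d ≤ Fintype.card K) {c : ℕ → k} (h : ∀ t : K, ∑ j ∈ range d, c j * κ t ^ j = 0) :
    ∀ j < d, c j = 0 := by
  classical
  rcases Nat.eq_zero_or_pos d with h0 | h0
  · intro j hj
    omega
  let P : Polynomial k := ∑ j ∈ range d, Polynomial.C (c j) * Polynomial.X ^ j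
  have hdeg : P.natDegree < Fintype.card K := by
    refine lt_of_lt_of_le (Nat.lt_of_le_of_lt (Polynomial.natDegree_sum_le_of_forall_le (n := d - 1) _ _ ?_)
      (by omega : d - 1 < d)) hd
    intro j hj
    refine (Polynomial.natDegree_C_mul_X_pow_le _ _).trans ?_
    have := mem_range.1 hj
    omega
  have hP : P = 0 := by
    refine Polynomial.eq_zero_of_natDegree_lt_card_of_eval_eq_zero P κ.injective (fun t => ?_) hdeg
    rw [Polynomial.eval_finset_sum, ← h t]
    refine Finset.sum_congr rfl fun j _ => ?_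
    rw [Polynomial.eval_mul, Polynomial.eval_C, Polynomial.eval_pow, Polynomial.eval_X]
  intro j hj
  have h1 := congrArg (fun q : Polynomial k => q.coeff j) hP
  simp only [P, Polynomial.finset_sum_coeff, Polynomial.coeff_C_mul, Polynomial.coeff_X_pow, mul_ite, mul_one,
    mul_zero, Polynomial.coeff_zero] at h1
  rwa [Finset.sum_ite_eq, if_pos (mem_range.2 hj)] at h1

theorem coef_eq {d : ℕ} (hd : d ≤ Fintype.card K) {a b : ℕ → k}
    (h : ∀ t : K, ∑ j ∈ range d, a j * κ t ^ j = ∑ j ∈ range d, b j * κ t ^ j) : ∀ j < d, a j = b j := by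
  intro j hj
  have h1 := coef_zero κ hd (c := fun j => a j - b j) (fun t => by
    simp only [sub_mul, Finset.sum_sub_distrib]
    rw [h t, sub_self]) j hj
  exact sub_eq_zero.1 h1

end coef

theorem choose_ne {k : Type u} [Field k] {p : ℕ} [Fact p.Prime] [CharP k p] {n m : ℕ} (hn : n < p) (hm : m ≤ n) : (n.choose m : k) ≠ 0 := by
  intro h
  have h1 : p ∣ n.choose m := (CharP.cast_eq_zero_iff k p _).1 h
  have h2 : p ∣ n.factorial := by
    rw [← Nat.choose_mul_factorial_mul_factorial hm, mul_assoc]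
    exact h1.mul_right _
  have h3 := ((Fact.out : p.Prime).dvd_factorial).1 h2
  omega

variable {k : Type u} [Field k] {K : Type w} [Field K] {W : Type v} [AddCommGroup W] [Module k W]

/-- a standard basis of `V_n` -/
structure Str (κ : K →+* k) (ρ : Representation k (SpecialLinearGroup (Fin 2) K) W) (n : ℕ) (v : ℕ → W) : Prop where
  u : ∀ s ≤ n, ∀ t, ρ (u t) (v s) = ∑ j ∈ range (n - s + 1), (((n - s).choose j : k) * κ t ^ j) • v (s + j)
  h : ∀ s ≤ n, ∀ a : Kˣ, ρ (h a) (v s) = (κ a ^ s * ((κ a)⁻¹) ^ (n - s)) • v s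
  w : ∀ s ≤ n, ρ w (v s) = (-1 : k) ^ s • v (n - s)

variable {κ : K →+* k} {ρ : Representation k (SpecialLinearGroup (Fin 2) K) W}

theorem Str.u' {n : ℕ} {v : ℕ → W} (hv : Str κ ρ n v) {d : ℕ} (hd : n < d) {s : ℕ} (hs : s ≤ n) (t : K) :
    ρ (Cfsg.Agent.H943.SL2Rel.u t) (v s) = ∑ j ∈ range d, (((n - s).choose j : k) * κ t ^ j) • v (s + j) := by
  rw [hv.u s hs]
  refine Finset.sum_subset (Finset.range_mono (by omega)) fun j _ hj => ?_
  rw [Nat.choose_eq_zero_of_lt (by rw [mem_range] at hj; omega), Nat.cast_zero, zero_mul, zero_smul]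

theorem Str.top {n : ℕ} {v : ℕ → W} (hv : Str κ ρ n v) (t : K) : ρ (Cfsg.Agent.H943.SL2Rel.u t) (v n) = v n := by
  rw [hv.u n le_rfl]
  simp

variable {N : W →ₗ[k] W →ₗ[k] W →ₗ[k] k} (hN : ∀ g x y z, N (ρ g x) (ρ g y) (ρ g z) = N x y z)

include hN

section one

variable {i j l : ℕ} {x y z : ℕ → W} (hx : Str κ ρ i x) (hy : Str κ ρ j y) (hz : Str κ ρ l z)

include hx hy hz

theorem mirror {a b c : ℕ} (ha : a ≤ i) (hb : b ≤ j) (hc : c ≤ l) :
    N (x a) (y b) (z c) = (-1 : k) ^ a * ((-1) ^ b * ((-1) ^ c * N (x (i - a)) (y (j - b)) (z (l - c)))) := by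
  rw [← hN Cfsg.Agent.H943.SL2Rel.w, hx.w a ha, hy.w b hb, hz.w c hc]
  simp only [map_smul, LinearMap.smul_apply, smul_eq_mul]
  ring

theorem mirror_zero {a b c : ℕ} (ha : a ≤ i) (hb : b ≤ j) (hc : c ≤ l)
    (h : N (x (i - a)) (y (j - b)) (z (l - c)) = 0) : N (x a) (y b) (z c) = 0 := by
  rw [mirror hN hx hy hz ha hb hc, h, mul_zero, mul_zero, mul_zero]

theorem eq_one [Fintype K] {p : ℕ} (hpK : p ≤ Fintype.card K) (hi : i < p) (hl : l < p) {c : ℕ} (hc : c ≤ l) :
    ∀ m < p, (i.choose m : k) * N (x m) (y j) (z c) = (-1) ^ m * ((l - c).choose m : k) * N (x 0) (y j) (z (c + m)) := by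
  refine coef_eq κ hpK fun t => ?_
  have h1 : N (ρ (u t) (x 0)) (y j) (z c) = N (x 0) (y j) (ρ (u (-t)) (z c)) := by
    have h2 := hN (u t) (x 0) (y j) (ρ (u (-t)) (z c))
    rw [hy.top, ← Module.End.mul_apply (ρ (u t)), ← map_mul, ← u_add, add_neg_cancel] at h2
    have h3 : (u (0 : K)) = 1 := by
      have := u_add (0 : K) 0
      rw [add_zero] at this
      exact (mul_eq_left.1 this.symm)
    rw [h3, map_one, Module.End.one_apply] at h2
    exact h2
  rw [hx.u' hi (Nat.zero_le _), hz.u' hl hc] at h1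
  simp only [map_sum, LinearMap.sum_apply, map_smul, LinearMap.smul_apply, smul_eq_mul, Nat.sub_zero, zero_add,
    map_neg] at h1
  refine Eq.trans (Finset.sum_congr rfl fun m _ => ?_) (h1.trans (Finset.sum_congr rfl fun m _ => ?_))
  · ring
  · rw [neg_pow]
    ring

/-- weights of the torus -/
theorem wt {a b c : ℕ} (ha : a ≤ i) (hb : b ≤ j) (hc : c ≤ l) (h : N (x a) (y b) (z c) ≠ 0) (r : Kˣ) :
    (κ r ^ (2 * (a + b + c)) : k) = κ r ^ (i + j + l) := by
  have h1 := hN (Cfsg.Agent.H943.SL2Rel.h r) (x a) (y b) (z c)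
  rw [hx.h a ha, hy.h b hb, hz.h c hc] at h1
  simp only [map_smul, LinearMap.smul_apply, smul_eq_mul] at h1
  have hr : κ r ≠ 0 := (map_ne_zero κ).2 r.ne_zero
  have h2 : (κ r ^ (a + b + c)) * ((κ r)⁻¹) ^ (i + j + l - (a + b + c)) = 1 := by
    have h3 : (κ r ^ (a + b + c)) * ((κ r)⁻¹) ^ (i + j + l - (a + b + c)) * N (x a) (y b) (z c) = N (x a) (y b) (z c) := by
      refine Eq.trans ?_ h1
      rw [show i + j + l - (a + b + c) = (i - a) + (j - b) + (l - c) by omega]
      ring
    exact mul_right_cancel₀ h (h3.trans (one_mul _).symm)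
  have h4 : κ r ^ (i + j + l) = κ r ^ (a + b + c) * κ r ^ (i + j + l - (a + b + c)) := by
    rw [← pow_add]
    congr 1
    omega
  have h5 : κ r ^ (i + j + l - (a + b + c)) * ((κ r)⁻¹) ^ (i + j + l - (a + b + c)) = 1 := by
    rw [← mul_pow, mul_inv_cancel₀ hr, one_pow]
  rw [h4, two_mul, pow_add]
  congr 1
  calc κ r ^ (a + b + c) = κ r ^ (a + b + c) * (κ r ^ (i + j + l - (a + b + c)) * ((κ r)⁻¹) ^ (i + j + l - (a + b + c))) := by
        rw [h5, mul_one]
    _ = (κ r ^ (a + b + c) * ((κ r)⁻¹) ^ (i + j + l - (a + b + c))) * κ r ^ (i + j + l - (a + b + c)) := by ring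
    _ = _ := by rw [h2, one_mul]

section main

variable [Fintype K] {p s : ℕ} [Fact p.Prime] [CharP k p] (hpK : p ≤ Fintype.card K) (hi : i < p) (hj : j < p) (hl : l < p)
  (hs : 2 * s = i + j + l) (hG : ∀ c ≤ l, c + j ≠ s → N (x 0) (y j) (z c) = 0)

include hpK hi hj hl hs hG

theorem exact_j {m c : ℕ} (hm : m ≤ i) (hc : c ≤ l) (h : m + j + c ≠ s) : N (x m) (y j) (z c) = 0 := by
  have h1 := eq_one hN hx hy hz hpK hi hl hc m (by omega)
  have h2 : (-1) ^ m * ((l - c).choose m : k) * N (x 0) (y j) (z (c + m)) = 0 := by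
    rcases le_or_gt m (l - c) with h3 | h3
    · rw [hG (c + m) (by omega) (by omega), mul_zero]
    · rw [Nat.choose_eq_zero_of_lt h3, Nat.cast_zero, mul_zero, zero_mul]
  rw [h2] at h1
  exact (mul_eq_zero.1 h1).resolve_left (choose_ne hi hm)

theorem exact_z {m c : ℕ} (hm : m ≤ i) (hc : c ≤ l) (h : m + c ≠ s) : N (x m) (y 0) (z c) = 0 := by
  refine mirror_zero hN hx hy hz hm (Nat.zero_le _) hc ?_
  rw [Nat.sub_zero]
  exact exact_j hN hx hy hz hpK hi hj hl hs hG (by omega) (by omega) (by omega)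

theorem exact_lo {m b c : ℕ} (hm : m ≤ i) (hb : b ≤ j) (hc : c ≤ l) (hmc : s ≤ m + c + j) (h : m + b + c ≠ s) :
    N (x m) (y b) (z c) = 0 := by
  classical
  have hd : p ≤ Fintype.card K := hpK
  -- the value of the right hand side
  let A : k := ∑ f ∈ range p, ∑ e ∈ range p, ((i - m).choose e : k) * (-1) ^ e * (((l - c).choose f : k) * (-1) ^ f) *
    N (x (m + e)) (y 0) (z (c + f))
  have key : ∀ t : K, N (x m) (ρ (Cfsg.Agent.H943.SL2Rel.u t) (y 0)) (z c) = if m + c ≤ s then A * κ t ^ (s - m - c) else 0 := by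
    intro t
    have h0 : (Cfsg.Agent.H943.SL2Rel.u (0 : K)) = 1 := by
      have := u_add (0 : K) 0
      rw [add_zero] at this
      exact (mul_eq_left.1 this.symm)
    have h1 : N (x m) (ρ (Cfsg.Agent.H943.SL2Rel.u t) (y 0)) (z c) = N (ρ (Cfsg.Agent.H943.SL2Rel.u (-t)) (x m)) (y 0) (ρ (Cfsg.Agent.H943.SL2Rel.u (-t)) (z c)) := by
      have h2 := hN (Cfsg.Agent.H943.SL2Rel.u (-t)) (x m) (ρ (Cfsg.Agent.H943.SL2Rel.u t) (y 0)) (z c)
      rw [← Module.End.mul_apply (ρ (Cfsg.Agent.H943.SL2Rel.u (-t))) (ρ (Cfsg.Agent.H943.SL2Rel.u t)), ← map_mul, ← u_add, neg_add_cancel, h0, map_one, Module.End.one_apply] at h2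
      exact h2.symm
    rw [h1, hx.u' hi hm, hz.u' hl hc]
    simp only [map_sum, LinearMap.sum_apply, map_smul, LinearMap.smul_apply, smul_eq_mul, map_neg]
    have hterm : ∀ e ∈ range p, ∀ f ∈ range p, (((l - c).choose f : k) * (-κ t) ^ f) * ((((i - m).choose e : k) * (-κ t) ^ e) *
        N (x (m + e)) (y 0) (z (c + f))) = if m + c ≤ s then (((i - m).choose e : k) * (-1) ^ e * (((l - c).choose f : k) * (-1) ^ f) *
    N (x (m + e)) (y 0) (z (c + f))) * κ t ^ (s - m - c) else 0 := by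
      intro e _ f _
      rcases le_or_gt e (i - m) with he | he
      swap
      · rw [Nat.choose_eq_zero_of_lt he]
        simp
      rcases le_or_gt f (l - c) with hf | hf
      swap
      · rw [Nat.choose_eq_zero_of_lt hf]
        simp
      by_cases h3 : m + e + (c + f) = s
      · rw [if_pos (by omega), show s - m - c = e + f by omega, neg_pow (κ t) f, neg_pow (κ t) e]
        ring
      · rw [exact_z hN hx hy hz hpK hi hj hl hs hG (by omega) (by omega) h3]
        simp
    by_cases h4 : m + c ≤ s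
    · rw [if_pos h4]
      simp only [A, Finset.sum_mul, Finset.mul_sum]
      refine sum_congr rfl fun f hf => sum_congr rfl fun e he => ?_
      rw [hterm e he f hf, if_pos h4]
    · rw [if_neg h4]
      refine sum_eq_zero fun f hf => ?_
      rw [Finset.mul_sum]
      refine sum_eq_zero fun e he => ?_
      rw [hterm e he f hf, if_neg h4]
  have key2 : ∀ t : K, ∑ r ∈ range p, ((j.choose r : k) * N (x m) (y r) (z c)) * κ t ^ r =
      ∑ r ∈ range p, (if m + r + c = s then A else 0) * κ t ^ r := by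
    intro t
    have h5 := key t
    rw [hy.u' hj (Nat.zero_le _)] at h5
    simp only [map_sum, LinearMap.sum_apply, map_smul, LinearMap.smul_apply, smul_eq_mul, Nat.sub_zero, zero_add] at h5
    refine Eq.trans (sum_congr rfl fun r _ => by ring) (h5.trans ?_)
    by_cases h4 : m + c ≤ s
    · rw [if_pos h4, Finset.sum_eq_single (s - m - c)]
      · rw [if_pos (by omega)]
      · intro r _ hr
        rw [if_neg (by omega), zero_mul]
      · intro hr
        exact absurd (mem_range.2 (by omega)) hr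
    · rw [if_neg h4]
      refine (sum_eq_zero fun r _ => ?_).symm
      rw [if_neg (by omega), zero_mul]
  have h6 := coef_eq κ hpK key2 b (by omega)
  rw [if_neg h] at h6
  exact (mul_eq_zero.1 h6).resolve_left (choose_ne hj hb)

/-- **EXACT**, first form -/
theorem exact_of {m b c : ℕ} (hm : m ≤ i) (hb : b ≤ j) (hc : c ≤ l) (h : m + b + c ≠ s) : N (x m) (y b) (z c) = 0 := by
  by_cases h1 : s ≤ m + c + j
  · exact exact_lo hN hx hy hz hpK hi hj hl hs hG hm hb hc h1 h
  · refine mirror_zero hN hx hy hz hm hb hc ?_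
    exact exact_lo hN hx hy hz hpK hi hj hl hs hG (by omega) (by omega) (by omega) (by omega) (by omega)

end main

omit hz in
theorem wt_mod [Fintype K] (hz : Str κ ρ l z) {a b c : ℕ} (ha : a ≤ i) (hb : b ≤ j) (hc : c ≤ l) (h : N (x a) (y b) (z c) ≠ 0) :
    2 * (a + b + c) ≡ i + j + l [MOD (Fintype.card K - 1)] := by
  classical
  obtain ⟨r, hr⟩ := IsCyclic.exists_ofOrder_eq_natCard (α := Kˣ)
  have h1 := wt hN hx hy hz ha hb hc h r
  rw [← map_pow, ← map_pow] at h1
  have h2 := κ.injective h1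
  have h3 : r ^ (2 * (a + b + c)) = r ^ (i + j + l) := by
    refine Units.ext ?_
    rw [Units.val_pow_eq_pow_val, Units.val_pow_eq_pow_val]
    exact h2
  have h4 := pow_eq_pow_iff_modEq.1 h3
  rwa [hr, Nat.card_eq_fintype_card, Fintype.card_units] at h4

theorem top_zero [Fintype K] {p : ℕ} [Fact p.Prime] [CharP k p] (hpK : p ≤ Fintype.card K) (hi : i < p) (hl : l < p)
    {c : ℕ} (hc : c ≤ l) (hic : i < c) : N (x 0) (y j) (z c) = 0 := by
  have h1 := eq_one hN hx hy hz hpK hi hl (Nat.zero_le l) c (by omega)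
  rw [Nat.choose_eq_zero_of_lt hic, Nat.cast_zero, zero_mul, zero_add, Nat.sub_zero] at h1
  have h2 := h1.symm
  rw [mul_assoc] at h2
  exact (mul_eq_zero.1 ((mul_eq_zero.1 h2).resolve_left (pow_ne_zero _ (neg_ne_zero.2 one_ne_zero)))).resolve_left
    (choose_ne hl hc)

theorem bot_zero [Fintype K] {p : ℕ} [Fact p.Prime] [CharP k p] (hpK : p ≤ Fintype.card K) (hj : j < p) (hl : l < p)
    {c : ℕ} (hc : c ≤ l) (hic : c + j < l) : N (x 0) (y j) (z c) = 0 := by
  refine mirror_zero hN hx hy hz (Nat.zero_le _) le_rfl hc ?_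
  rw [Nat.sub_zero, Nat.sub_self]
  have h1 : N.flip (y 0) (x i) (z (l - c)) = 0 :=
    top_zero (N := N.flip) (fun g a b c => by rw [LinearMap.flip_apply, LinearMap.flip_apply]; exact hN g b a c) hy hx hz
      hpK hj hl (by omega) (by omega)
  rwa [LinearMap.flip_apply] at h1

/-- **EXACT** -/
theorem exact [Fintype K] {p s : ℕ} [Fact p.Prime] [CharP k p] (hpK : p ≤ Fintype.card K) (hi : i < p) (hj : j < p)
    (hl : l < p) (hs : 2 * s = i + j + l) (hij : i + j < l + (Fintype.card K - 1)) {m b c : ℕ} (hm : m ≤ i) (hb : b ≤ j)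
    (hc : c ≤ l) (h : m + b + c ≠ s) : N (x m) (y b) (z c) = 0 := by
  refine exact_of hN hx hy hz hpK hi hj hl hs (fun c hc hcs => ?_) hm hb hc h
  by_contra h1
  have h2 : c ≤ i := by
    by_contra h3
    exact h1 (top_zero hN hx hy hz hpK hi hl hc (by omega))
  have h3 : l ≤ c + j := by
    by_contra h3
    exact h1 (bot_zero hN hx hy hz hpK hj hl hc (by omega))
  have h4 := wt_mod hN hx hy hz (Nat.zero_le _) le_rfl hc h1
  rw [← hs] at h4
  rcases Nat.lt_or_gt_of_ne hcs with h5 | h5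
  · have h6 := (Nat.modEq_iff_dvd' (by omega)).1 h4
    have := Nat.le_of_dvd (by omega) h6
    omega
  · have h6 := (Nat.modEq_iff_dvd' (by omega)).1 h4.symm
    have := Nat.le_of_dvd (by omega) h6
    omega

end one

end Cfsg.Agent.R2.F4N
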