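import Cfsg.Agent.R2.F4M.Base
import Cfsg.Agent.R2.F4N.Black
import Cfsg.Agent.R2.F4N.Cnt
import Cfsg.Agent.H65.E6Ext
import Cfsg.Agent.S1062
import Cfsg.Agent.S1063

/-!
# The stabilizer of the unit in the simply connected group of type `E₆` is `F₄` (lead, box F4N)

* `full` : `F` finite, `z ∈ Zgrp F`, `z u0 = u0` → `z = zt g`.
-/

set_option autoImplicit false
set_option linter.unusedSectionVars false

namespace Cfsg.Agent.R2.F4N

open Cfsg Cfsg.Lie Module
open Cfsg.Agent.ChevalleyStructure.E6Min.Tables Cfsg.Agent.ChevalleyStructure.E6Min.Basic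
  Cfsg.Agent.ChevalleyStructure.E6Min.Adjoint
open Cfsg.Agent.H952.F4 (u0)
open Cfsg.Agent.H163.E6 (V V')
open Cfsg.Agent.R2.F4M
open scoped Matrix

universe u

variable {F : Type u} [Field F] [Finite F]

theorem card_ker : Nat.card ↥(ad F).ker ≤ Nat.gcd 3 (Nat.card F - 1) := by
  classical
  have hf : Fintype F := Fintype.ofFinite F
  have h1 : ∀ z : ↥(ad F).ker, ∃ c : F, c ^ 3 = 1 ∧ (((z : ↥(Zgrp F)) : GL I27 F) : Matrix I27 I27 F) = c • 1 :=
    fun z => Cfsg.Agent.H65.E6Ext.ker_scalar (MonoidHom.mem_ker.1 z.2)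
  choose c hc hc' using h1
  have hg : 0 < Nat.gcd 3 (Nat.card F - 1) := Nat.gcd_pos_of_pos_left _ (by norm_num)
  have h2 : ∀ z, c z ∈ (Polynomial.nthRoots (Nat.gcd 3 (Nat.card F - 1)) (1 : F)).toFinset := by
    intro z
    rw [Multiset.mem_toFinset, Polynomial.mem_nthRoots hg]
    have h3 : c z ≠ 0 := by
      intro h0
      have := hc z
      rw [h0] at this
      simp at this
    have h4 : c z ^ (Nat.card F - 1) = 1 := by
      rw [Nat.card_eq_fintype_card]
      exact FiniteField.pow_card_sub_one_eq_one _ h3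
    exact pow_gcd_eq_one.2 ⟨hc z, h4⟩
  have h3 : Nat.card ↥(ad F).ker ≤ (Polynomial.nthRoots (Nat.gcd 3 (Nat.card F - 1)) (1 : F)).toFinset.card := by
    have h4 := Nat.card_le_card_of_injective
      (fun z => (⟨c z, h2 z⟩ : ↥(Polynomial.nthRoots (Nat.gcd 3 (Nat.card F - 1)) (1 : F)).toFinset)) (by
        intro z z' h
        have h5 : c z = c z' := congrArg Subtype.val h
        apply Subtype.ext
        apply Subtype.ext
        apply Units.ext
        rw [hc', hc', h5])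
    rwa [Nat.card_eq_fintype_card (α := ↥(Polynomial.nthRoots (Nat.gcd 3 (Nat.card F - 1)) (1 : F)).toFinset),
      Fintype.card_coe] at h4
  exact h3.trans ((Multiset.toFinset_card_le _).trans (Polynomial.card_nthRoots _ _))

/-- the order of the simply connected group -/
theorem card_Zgrp_le : Nat.card ↥(Zgrp F) ≤ Nat.card F ^ 36 * (Nat.card F ^ 2 - 1) *
    (Nat.card F ^ 5 - 1) * (Nat.card F ^ 6 - 1) * (Nat.card F ^ 8 - 1) * (Nat.card F ^ 9 - 1) * (Nat.card F ^ 12 - 1) := by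
  have hf : Fintype F := Fintype.ofFinite F
  rw [← S1063.result (F := F) Nat.card_eq_fintype_card.symm]
  have h1 := Subgroup.card_mul_index (ad F).ker
  rw [Subgroup.index_ker, MonoidHom.range_eq_top.2 ad_surjective, Subgroup.card_top] at h1
  rw [← h1]
  exact Nat.mul_le_mul_right _ card_ker

/-- the stabilizer of the unit -/
noncomputable def St (F : Type u) [Field F] : Subgroup ↥(Zgrp F) where
  carrier := {z | V F z (u0 F) = u0 F}
  mul_mem' := by
    intro a b ha hb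
    show V F (a * b) (u0 F) = u0 F
    rw [map_mul, Module.End.mul_apply, hb, ha]
  one_mem' := by
    show V F 1 (u0 F) = u0 F
    rw [map_one]
    rfl
  inv_mem' := by
    intro a ha
    show V F a⁻¹ (u0 F) = u0 F
    have h1 : V F a (u0 F) = u0 F := ha
    conv_lhs => rw [← h1]
    rw [← Module.End.mul_apply, ← map_mul, inv_mul_cancel, map_one]
    rfl

theorem mem_St {z : ↥(Zgrp F)} : z ∈ St F ↔ V F z (u0 F) = u0 F := Iff.rfl

theorem card_orbit_le : Nat.card {x : I27 → F // cubicT x = 1} ≤ (St F).index := by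
  classical
  choose z hz hz' using fun x : {x : I27 → F // cubicT x = 1} => exists_u0 x.2
  have hV : ∀ x : {x : I27 → F // cubicT x = 1}, V F ⟨z x, hz x⟩ x = u0 F := hz'
  have hfin : Finite (↥(Zgrp F) ⧸ St F) := inferInstance
  refine Nat.card_le_card_of_injective (fun x => (QuotientGroup.mk (⟨z x, hz x⟩ : ↥(Zgrp F))⁻¹ : ↥(Zgrp F) ⧸ St F)) ?_
  intro x y h
  rw [QuotientGroup.eq, inv_inv, mem_St] at h
  apply Subtype.ext
  have h2 : V F (⟨z x, hz x⟩ * (⟨z y, hz y⟩ : ↥(Zgrp F))⁻¹) (V F ⟨z y, hz y⟩ y) = V F ⟨z x, hz x⟩ y := by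
    rw [← Module.End.mul_apply, ← map_mul, inv_mul_cancel_right]
  rw [hV, h] at h2
  have h3 := (hV x).trans h2
  have h4 := congrArg (V F (⟨z x, hz x⟩ : ↥(Zgrp F))⁻¹) h3
  rwa [← Module.End.mul_apply, ← Module.End.mul_apply, ← map_mul, inv_mul_cancel, map_one, Module.End.one_apply,
    Module.End.one_apply] at h4

theorem range_le : (zt F).range ≤ St F := by
  rintro _ ⟨g, rfl⟩
  exact Jr_u0 g

/-- **the stabilizer of the unit is `F₄`** -/
theorem range_eq : (zt F).range = St F := by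
  classical
  have hf : Fintype F := Fintype.ofFinite F
  by_contra hne
  have hlt : (zt F).range < St F := lt_of_le_of_ne range_le hne
  have hq : 2 ≤ Nat.card F := Finite.one_lt_card
  -- orders
  have h1 : Nat.card ↥(zt F).range = Nat.card ↥(chevF4.group F) :=
    (Nat.card_congr (MonoidHom.ofInjective zt_injective).toEquiv).symm
  have h2 := S1062.result (F := F) (q := Nat.card F) Nat.card_eq_fintype_card.symm
  have h3 : 2 * Nat.card ↥(zt F).range ≤ Nat.card ↥(St F) := by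
    obtain ⟨k, hk⟩ := Subgroup.card_dvd_of_le hlt.le
    have hk0 : k ≠ 0 := by
      rintro rfl
      rw [mul_zero] at hk
      exact Nat.card_pos.ne' hk
    have hk1 : k ≠ 1 := by
      rintro rfl
      rw [mul_one] at hk
      exact hne (Subgroup.eq_of_le_of_card_ge hlt.le hk.le)
    rw [hk, mul_comm]
    exact Nat.mul_le_mul_left _ (by omega)
  have h4 := Subgroup.card_mul_index (St F)
  have h5 := card_orbit_le (F := F)
  have h6 : Nat.card F ^ 20 * (Nat.card F ^ 3 - 1) ^ 2 ≤ Nat.card {x : I27 → F // cubicT x = 1} := by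
    have := card_ge (F := F)
    rw [Nat.card_eq_fintype_card, Nat.card_eq_fintype_card, Fintype.card_subtype]
    exact this
  have h7 := card_Zgrp_le (F := F)
  set q := Nat.card F with hqdef
  have h8 : 2 * (q ^ 24 * (q ^ 2 - 1) * (q ^ 6 - 1) * (q ^ 8 - 1) * (q ^ 12 - 1)) * (q ^ 20 * (q ^ 3 - 1) ^ 2) ≤
      q ^ 36 * (q ^ 2 - 1) * (q ^ 5 - 1) * (q ^ 6 - 1) * (q ^ 8 - 1) * (q ^ 9 - 1) * (q ^ 12 - 1) := by
    rw [← h2, ← h1]
    exact (Nat.mul_le_mul h3 (h6.trans h5)).trans (h4.le.trans h7)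
  have hpos : ∀ k, 1 ≤ k → 0 < q ^ k - 1 := by
    intro k hk
    have : 2 ^ k ≤ q ^ k := Nat.pow_le_pow_left hq k
    have : 2 ^ 1 ≤ 2 ^ k := Nat.pow_le_pow_right (by norm_num) hk
    omega
  set A := q ^ 36 * ((q ^ 2 - 1) * (q ^ 6 - 1) * (q ^ 8 - 1) * (q ^ 12 - 1)) with hA
  have hApos : 0 < A := by
    have := hpos 2 (by norm_num)
    have := hpos 6 (by norm_num)
    have := hpos 8 (by norm_num)
    have := hpos 12 (by norm_num)
    positivity
  have h9 : A * (2 * q ^ 8 * (q ^ 3 - 1) ^ 2) ≤ A * ((q ^ 5 - 1) * (q ^ 9 - 1)) := by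
    calc A * (2 * q ^ 8 * (q ^ 3 - 1) ^ 2) =
        2 * (q ^ 24 * (q ^ 2 - 1) * (q ^ 6 - 1) * (q ^ 8 - 1) * (q ^ 12 - 1)) * (q ^ 20 * (q ^ 3 - 1) ^ 2) := by
          rw [hA]; ring
      _ ≤ _ := h8
      _ = _ := by rw [hA]; ring
  have h10 := Nat.le_of_mul_le_mul_left h9 hApos
  have h11 : (q ^ 5 - 1) * (q ^ 9 - 1) ≤ q ^ 14 := by
    calc (q ^ 5 - 1) * (q ^ 9 - 1) ≤ q ^ 5 * q ^ 9 := Nat.mul_le_mul (Nat.sub_le _ _) (Nat.sub_le _ _)
      _ = q ^ 14 := by ring
  have h12 : 7 * q ^ 3 ≤ 8 * (q ^ 3 - 1) := by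
    have : 2 ^ 3 ≤ q ^ 3 := Nat.pow_le_pow_left hq 3
    omega
  have h13 : 49 * q ^ 6 ≤ 64 * (q ^ 3 - 1) ^ 2 := by
    calc 49 * q ^ 6 = (7 * q ^ 3) * (7 * q ^ 3) := by ring
      _ ≤ (8 * (q ^ 3 - 1)) * (8 * (q ^ 3 - 1)) := Nat.mul_le_mul h12 h12
      _ = _ := by ring
  have h14 : 2 * q ^ 8 * (49 * q ^ 6) ≤ 64 * q ^ 14 := by
    calc 2 * q ^ 8 * (49 * q ^ 6) ≤ 2 * q ^ 8 * (64 * (q ^ 3 - 1) ^ 2) := Nat.mul_le_mul_left _ h13
      _ = 64 * (2 * q ^ 8 * (q ^ 3 - 1) ^ 2) := by ring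
      _ ≤ 64 * q ^ 14 := Nat.mul_le_mul_left _ (h10.trans h11)
  have h15 : 0 < q ^ 14 := by positivity
  have h16 : 2 * q ^ 8 * (49 * q ^ 6) = 98 * q ^ 14 := by ring
  omega

/-- **FULL** -/
theorem full {z : ↥(Zgrp F)} (h : V F z (u0 F) = u0 F) : ∃ g, zt F g = z := by
  have h1 : z ∈ St F := h
  rw [← range_eq] at h1
  exact h1

end Cfsg.Agent.R2.F4N
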