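import Cfsg.Agent.R2.F4N.Full
import Cfsg.Agent.R2.F4M.Cfg
import Cfsg.Agent.R2.H22.NR

/-!
# S5931: automorphisms commuting with `L`; no root elements, no white subspaces (lead, box F4N)

* `full_sh` : a linear automorphism of `J` preserving `sh` and `u0` belongs to `F₄` (finite field);
* `aut1` : if it commutes with `L`, it is trivial;
* `nrF4`, `nrF4_closed` : no one-parameter group `1 + t N` of `Aut(J_k)` commutes with `L`;
* `white_six`, `white_four` : no white `L`-stable subspaces of dimension 6, 4 over an algebraic extension field;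
* `white` : no white `L`-stable subspaces (`p` odd).
-/

set_option autoImplicit false
set_option linter.unusedSectionVars false

namespace Cfsg.Agent.R2.F4N

open Cfsg Cfsg.Lie Module Matrix
open Cfsg.Agent.ChevalleyStructure
open Cfsg.Agent.ChevalleyStructure.E6Min.Basic Cfsg.Agent.ChevalleyStructure.E6Min.Forms
open Cfsg.Agent.H163.E6 Cfsg.Agent.H65.E6Emb Cfsg.Agent.R2.H22.Norm Cfsg.Agent.R2.H22.Root Cfsg.Agent.H163.E6.Act
open Cfsg.Agent.H952.F4 (u0 tr1 tf sh cr)
open Cfsg.Agent.H952.F4.Jord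
open Cfsg.Agent.H65.E6Full (IsFull mem_Zgrp_iff)
open Cfsg.Agent.R2.F4M
open Cfsg.Agent.R2.H9.E6
open Finset
open scoped Matrix

universe u v w

/-! ### automorphisms -/

section aut

variable {F : Type u} [Field F]

open Polynomial in
theorem D_eq_tf (v w : I27 → F) : D v w = tf (sh v) w := by
  have h1 := cubicT_add_smul (fun i => (C (v i) : F[X])) (fun i => (C (w i) : F[X])) (X : F[X])
  rw [N_add, sh_smul, tf_smul_right, tf_smul_right, N_smul, Cfsg.Agent.H65.E6Full.cubicT_map' C,
    Cfsg.Agent.H65.E6Full.cubicT_map' C, Cfsg.Agent.H65.E6Full.D_map C, Cfsg.Agent.H65.E6Full.D_map C] at h1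
  have e4 : tf (sh fun i => (C (v i) : F[X])) (fun i => (C (w i) : F[X])) = C (tf (sh v) w) := by
    have h2 := cst_sh (R := F) v
    have h3 := cst_tf (R := F) (sh v) w
    rw [← h2] at h3
    exact h3
  have e5 : tf (fun i => (C (v i) : F[X])) (sh fun i => (C (w i) : F[X])) = C (tf v (sh w)) := by
    have h2 := cst_sh (R := F) w
    have h3 := cst_tf (R := F) v (sh w)
    rw [← h2] at h3
    exact h3
  rw [e4, e5] at h1
  have h2 := congrArg (fun p : F[X] => p.coeff 1) h1
  simp only [coeff_add] at h2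
  have e1 : ∀ a : F, (C a : F[X]).coeff 1 = 0 := fun a => coeff_C_of_ne_zero one_ne_zero
  have e2 : ∀ a : F, ((X : F[X]) * C a).coeff 1 = a := fun a => by
    rw [show (1 : ℕ) = 0 + 1 from rfl, coeff_X_mul, coeff_C_zero]
  have e3 : ∀ a : F, ((X : F[X]) ^ 2 * C a).coeff 1 = 0 := fun a => by
    rw [coeff_X_pow_mul', if_neg (by norm_num)]
  have e6 : ∀ a : F, ((X : F[X]) ^ 3 * C a).coeff 1 = 0 := fun a => by
    rw [coeff_X_pow_mul', if_neg (by norm_num)]
  rw [e1, e2, e2, e3, e3, e6] at h2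
  simpa using h2.symm

variable {g : (I27 → F) ≃ₗ[F] (I27 → F)} (hsh : ∀ x, sh (g x) = g (sh x)) (hu : g (u0 F) = u0 F)

include hsh in
theorem cr_of_sh (x y : I27 → F) : cr (g x) (g y) = g (cr x y) := by
  unfold Cfsg.Agent.H952.F4.cr
  rw [← map_add, hsh, hsh, hsh, ← map_sub, ← map_sub]

include hsh hu in
theorem tr_of_sh (x : I27 → F) : tr1 (g x) = tr1 x := by
  have h1 := cr_of_sh hsh (u0 F) x
  rw [hu, cr_u0, cr_u0, map_sub, map_smul, hu] at h1
  have h2 := sub_left_injective h1
  have h3 := congrFun h2 (0, 0, 0)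
  simpa [u0] using h3

include hsh hu in
theorem tf_of_sh (x y : I27 → F) : tf (g x) (g y) = tf x y := by
  have h1 := tr1_cr (g x) (g y)
  rw [cr_of_sh hsh, tr_of_sh hsh hu, tr_of_sh hsh hu, tr_of_sh hsh hu] at h1
  have h2 := tr1_cr x y
  linear_combination h1 - h2

include hsh in
theorem N_of_sh (x : I27 → F) : cubicT (g x) = cubicT x := by
  by_cases hx : x = 0
  · rw [hx, map_zero]
  · have h1 := sh_sh (g x)
    rw [hsh, hsh, sh_sh, map_smul] at h1
    have h2 : g x ≠ 0 := fun h => hx (g.map_eq_zero_iff.1 h)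
    exact (smul_left_injective F h2 h1).symm

include hsh hu in
/-- **automorphisms of `J` belong to `F₄`** -/
theorem full_sh [Finite F] : ∃ z : ↥(chevF4.group F), ∀ x, g x = Jr F z x := by
  have hdet : IsUnit (LinearMap.toMatrix' (g : (I27 → F) →ₗ[F] (I27 → F))).det := by
    rw [LinearMap.det_toMatrix']
    exact LinearEquiv.isUnit_det' g
  let G : GL I27 F := Matrix.GeneralLinearGroup.mk'' (LinearMap.toMatrix' (g : (I27 → F) →ₗ[F] (I27 → F))) hdet
  have hG : ∀ x, (G : Matrix I27 I27 F) *ᵥ x = g x := fun x => LinearMap.toMatrix'_mulVec _ x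
  have hmem : G ∈ Zgrp F := by
    rw [mem_Zgrp_iff]
    refine ⟨?_, fun v w => ?_⟩
    · rw [mem_E6univ_iff]
      intro v
      rw [hG]
      exact N_of_sh hsh v
    · rw [hG, hG, D_eq_tf, D_eq_tf, hsh, tf_of_sh hsh hu]
  obtain ⟨z, hz⟩ := full (z := ⟨G, hmem⟩) (by
    show (G : Matrix I27 I27 F) *ᵥ u0 F = u0 F
    rw [hG, hu])
  refine ⟨z, fun x => ?_⟩
  rw [← V_zt, hz]
  exact (hG x).symm

end aut

section cfg

variable {F : Type u} [Field F] [Fintype F] {K : Type w} [Field K] [Fintype K] {p a b : ℕ}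
  {H : Subgroup ↥(chevF4.group F)} {φ : ProjectiveSpecialLinearGroup (Fin 2) K →* ↥(chevF4.group F)}

/-- **AUT1** -/
theorem aut1 (h : Cfg p a b H φ) {g : (I27 → F) ≃ₗ[F] (I27 → F)} (hsh : ∀ x, sh (g x) = g (sh x))
    (hu : g (u0 F) = u0 F) (hc : ∀ a x, g (Jr F (φ a) x) = Jr F (φ a) (g x)) (x : I27 → F) : g x = x := by
  obtain ⟨z, hz⟩ := full_sh hsh hu
  have h1 : z = 1 := by
    refine h.max.cent z fun a => Jr_faithful fun x => ?_
    rw [Jr_mul, Jr_mul, ← hz, ← hz, hc]
  rw [hz, h1, Jr_one]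

/-- **no root elements commute with `L`**, over every finite extension field -/
theorem nrF4 (h : Cfg p a b H φ) {E : Type v} [Field E] [Finite E] (i : F →+* E)
    {N : Matrix I27 I27 E} (hN : N * N = 0) (z : E → ↥(Zgrp E)) (hz : ∀ t, mt (z t) = 1 + t • N)
    (hu : N *ᵥ u0 E = 0) (hc : ∀ t x, emb i (zt F (φ x)) * z t = z t * emb i (zt F (φ x))) : N = 0 := by
  classical
  have hfE : Fintype E := Fintype.ofFinite E
  have hq : 2 ≤ Fintype.card F := Fintype.one_lt_card
  obtain ⟨d, hd0, hd⟩ : ∃ d, 1 ≤ d ∧ Fintype.card E = Fintype.card F ^ d := by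
    let _ := i.toAlgebra
    have hfin : Module.Finite F E := Module.Finite.of_finite
    exact ⟨Module.finrank F E, Module.finrank_pos, Module.card_eq_pow_finrank⟩
  have hfp : Fact p.Prime := ⟨h.prime⟩
  have hcF := h.charF
  have hcE : CharP E p := charP_of_injective_ringHom i.injective p
  let s : E →+* E := iterateFrobenius E p b
  have hs : ∀ x, s x = x ^ Fintype.card F := fun x => by
    rw [h.cardF]
    exact iterateFrobenius_def p b x
  have hspow : ∀ (n : ℕ) (x : E), (s ^ n) x = x ^ (Fintype.card F ^ n) := by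
    intro n x
    induction n with
    | zero => rw [pow_zero, pow_zero, pow_one]; rfl
    | succ n ih =>
      rw [pow_succ']
      show s ((s ^ n) x) = _
      rw [ih, hs, ← pow_mul, ← pow_succ]
  have hsu : (fun j => s (u0 E j)) = u0 E := by
    funext j
    unfold u0
    rw [apply_ite s, map_one, map_zero]
  have hiu : (fun j => i (u0 F j)) = u0 E := by
    funext j
    unfold u0
    rw [apply_ite i, map_one, map_zero]
  let C : Subgroup ↥(Zgrp E) := Subgroup.centralizer (Set.range fun x => emb i (zt F (φ x))) ⊓ St E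
  have hmem : ∀ y, y ∈ C ↔ (∀ x, emb i (zt F (φ x)) * y = y * emb i (zt F (φ x))) ∧ V E y (u0 E) = u0 E := by
    intro y
    rw [Subgroup.mem_inf, Subgroup.mem_centralizer_iff, mem_St]
    refine and_congr_left fun _ => ?_
    constructor
    · intro h x
      exact h _ ⟨x, rfl⟩
    · rintro h _ ⟨x, rfl⟩
      exact h x
  refine core C (emb s) ?_ d (Fintype.card F) 1 hd0 hq ?_ ?_ ?_ (emb_root s hs) hN z hz ?_
  · intro y hy
    rw [hmem] at hy ⊢
    refine ⟨fun x => ?_, ?_⟩
    · have h3 : emb s (emb i (zt F (φ x))) = emb i (zt F (φ x)) := emb_frob i s hs _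
      rw [← h3, ← map_mul, hy.1, map_mul]
    · have h3 := V_emb s y (u0 E)
      rw [hsu, hy.2, hsu] at h3
      exact h3
  · intro x
    rw [emb_iter]
    have h3 : s ^ d = RingHom.id E := by
      ext y
      rw [hspow, ← hd, FiniteField.pow_card]
      rfl
    rw [h3, emb_id]
  · refine (Set.ncard_le_ncard (t := {1}) ?_ (Set.finite_singleton _)).trans (Set.ncard_singleton _).le
    rintro x ⟨hxC, hx⟩
    obtain ⟨z0, rfl⟩ := Cfsg.Agent.H65.E6Full.exists_of_emb_eq_all i s hs x hx
    rw [hmem] at hxC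
    have h3 : V F z0 (u0 F) = u0 F := by
      have h4 := V_emb i z0 (u0 F)
      rw [hiu, hxC.2, ← hiu] at h4
      funext j
      exact i.injective (congrFun h4 j).symm
    obtain ⟨g, rfl⟩ := full h3
    have h4 : g = 1 := by
      refine h.max.cent g fun a => ?_
      apply zt_injective
      rw [map_mul, map_mul]
      apply emb_injective i
      rw [map_mul, map_mul]
      exact hxC.1 a
    rw [h4, map_one, map_one]
    rfl
  · rw [one_mul, hd]
    have := geom_le hq d
    omega
  · intro t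
    rw [hmem]
    refine ⟨hc t, ?_⟩
    show mt (z t) *ᵥ u0 E = u0 E
    rw [hz, Matrix.add_mulVec, Matrix.one_mulVec, Matrix.smul_mulVec, hu, smul_zero, add_zero]

end cfg

end Cfsg.Agent.R2.F4N
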