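import Cfsg.Agent.R2.F4N.Rat
import Cfsg.Agent.R2.F4N.NR
import Cfsg.Agent.R2.F4N.Cub

/-!
# Tori in `F₄(F)` from weights (lead, S5931)

* `exists_lam` : a grading of `J` compatible with the trilinear form gives elements of `F₄(F)`;
* `mem_range` : such an element in `H` which is compatible with a standard basis has its parameter in `K`.
-/

set_option autoImplicit false
set_option linter.unusedSectionVars false

namespace Cfsg.Agent.R2.F4N

open Cfsg Cfsg.Lie Module Matrix
open Cfsg.Agent.ChevalleyStructure.E6Min.Basic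
open Cfsg.Agent.H952.F4 Cfsg.Agent.H952.F4.Jord
open Cfsg.Agent.H952.F4.FixV (W0 mem_W0 finrank_W0 u0_ne_zero tr1_eq)
open Cfsg.Agent.R2.H9.E6
open Cfsg.Agent.GpExc.Field (emb)
open Cfsg.Agent.R2.H28.SL2 Cfsg.Agent.H943.RepAdd
open Cfsg.Agent.R2.F4M
open Cfsg.Agent.R2.GEO (tfB tfB_apply)

universe u v w

section tri

variable (F : Type u) [Field F]

/-- the trilinear form -/
noncomputable def NN : (I27 → F) →ₗ[F] (I27 → F) →ₗ[F] (I27 → F) →ₗ[F] F :=
  LinearMap.mk₂ F (fun x y => tfB F (cr x y)) (fun x x' y => by rw [cr_add_left, map_add])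
    (fun c x y => by rw [cr_smul_left, map_smul]) (fun x y y' => by rw [cr_add_right, map_add])
    (fun c x y => by rw [cr_smul_right, map_smul])

variable {F}

theorem NN_apply (x y z : I27 → F) : NN F x y z = tf (cr x y) z := rfl

theorem NN_comm (x y z : I27 → F) : NN F x y z = NN F y x z := by rw [NN_apply, NN_apply, cr_comm]

theorem NN_rot (x y z : I27 → F) : NN F x y z = NN F y z x := by
  rw [NN_apply, NN_apply, tf_cr]
  exact tf_comm _ _

theorem NN_u0 (y z : I27 → F) : NN F (u0 F) y z = tr1 y * tr1 z - tf y z := by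
  rw [NN_apply, cr_u0, sub_eq_add_neg, tf_add_left, tf_smul_left, tf_u0, ← neg_one_smul F y, tf_smul_left]
  ring

theorem NN_u0_u0 (z : I27 → F) : NN F (u0 F) (u0 F) z = 2 * tr1 z := by
  rw [NN_u0, tr1_u0, tf_u0]
  ring

/-- linear automorphisms which preserve the trilinear form and the unit -/
theorem full_NN [Finite F] (h2 : (2 : F) ≠ 0) (g : (I27 → F) ≃ₗ[F] (I27 → F))
    (hN : ∀ x y z, NN F (g x) (g y) (g z) = NN F x y z) (hu : g (u0 F) = u0 F) :
    ∃ z : ↥(chevF4.group F), ∀ x, g x = Jr F z x := by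
  have htr : ∀ x, tr1 (g x) = tr1 x := by
    intro x
    have h1 := hN (u0 F) (u0 F) x
    rw [hu, NN_u0_u0, NN_u0_u0] at h1
    exact mul_left_cancel₀ h2 h1
  have htf : ∀ x y, tf (g x) (g y) = tf x y := by
    intro x y
    have h1 := hN (u0 F) x y
    rw [hu, NN_u0, NN_u0, htr, htr] at h1
    exact sub_right_injective h1
  have hcr : ∀ x y, cr (g x) (g y) = g (cr x y) := by
    intro x y
    rw [← sub_eq_zero]
    refine tf_nondeg fun z => ?_
    obtain ⟨z, rfl⟩ := g.surjective z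
    have h1 := hN x y z
    rw [NN_apply, NN_apply] at h1
    rw [sub_eq_add_neg, tf_add_left, ← neg_one_smul F, tf_smul_left, h1, htf]
    ring
  refine full_sh (g := g) (fun x => ?_) hu
  have h1 := hcr x x
  rw [cr_self, cr_self, map_smul] at h1
  exact smul_right_injective _ h2 h1

/-- **tori from gradings** -/
theorem exists_lam [Finite F] (h2 : (2 : F) ≠ 0) {I : Type*} [Fintype I] (B : Basis I F (I27 → F)) (m : I → ℤ)
    (hN : ∀ i j l, NN F (B i) (B j) (B l) ≠ 0 → m i + m j + m l = 0) (hu : ∀ i, B.repr (u0 F) i ≠ 0 → m i = 0) (c : Fˣ) :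
    ∃ z : ↥(chevF4.group F), ∀ i, Jr F z (B i) = ((c ^ m i : Fˣ) : F) • B i := by
  classical
  let g : (I27 → F) ≃ₗ[F] (I27 → F) := B.equiv (B.unitsSMul fun i => c ^ m i) (Equiv.refl I)
  have hg : ∀ i, g (B i) = ((c ^ m i : Fˣ) : F) • B i := by
    intro i
    rw [Basis.equiv_apply, Equiv.refl_apply, Basis.unitsSMul_apply]
    rfl
  have h3 : ∀ x y z, NN F (g x) (g y) (g z) = NN F x y z := by
    have h4 : (NN F).compl₁₂ g.toLinearMap g.toLinearMap = (NN F).compr₂ (LinearMap.lcomp F F g.symm.toLinearMap) := by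
      refine B.ext fun i => B.ext fun j => LinearMap.ext fun z => ?_
      obtain ⟨z, rfl⟩ := g.surjective z
      have h5 : ((NN F).compl₁₂ g.toLinearMap g.toLinearMap) (B i) (B j) (g z) = NN F (g (B i)) (g (B j)) (g z) := rfl
      have h6 : (((NN F).compr₂ (LinearMap.lcomp F F g.symm.toLinearMap)) (B i) (B j)) (g z) = NN F (B i) (B j) z := by
        show NN F (B i) (B j) (g.symm (g z)) = _
        rw [g.symm_apply_apply]
      rw [h5, h6]
      have h7 : (NN F (g (B i)) (g (B j))).comp g.toLinearMap = NN F (B i) (B j) := by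
        refine B.ext fun l => ?_
        show NN F (g (B i)) (g (B j)) (g (B l)) = _
        rw [hg, hg, hg]
        simp only [map_smul, LinearMap.smul_apply, smul_eq_mul]
        by_cases h0 : NN F (B i) (B j) (B l) = 0
        · rw [h0]
          ring
        · have h8 := hN i j l h0
          rw [← mul_assoc, ← mul_assoc, ← Units.val_mul, ← Units.val_mul, ← _root_.zpow_add, ← _root_.zpow_add,
            show m l + m j + m i = 0 by omega, zpow_zero, Units.val_one, one_mul]
      exact LinearMap.congr_fun h7 z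
    intro x y z
    have h9 := LinearMap.congr_fun (LinearMap.congr_fun (LinearMap.congr_fun h4 x) y) (g z)
    have h10 : (((NN F).compr₂ (LinearMap.lcomp F F g.symm.toLinearMap)) x y) (g z) = NN F x y z := by
      show NN F x y (g.symm (g z)) = _
      rw [g.symm_apply_apply]
    rw [h10] at h9
    exact h9
  obtain ⟨z, hz⟩ := full_NN h2 g h3 (by
    conv_lhs => rw [← B.sum_repr (u0 F)]
    rw [map_sum]
    conv_rhs => rw [← B.sum_repr (u0 F)]
    refine Finset.sum_congr rfl fun i _ => ?_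
    rw [map_smul, hg]
    by_cases h0 : B.repr (u0 F) i = 0
    · rw [h0, zero_smul, zero_smul]
    · rw [hu i h0, zpow_zero, Units.val_one, one_smul])
  exact ⟨z, fun i => by rw [← hz, hg]⟩

end tri

section rat

variable {F : Type u} [Field F] [Fintype F] {K : Type v} [Field K] [Fintype K] {p a b : ℕ}
variable {H : Subgroup ↥(chevF4.group F)} {φ : ProjectiveSpecialLinearGroup (Fin 2) K →* ↥(chevF4.group F)}

/-- combinations with coefficients in `K` -/
def Cb (κ : K →+* F) (n : ℕ) (x : ℕ → I27 → F) (v : I27 → F) : Prop :=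
  ∃ d : ℕ → K, v = ∑ j ∈ Finset.range (n + 1), κ (d j) • x j

variable {κ : K →+* F} {n : ℕ} {x : ℕ → I27 → F}

theorem Cb.add {v w : I27 → F} (hv : Cb κ n x v) (hw : Cb κ n x w) : Cb κ n x (v + w) := by
  obtain ⟨d, rfl⟩ := hv
  obtain ⟨e, rfl⟩ := hw
  refine ⟨fun j => d j + e j, ?_⟩
  rw [← Finset.sum_add_distrib]
  refine Finset.sum_congr rfl fun j _ => ?_
  rw [map_add, add_smul]

theorem Cb.zero : Cb κ n x 0 := ⟨0, by simp⟩

theorem Cb.smul {v : I27 → F} (hv : Cb κ n x v) (c : K) : Cb κ n x (κ c • v) := by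
  obtain ⟨d, rfl⟩ := hv
  refine ⟨fun j => c * d j, ?_⟩
  rw [Finset.smul_sum]
  refine Finset.sum_congr rfl fun j _ => ?_
  rw [map_mul, smul_smul]

theorem Cb.sum {α : Type*} (S : Finset α) (v : α → I27 → F) (h : ∀ i ∈ S, Cb κ n x (v i)) : Cb κ n x (∑ i ∈ S, v i) := by
  classical
  induction S using Finset.induction_on with
  | empty =>
    rw [Finset.sum_empty]
    exact Cb.zero
  | insert a S ha ih =>
    rw [Finset.sum_insert ha]
    exact (h a (Finset.mem_insert_self _ _)).add (ih fun i hi => h i (Finset.mem_insert_of_mem hi))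

theorem Cb.self {s : ℕ} (hs : s ≤ n) : Cb κ n x (x s) := by
  classical
  refine ⟨fun j => if j = s then 1 else 0, ?_⟩
  rw [Finset.sum_eq_single s]
  · simp only [if_true, map_one, one_smul]
  · intro j _ hj
    simp only [if_neg hj, map_zero, zero_smul]
  · intro h
    exact absurd (Finset.mem_range.2 (by omega)) h

theorem Cb.of_basis {g : SpecialLinearGroup (Fin 2) K} (h : ∀ s ≤ n, Cb κ n x (RF φ g (x s))) {v : I27 → F} (hv : Cb κ n x v) :
    Cb κ n x (RF φ g v) := by
  obtain ⟨d, rfl⟩ := hv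
  rw [map_sum]
  refine Cb.sum _ _ fun j hj => ?_
  rw [map_smul]
  exact (h j (by have := Finset.mem_range.1 hj; omega)).smul _

theorem Str.cb (hx : Str κ (RF φ) n x) (g : SpecialLinearGroup (Fin 2) K) : ∀ v, Cb κ n x v → Cb κ n x (RF φ g v) := by
  refine Cfsg.Agent.H943.SL2Rel.induct (P := fun g => ∀ v, Cb κ n x v → Cb κ n x (RF φ g v)) ?_ ?_ ?_ ?_ g
  · intro t v hv
    refine Cb.of_basis (fun s hs => ?_) hv
    rw [hx.u s hs t]
    refine Cb.sum _ _ fun j hj => ?_
    have h1 : ((n - s).choose j : F) * κ t ^ j = κ (((n - s).choose j : K) * t ^ j) := by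
      rw [map_mul, map_natCast, map_pow]
    rw [h1]
    exact (Cb.self (by have := Finset.mem_range.1 hj; omega)).smul _
  · intro a v hv
    refine Cb.of_basis (fun s hs => ?_) hv
    rw [hx.h s hs a]
    have h1 : (κ a ^ s * ((κ a)⁻¹) ^ (n - s) : F) = κ ((a : K) ^ s * ((a : K)⁻¹) ^ (n - s)) := by
      rw [map_mul, map_pow, map_pow, map_inv₀]
    rw [h1]
    exact (Cb.self hs).smul _
  · intro v hv
    refine Cb.of_basis (fun s hs => ?_) hv
    rw [hx.w s hs]
    have h1 : ((-1 : F) ^ s) = κ ((-1) ^ s) := by rw [map_pow, map_neg, map_one]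
    rw [h1]
    exact (Cb.self (by omega)).smul _
  · intro g h hg hh v hv
    rw [map_mul]
    exact hg _ (hh _ hv)

theorem mem_range (hc : Cfg p a b H φ) (hn : 1 ≤ n) (hnp : n < p) (hx : Str κ (RF φ) n x)
    (hli : LinearIndependent F (fun s : Fin (n + 1) => x s)) {U : Submodule F (I27 → F)} (hU : Hst H U) (hpr : Pr U)
    {z : ↥(chevF4.group F)} (hz : ∀ v ∈ U, Jr F z v ∈ U) {c : Fˣ} {m : ℤ}
    (hzx : ∀ s ≤ n, Jr F z (x s) = ((c ^ (m + s) : Fˣ) : F) • x s) : ∃ d : K, κ d = c := by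
  classical
  have hp : Fact p.Prime := ⟨hc.prime⟩
  have hcF := hc.charF
  have hcK := hc.charK
  have hzH : z ∈ H := hc.gp hU hpr hz
  obtain ⟨t, ht⟩ := hc.max.norm z hzH (φ (pq (Cfsg.Agent.H943.SL2Rel.u 1))) ⟨_, rfl⟩
  obtain ⟨g, rfl⟩ := pq_surjective t
  obtain ⟨d, hd⟩ := hx.cb g (x 0) (Cb.self (Nat.zero_le _))
  have h1 : Jr F z⁻¹ (x 0) = ((c ^ (-m) : Fˣ) : F) • x 0 := by
    apply Jr_inj z
    rw [Jr_apply_inv, map_smul, hzx 0 (Nat.zero_le _), smul_smul, ← Units.val_mul, ← _root_.zpow_add]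
    simp
  have h2 : RF φ g (x 0) = ∑ j ∈ Finset.range (n + 1), ((n.choose j : F) * (c : F) ^ j) • x j := by
    rw [RF_apply, ht, Jr_mul, Jr_mul, h1, map_smul, map_smul]
    have h3 : Jr F (φ (pq (Cfsg.Agent.H943.SL2Rel.u 1))) (x 0) = ∑ j ∈ Finset.range (n + 1), (n.choose j : F) • x j := by
      have h4 := hx.u 0 (Nat.zero_le _) 1
      rw [RF_apply] at h4
      rw [h4, Nat.sub_zero]
      refine Finset.sum_congr rfl fun j _ => ?_
      rw [map_one, one_pow, mul_one, zero_add]
    rw [h3, map_sum, Finset.smul_sum]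
    refine Finset.sum_congr rfl fun j hj => ?_
    rw [map_smul, hzx j (by have := Finset.mem_range.1 hj; omega), smul_smul, smul_smul]
    congr 1
    have h5 : ((c ^ (-m) : Fˣ) : F) * ((c ^ (m + j) : Fˣ) : F) = (c : F) ^ j := by
      rw [← Units.val_mul, ← _root_.zpow_add, neg_add_cancel_left, zpow_natCast, Units.val_pow_eq_pow_val]
    rw [← h5]
    ring
  rw [h2, Finset.sum_range, Finset.sum_range] at hd
  have h6 : ∑ j : Fin (n + 1), (((n.choose j : F) * (c : F) ^ (j : ℕ)) - κ (d j)) • x j = 0 := by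
    simp only [sub_smul, Finset.sum_sub_distrib]
    rw [hd, sub_self]
  have h7 := (Fintype.linearIndependent_iff.1 hli) _ h6 ⟨1, by omega⟩
  simp only [Nat.choose_one_right, pow_one] at h7
  have hnF : (n : F) ≠ 0 := by
    have := choose_ne (k := F) hnp (m := 1) hn
    rwa [Nat.choose_one_right] at this
  refine ⟨d 1 / n, ?_⟩
  rw [map_div₀, map_natCast, div_eq_iff hnF, ← sub_eq_zero.1 h7]
  ring

end rat

end Cfsg.Agent.R2.F4N
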