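import Mathlib

/-!
# A nilpotent endomorphism with two blocks of maximal size (lead, S5931)
-/

set_option autoImplicit false

namespace Cfsg.Agent.R2.F4N

open Finset Module

universe u v

variable {F : Type u} [Field F] {V : Type v} [AddCommGroup V] [Module F V] {E : Module.End F V} {p : ℕ} {b₁ b₂ : V}

/-- combinations of the two strings -/
def cmb (E : Module.End F V) (p : ℕ) (b₁ b₂ : V) (α β : ℕ → F) : V :=
  ∑ i ∈ range p, (α i • (E ^ i) b₁ + β i • (E ^ i) b₂)

theorem cmb_coef (hE : ∀ n, p ≤ n → (E ^ n) b₁ = 0 ∧ (E ^ n) b₂ = 0)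
    (hli : ∀ c d : F, c • (E ^ (p - 1)) b₁ + d • (E ^ (p - 1)) b₂ = 0 → c = 0 ∧ d = 0) {r : ℕ} {α β : ℕ → F}
    (h : (E ^ r) (cmb E p b₁ b₂ α β) = 0) : ∀ i, i + r < p → α i = 0 ∧ β i = 0 := by
  intro i
  induction i using Nat.strong_induction_on with
  | _ i ih =>
    intro hi
    apply hli
    have h1 : (E ^ (p - 1 - i)) (cmb E p b₁ b₂ α β) = 0 := by
      rw [show p - 1 - i = (p - 1 - i - r) + r by omega, pow_add, Module.End.mul_apply, h, map_zero]
    rw [← h1]
    unfold cmb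
    rw [map_sum, Finset.sum_eq_single i]
    · rw [map_add, map_smul, map_smul, ← Module.End.mul_apply, ← Module.End.mul_apply, ← pow_add,
        show p - 1 - i + i = p - 1 by omega]
    · intro j hj hji
      rw [mem_range] at hj
      rcases lt_or_gt_of_ne hji with h2 | h2
      · obtain ⟨h3, h4⟩ := ih j h2 (by omega)
        rw [h3, h4, zero_smul, zero_smul, add_zero, map_zero]
      · rw [map_add, map_smul, map_smul, ← Module.End.mul_apply, ← Module.End.mul_apply, ← pow_add]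
        obtain ⟨h3, h4⟩ := hE (p - 1 - i + j) (by omega)
        rw [h3, h4, smul_zero, smul_zero, add_zero]
    · intro h2
      exact absurd (mem_range.2 (by omega)) h2

theorem cmb_eq (α β : ℕ → F) : cmb E p b₁ b₂ α β =
    ∑ i : Fin p ⊕ Fin p, (Sum.elim (fun i : Fin p => α i) (fun i : Fin p => β i) i : F) •
      (Sum.elim (fun i : Fin p => (E ^ (i : ℕ)) b₁) (fun i : Fin p => (E ^ (i : ℕ)) b₂) i : V) := by
  unfold cmb
  rw [Fintype.sum_sum_type, Finset.sum_add_distrib, Finset.sum_range, Finset.sum_range]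
  rfl

/-- **the structure** -/
theorem two_blocks {W : Submodule F V} [FiniteDimensional F W] (hW : ∀ v ∈ W, E v ∈ W) (h1 : b₁ ∈ W) (h2 : b₂ ∈ W)
    (hfin : finrank F W = 2 * p) (hE : ∀ n, p ≤ n → (E ^ n) b₁ = 0 ∧ (E ^ n) b₂ = 0)
    (hli : ∀ c d : F, c • (E ^ (p - 1)) b₁ + d • (E ^ (p - 1)) b₂ = 0 → c = 0 ∧ d = 0) {v : V} (hv : v ∈ W) :
    ∃ α β, v = cmb E p b₁ b₂ α β := by
  classical
  have hWn : ∀ n, ∀ v ∈ W, (E ^ n) v ∈ W := by
    intro n
    induction n with
    | zero => intro v hv; exact hv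
    | succ n ih =>
      intro v hv
      rw [pow_succ', Module.End.mul_apply]
      exact hW _ (ih v hv)
  let w : Fin p ⊕ Fin p → V := Sum.elim (fun i : Fin p => (E ^ (i : ℕ)) b₁) (fun i : Fin p => (E ^ (i : ℕ)) b₂)
  have hw : ∀ i, w i ∈ W := by
    rintro (i | i)
    · exact hWn _ _ h1
    · exact hWn _ _ h2
  have hlw : LinearIndependent F w := by
    rw [Fintype.linearIndependent_iff]
    intro g hg
    have h3 : cmb E p b₁ b₂ (fun i => if hi : i < p then g (Sum.inl ⟨i, hi⟩) else 0)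
        (fun i => if hi : i < p then g (Sum.inr ⟨i, hi⟩) else 0) = 0 := by
      rw [cmb_eq, ← hg]
      refine Finset.sum_congr rfl fun i _ => ?_
      rcases i with i | i
      · simp only [Sum.elim_inl, Fin.is_lt, dif_pos, Fin.eta]
        rfl
      · simp only [Sum.elim_inr, Fin.is_lt, dif_pos, Fin.eta]
        rfl
    have h4 := cmb_coef hE hli (r := 0) (by rw [pow_zero, Module.End.one_apply]; exact h3)
    rintro (i | i)
    · have h5 := (h4 i (by have := i.2; omega)).1
      simp only [Fin.is_lt, dif_pos, Fin.eta] at h5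
      exact h5
    · have h5 := (h4 i (by have := i.2; omega)).2
      simp only [Fin.is_lt, dif_pos, Fin.eta] at h5
      exact h5
  have hsp : Submodule.span F (Set.range w) = W := by
    refine Submodule.eq_of_le_of_finrank_eq ?_ ?_
    · rw [Submodule.span_le]
      rintro _ ⟨i, rfl⟩
      exact hw i
    · rw [finrank_span_eq_card hlw, hfin, Fintype.card_sum, Fintype.card_fin, two_mul]
  rw [← hsp] at hv
  obtain ⟨c, hc⟩ := (Submodule.mem_span_range_iff_exists_fun F).1 hv
  refine ⟨fun i => if hi : i < p then c (Sum.inl ⟨i, hi⟩) else 0, fun i => if hi : i < p then c (Sum.inr ⟨i, hi⟩) else 0, ?_⟩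
  rw [cmb_eq, ← hc]
  refine Finset.sum_congr rfl fun i _ => ?_
  rcases i with i | i
  · simp only [Sum.elim_inl, Fin.is_lt, dif_pos, Fin.eta]
    rfl
  · simp only [Sum.elim_inr, Fin.is_lt, dif_pos, Fin.eta]
    rfl

/-- kernels of powers are images of powers -/
theorem ker_range {W : Submodule F V} [FiniteDimensional F W] (hW : ∀ v ∈ W, E v ∈ W) (h1 : b₁ ∈ W) (h2 : b₂ ∈ W)
    (hfin : finrank F W = 2 * p) (hE : ∀ n, p ≤ n → (E ^ n) b₁ = 0 ∧ (E ^ n) b₂ = 0)
    (hli : ∀ c d : F, c • (E ^ (p - 1)) b₁ + d • (E ^ (p - 1)) b₂ = 0 → c = 0 ∧ d = 0) {r : ℕ} (hr : r ≤ p) {v : V}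
    (hv : v ∈ W) (h : (E ^ r) v = 0) : ∃ w, v = (E ^ (p - r)) w := by
  obtain ⟨α, β, rfl⟩ := two_blocks hW h1 h2 hfin hE hli hv
  have h3 := cmb_coef hE hli h
  refine ⟨∑ i ∈ range r, (α (p - r + i) • (E ^ i) b₁ + β (p - r + i) • (E ^ i) b₂), ?_⟩
  rw [map_sum]
  unfold cmb
  rw [show p = (p - r) + r by omega, Finset.sum_range_add, Finset.sum_eq_zero, zero_add]
  · refine Finset.sum_congr rfl fun i _ => ?_
    rw [show p - r + r = p by omega, map_add, map_smul, map_smul, ← Module.End.mul_apply, ← Module.End.mul_apply, ← pow_add]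
  · intro i hi
    rw [mem_range] at hi
    obtain ⟨h4, h5⟩ := h3 i (by omega)
    rw [h4, h5, zero_smul, zero_smul, add_zero]

end Cfsg.Agent.R2.F4N
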