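import Cfsg.Agent.R2.F4N.R8

/-!
# `J₀ = V_8^{(r)} ⊕ V_16^{(s)}`, `r ≠ s`, is impossible (lead, S5931)
-/

set_option autoImplicit false
set_option linter.unusedSectionVars false

namespace Cfsg.Agent.R2.F4N

open Cfsg Cfsg.Lie Module Matrix
open Cfsg.Agent.ChevalleyStructure.E6Min.Basic
open Cfsg.Agent.H952.F4 Cfsg.Agent.H952.F4.Jord
open Cfsg.Agent.H952.F4.FixV (W0 mem_W0 finrank_W0 u0_ne_zero tr1_eq)
open Cfsg.Agent.R2.F4M
open Cfsg.Agent.R2.H9.E6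
open Cfsg.Agent.R2.H28.SL2 Cfsg.Agent.H943.RepAdd Cfsg.Agent.H943.SL2Mod

universe u v w

/-! ## Arithmetic -/

theorem dvd_cases {p a d : ℕ} (hp : 17 ≤ p) (hd : 1 ≤ d) (hda : d < a) :
    ∃ P R : ℤ, (p : ℤ) ^ d = P ∧ 17 ≤ P ∧ P ≤ R ∧ 17 * R ≤ (p : ℤ) ^ a := by
  obtain ⟨c, rfl⟩ : ∃ c, a = c + 1 := ⟨a - 1, by omega⟩
  refine ⟨(p : ℤ) ^ d, (p : ℤ) ^ c, rfl, ?_, ?_, ?_⟩
  · have h1 : 17 ≤ p ^ d := by
      calc 17 ≤ p := hp
        _ = p ^ 1 := (pow_one p).symm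
        _ ≤ p ^ d := Nat.pow_le_pow_right (by omega) hd
    exact_mod_cast h1
  · have h1 : p ^ d ≤ p ^ c := Nat.pow_le_pow_right (by omega) (by omega)
    exact_mod_cast h1
  · have h1 : 17 * p ^ c ≤ p ^ (c + 1) := by
      rw [pow_succ, mul_comm]
      exact Nat.mul_le_mul_left _ hp
    exact_mod_cast h1

/-- a multiple of `M` of absolute value at most `M` -/
theorem dvd_small {M E : ℤ} (hM : 0 < M) (h : M ∣ E) (h1 : -M ≤ E) (h2 : E ≤ M) : E = 0 ∨ E = M ∨ E = -M := by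
  obtain ⟨c, rfl⟩ := h
  have h3 : -1 ≤ c := by nlinarith
  have h4 : c ≤ 1 := by nlinarith
  obtain rfl | rfl | rfl : c = -1 ∨ c = 0 ∨ c = 1 := by omega
  · right; right; ring
  · left; ring
  · right; left; ring

theorem digA {p a d : ℕ} (hp : 17 ≤ p) (hd : 1 ≤ d) (hda : d < a) {A B : ℤ} (hA1 : -16 ≤ A) (hA2 : A ≤ 16)
    (hB1 : -16 ≤ B) (hB2 : B ≤ 16) (h : (p : ℤ) ^ a - 1 ∣ A + B * (p : ℤ) ^ d) :
    (A = 0 ∧ B = 0) ∨ (A = 16 ∧ B = 16) ∨ (A = -16 ∧ B = -16) := by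
  obtain ⟨P, R, hP, h17, hPR, hR⟩ := dvd_cases hp hd hda
  rw [hP] at h
  rcases dvd_small (by linarith) h (by nlinarith) (by nlinarith) with h1 | h1 | h1
  · left
    have hB : B = 0 := by
      by_contra hB
      rcases lt_or_gt_of_ne hB with h2 | h2
      · nlinarith
      · nlinarith
    rw [hB] at h1
    exact ⟨by linarith, hB⟩
  · right; left
    have hB : B = 16 := by
      by_contra hB
      have : B ≤ 15 := by omega
      nlinarith
    rw [hB] at h1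
    refine ⟨?_, hB⟩
    by_contra hA
    have : A ≤ 15 := by omega
    nlinarith
  · right; right
    have hB : B = -16 := by
      by_contra hB
      have : -15 ≤ B := by omega
      nlinarith
    rw [hB] at h1
    refine ⟨?_, hB⟩
    by_contra hA
    have : -15 ≤ A := by omega
    nlinarith

theorem digB {p a d : ℕ} (hp : 17 ≤ p) (hpp : p.Prime) (hd : 1 ≤ d) (hda : d < a) {A B : ℤ} (hA1 : -8 ≤ A) (hA2 : A ≤ 8)
    (hB1 : -32 ≤ B) (hB2 : B ≤ 32) (hBe : Even B) (h : (p : ℤ) ^ a - 1 ∣ A * (p : ℤ) ^ d + B) : A = 0 ∧ B = 0 := by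
  obtain ⟨P, R, hP, h17, hPR, hR⟩ := dvd_cases hp hd hda
  have h0 : A * (p : ℤ) ^ d + B = 0 := by
    rw [hP] at h ⊢
    rcases dvd_small (by linarith) h (by nlinarith) (by nlinarith) with h1 | h1 | h1
    · exact h1
    · nlinarith
    · nlinarith
  have h1 : (p : ℤ) ∣ B := by
    have h2 : (p : ℤ) ∣ A * (p : ℤ) ^ d := (dvd_pow_self _ (by omega)).mul_left _
    have h3 : B = -(A * (p : ℤ) ^ d) := by linarith
    rw [h3]
    exact h2.neg_right
  obtain ⟨c, rfl⟩ := h1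
  have hp' : (17 : ℤ) ≤ p := by exact_mod_cast hp
  have hc1 : -1 ≤ c := by nlinarith
  have hc2 : c ≤ 1 := by nlinarith
  have hodd : ¬ Even (p : ℤ) := by
    rw [Int.even_coe_nat]
    intro h2
    have := (Nat.Prime.even_iff hpp).1 h2
    omega
  have hc : c = 0 := by
    rcases (by omega : c = -1 ∨ c = 0 ∨ c = 1) with rfl | rfl | rfl
    · exfalso
      apply hodd
      rwa [mul_neg, mul_one, even_neg] at hBe
    · rfl
    · exfalso
      apply hodd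
      rwa [mul_one] at hBe
  subst hc
  rw [mul_zero] at h0 ⊢
  refine ⟨?_, rfl⟩
  rw [add_zero] at h0
  exact (mul_eq_zero.1 h0).resolve_right (by
    have : (p : ℤ) ≠ 0 := by linarith
    exact pow_ne_zero _ this)

/-- `p ^ a - 1` is prime to `p` -/
theorem dvd_of_mul {p a r : ℕ} (ha : 1 ≤ a) {E : ℤ} (h : (p : ℤ) ^ a - 1 ∣ (p : ℤ) ^ r * E) : (p : ℤ) ^ a - 1 ∣ E := by
  have h1 : IsCoprime ((p : ℤ) ^ a - 1) ((p : ℤ) ^ r) := by
    apply IsCoprime.pow_right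
    refine ⟨-1, (p : ℤ) ^ (a - 1), ?_⟩
    have : (p : ℤ) ^ (a - 1) * p = (p : ℤ) ^ a := by
      rw [← pow_succ]
      congr 1
      omega
    rw [this]
    ring
  exact h1.dvd_of_dvd_mul_left h

theorem dig2A {p a r s : ℕ} (hp : 17 ≤ p) (hr : r < a) (hs : s < a) (hrs : r ≠ s) {A B : ℤ} (hA1 : -16 ≤ A) (hA2 : A ≤ 16)
    (hB1 : -16 ≤ B) (hB2 : B ≤ 16) (h : (p : ℤ) ^ a - 1 ∣ (p : ℤ) ^ r * A + (p : ℤ) ^ s * B) :
    (A = 0 ∧ B = 0) ∨ (A = 16 ∧ B = 16) ∨ (A = -16 ∧ B = -16) := by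
  rcases lt_or_gt_of_ne hrs with h1 | h1
  · refine digA hp (d := s - r) (by omega) (by omega : s - r < a) hA1 hA2 hB1 hB2 (dvd_of_mul (r := r) (by omega) ?_)
    have h2 : (p : ℤ) ^ s = (p : ℤ) ^ r * (p : ℤ) ^ (s - r) := by
      rw [← pow_add]
      congr 1
      omega
    rw [h2] at h
    convert h using 1
    ring
  · have := digA hp (d := r - s) (by omega) (by omega : r - s < a) hB1 hB2 hA1 hA2 (dvd_of_mul (r := s) (by omega) (by
      have h2 : (p : ℤ) ^ r = (p : ℤ) ^ s * (p : ℤ) ^ (r - s) := by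
        rw [← pow_add]
        congr 1
        omega
      rw [h2] at h
      convert h using 1
      ring))
    omega

theorem dig2B {p a r s : ℕ} (hp : 17 ≤ p) (hpp : p.Prime) (hr : r < a) (hs : s < a) (hrs : r ≠ s) {A B : ℤ} (hA1 : -8 ≤ A)
    (hA2 : A ≤ 8) (hB1 : -32 ≤ B) (hB2 : B ≤ 32) (hBe : Even B) (h : (p : ℤ) ^ a - 1 ∣ (p : ℤ) ^ r * A + (p : ℤ) ^ s * B) :
    A = 0 ∧ B = 0 := by
  rcases lt_or_gt_of_ne hrs with h1 | h1
  · refine digB hp hpp (d := a - (s - r)) (by omega) (by omega : a - (s - r) < a) hA1 hA2 hB1 hB2 hBe ?_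
    have h2 : (p : ℤ) ^ s = (p : ℤ) ^ r * (p : ℤ) ^ (s - r) := by
      rw [← pow_add]
      congr 1
      omega
    have h3 : (p : ℤ) ^ a - 1 ∣ A + (p : ℤ) ^ (s - r) * B := dvd_of_mul (r := r) (by omega) (by
      rw [h2] at h
      convert h using 1
      ring)
    have h4 : (p : ℤ) ^ (a - (s - r)) * (p : ℤ) ^ (s - r) = (p : ℤ) ^ a := by
      rw [← pow_add]
      congr 1
      omega
    have h5 : A * (p : ℤ) ^ (a - (s - r)) + B = (p : ℤ) ^ (a - (s - r)) * (A + (p : ℤ) ^ (s - r) * B) -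
        ((p : ℤ) ^ a - 1) * B := by
      rw [← h4]
      ring
    rw [h5]
    exact (h3.mul_left _).sub (Dvd.intro _ rfl)
  · refine digB hp hpp (d := r - s) (by omega) (by omega : r - s < a) hA1 hA2 hB1 hB2 hBe (dvd_of_mul (r := s) (by omega) ?_)
    have h2 : (p : ℤ) ^ r = (p : ℤ) ^ s * (p : ℤ) ^ (r - s) := by
      rw [← pow_add]
      congr 1
      omega
    rw [h2] at h
    convert h using 1
    ring

end Cfsg.Agent.R2.F4N
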