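import Cfsg.Agent.R2.F4N.Orth

/-!
# `J₀ = V_8^{(r)} ⊕ V_16^{(s)}` (lead, S5931)
-/

set_option autoImplicit false
set_option linter.unusedSectionVars false

namespace Cfsg.Agent.R2.F4N

open Cfsg Cfsg.Lie Module Matrix
open Cfsg.Agent.ChevalleyStructure.E6Min.Basic
open Cfsg.Agent.H952.F4 Cfsg.Agent.H952.F4.Jord
open Cfsg.Agent.H952.F4.FixV (W0 mem_W0 finrank_W0 u0_ne_zero tr1_eq)
open Cfsg.Agent.R2.F4M
open Cfsg.Agent.R2.H9.E6
open Cfsg.Agent.R2.H28.SL2 Cfsg.Agent.H943.RepAdd Cfsg.Agent.H943.SL2Mod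

universe u v w

section ev

variable {k : Type u} [Field k] {K : Type w} [Field K] {W : Type v} [AddCommGroup W] [Module k W]
variable (ι : K →+* k) (ρ : Representation k (SpecialLinearGroup (Fin 2) K) W)

/-- weight vectors -/
def Ev (v : W) (e : ℤ) : Prop :=
  ∀ a : Kˣ, ρ (Cfsg.Agent.H943.SL2Rel.h a) v = ((Units.map (ι : K →* k) a ^ e : kˣ) : k) • v

variable {ι ρ}

theorem Str.ev {p r : ℕ} [Fact p.Prime] [CharP k p] {n : ℕ} {x : ℕ → W} (h : Str ((iterateFrobenius k p r).comp ι) ρ n x)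
    {s : ℕ} (hs : s ≤ n) : Ev ι ρ (x s) ((p : ℤ) ^ r * (2 * s - n)) := by
  intro a
  rw [h.h s hs a]
  congr 1
  have h1 : ((iterateFrobenius k p r).comp ι) (a : K) = ((Units.map (ι : K →* k) a ^ (p ^ r) : kˣ) : k) := by
    rw [Units.val_pow_eq_pow_val]
    exact iterateFrobenius_def p r (ι a)
  rw [h1, ← Units.val_inv_eq_inv_val, ← Units.val_pow_eq_pow_val, ← Units.val_pow_eq_pow_val, ← Units.val_mul]
  congr 1
  rw [← zpow_natCast, ← zpow_natCast, ← zpow_natCast, ← _root_.zpow_neg, ← _root_.zpow_mul, ← _root_.zpow_mul,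
    ← _root_.zpow_add]
  congr 1
  have : ((n - s : ℕ) : ℤ) = (n : ℤ) - s := by omega
  rw [this]
  push_cast
  ring

theorem ev_dvd [Fintype K] {N : W →ₗ[k] W →ₗ[k] W →ₗ[k] k} (hN : ∀ g x y z, N (ρ g x) (ρ g y) (ρ g z) = N x y z)
    {x y z : W} {e₁ e₂ e₃ : ℤ} (hx : Ev ι ρ x e₁) (hy : Ev ι ρ y e₂) (hz : Ev ι ρ z e₃) (h : N x y z ≠ 0) :
    ((Fintype.card K - 1 : ℕ) : ℤ) ∣ e₁ + e₂ + e₃ := by
  classical
  obtain ⟨r, hr⟩ := IsCyclic.exists_ofOrder_eq_natCard (α := Kˣ)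
  have h1 := hN (Cfsg.Agent.H943.SL2Rel.h r) x y z
  rw [hx r, hy r, hz r] at h1
  simp only [map_smul, LinearMap.smul_apply, smul_eq_mul] at h1
  have h2 : (((Units.map (ι : K →* k) r ^ (e₁ + e₂ + e₃) : kˣ) : k)) = 1 := by
    rw [_root_.zpow_add, _root_.zpow_add, Units.val_mul, Units.val_mul]
    refine mul_right_cancel₀ h ?_
    rw [one_mul]
    refine Eq.trans ?_ h1
    ring
  have h3 : (Units.map (ι : K →* k) r) ^ (e₁ + e₂ + e₃) = 1 := Units.ext h2
  have h4 := orderOf_dvd_iff_zpow_eq_one.2 h3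
  have h5 : orderOf (Units.map (ι : K →* k) r) = orderOf r :=
    orderOf_injective _ (Units.map_injective ι.injective) r
  rwa [h5, hr, Nat.card_eq_fintype_card, Fintype.card_units] at h4

/-- one step -/
theorem kill {N : W →ₗ[k] W →ₗ[k] W →ₗ[k] k} (hN : ∀ g x y z, N (ρ g x) (ρ g y) (ρ g z) = N x y z)
    {κ₁ κ₂ κ₃ : K →+* k} {m₁ m₂ m₃ : ℕ} {x y z : ℕ → W} (hx : Str κ₁ ρ m₁ x) (hy : Str κ₂ ρ m₂ y) (hz : Str κ₃ ρ m₃ z)
    {i j l : ℕ} (hi : i ≤ m₁) (hj : j ≤ m₂) (hl : l < m₃) (hc : ((m₃ - l : ℕ) : k) ≠ 0)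
    (h0 : ∀ e f g, i + e ≤ m₁ → j + f ≤ m₂ → l + g ≤ m₃ → ¬ (e = 0 ∧ f = 0 ∧ g = 1) → N (x (i + e)) (y (j + f)) (z (l + g)) = 0) :
    N (x i) (y j) (z (l + 1)) = 0 := by
  have h1 := hN (Cfsg.Agent.H943.SL2Rel.u 1) (x i) (y j) (z l)
  rw [hx.u i hi, hy.u j hj, hz.u l hl.le] at h1
  have h2 := h0 0 0 0 hi hj hl.le (by omega)
  rw [add_zero, add_zero, add_zero] at h2
  rw [h2] at h1
  simp only [map_sum, LinearMap.sum_apply, map_smul, LinearMap.smul_apply, smul_eq_mul, map_one, one_pow, mul_one] at h1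
  have h3 : ∀ g ∈ Finset.range (m₃ - l + 1), ∀ f ∈ Finset.range (m₂ - j + 1), ∀ e ∈ Finset.range (m₁ - i + 1),
      ¬ (e = 0 ∧ f = 0 ∧ g = 1) → N (x (i + e)) (y (j + f)) (z (l + g)) = 0 := by
    intro g hg f hf e he h
    rw [Finset.mem_range] at hg hf he
    exact h0 e f g (by omega) (by omega) (by omega) h
  rw [Finset.sum_eq_single 1, Finset.sum_eq_single 0, Finset.sum_eq_single 0] at h1
  · rw [Nat.choose_zero_right, Nat.choose_zero_right, Nat.cast_one, one_mul, one_mul, Nat.choose_one_right, add_zero,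
      add_zero] at h1
    exact (mul_eq_zero.1 h1).resolve_left hc
  · intro e he hne
    rw [h3 1 (Finset.mem_range.2 (by omega)) 0 (Finset.mem_range.2 (by omega)) e he (by tauto), mul_zero]
  · intro h
    exact absurd (Finset.mem_range.2 (by omega)) h
  · intro f hf hne
    rw [Finset.sum_eq_zero, mul_zero]
    intro e he
    rw [h3 1 (Finset.mem_range.2 (by omega)) f hf e he (by tauto), mul_zero]
  · intro h
    exact absurd (Finset.mem_range.2 (by omega)) h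
  · intro g hg hne
    rw [Finset.sum_eq_zero, mul_zero]
    intro f hf
    rw [Finset.sum_eq_zero, mul_zero]
    intro e he
    rw [h3 g hg f hf e he (by tauto), mul_zero]
  · intro h
    exact absurd (Finset.mem_range.2 (by omega)) h

theorem mirror_w {N : W →ₗ[k] W →ₗ[k] W →ₗ[k] k} (hN : ∀ g x y z, N (ρ g x) (ρ g y) (ρ g z) = N x y z)
    {κ₁ κ₂ κ₃ : K →+* k} {m₁ m₂ m₃ : ℕ} {x y z : ℕ → W} (hx : Str κ₁ ρ m₁ x) (hy : Str κ₂ ρ m₂ y) (hz : Str κ₃ ρ m₃ z)
    {a b c : ℕ} (ha : a ≤ m₁) (hb : b ≤ m₂) (hc : c ≤ m₃) (h : N (x (m₁ - a)) (y (m₂ - b)) (z (m₃ - c)) = 0) :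
    N (x a) (y b) (z c) = 0 := by
  rw [← hN Cfsg.Agent.H943.SL2Rel.w, hx.w a ha, hy.w b hb, hz.w c hc]
  simp only [map_smul, LinearMap.smul_apply, smul_eq_mul, h, mul_zero]

end ev

section cl

variable {F : Type u} [Field F] {K : Type v} [Field K] [Fintype K] {k : Type u} [Field k] {f : F →+* k}
variable {φ : ProjectiveSpecialLinearGroup (Fin 2) K →* ↥(chevF4.group F)}

theorem NN_Rk (g : SpecialLinearGroup (Fin 2) K) (x y z : I27 → k) :
    NN k (Rk f φ g x) (Rk f φ g y) (Rk f φ g z) = NN k x y z := by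
  rw [NN_apply, NN_apply, Rk_cr, Rk_tf]

variable {ι : K →+* k} {p a r s : ℕ} [Fact p.Prime] [CharP k p]
variable {x y : ℕ → I27 → k} (hx : Str ((iterateFrobenius k p r).comp ι) (Rk f φ) 8 x)
  (hy : Str ((iterateFrobenius k p s).comp ι) (Rk f φ) 16 y)
  (hp : 17 ≤ p) (hK : Fintype.card K = p ^ a) (hr : r < a) (hs : s < a) (hrs : r ≠ s)

theorem card_int (hp : 17 ≤ p) (hK : Fintype.card K = p ^ a) : ((Fintype.card K - 1 : ℕ) : ℤ) = (p : ℤ) ^ a - 1 := by
  rw [hK, Nat.cast_sub (Nat.one_le_pow _ _ (by omega))]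
  push_cast
  ring

theorem cast_ne (hp : 17 ≤ p) {n : ℕ} (h1 : 1 ≤ n) (hn : n < 17) : (n : k) ≠ 0 := by
  rw [Ne, CharP.cast_eq_zero_iff k p]
  intro h
  have := Nat.le_of_dvd h1 h
  omega

include hx hy hp hK hr hs hrs

theorem wtA {i j l : ℕ} (hi : i ≤ 8) (hj : j ≤ 8) (hl : l ≤ 16) (h : NN k (x i) (x j) (y l) ≠ 0) :
    (i + j = 8 ∧ l = 8) ∨ (i = 8 ∧ j = 8 ∧ l = 16) ∨ (i = 0 ∧ j = 0 ∧ l = 0) := by
  have h1 := ev_dvd (NN_Rk (f := f) (φ := φ)) (hx.ev hi) (hx.ev hj) (hy.ev hl) h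
  rw [card_int hp hK] at h1
  have h2 := dig2A hp hr hs hrs (A := 2 * (i + j) - 16) (B := 2 * l - 16) (by omega) (by omega) (by omega) (by omega) (by
    convert h1 using 1
    push_cast
    ring)
  omega

theorem wtB {i j l : ℕ} (hi : i ≤ 8) (hj : j ≤ 16) (hl : l ≤ 16) (h : NN k (y j) (y l) (x i) ≠ 0) :
    i = 4 ∧ j + l = 16 := by
  have h1 := ev_dvd (NN_Rk (f := f) (φ := φ)) (hy.ev hj) (hy.ev hl) (hx.ev hi) h
  rw [card_int hp hK] at h1
  have h2 := dig2B hp Fact.out hr hs hrs (A := 2 * i - 8) (B := 2 * (j + l) - 32) (by omega) (by omega) (by omega) (by omega)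
    ⟨j + l - 16, by ring⟩ (by
    convert h1 using 1
    push_cast
    ring)
  omega

theorem ev_u0 : Ev ι (Rk f φ) (u0 k) 0 := by
  intro a
  rw [Rk_u0, zpow_zero, Units.val_one, one_smul]

theorem wtC {i j : ℕ} (hi : i ≤ 8) (hj : j ≤ 16) (h : NN k (u0 k) (x i) (y j) ≠ 0) : i = 4 ∧ j = 8 := by
  have h1 := ev_dvd (NN_Rk (f := f) (φ := φ)) (ev_u0 hx hy hp hK hr hs hrs) (hx.ev hi) (hy.ev hj) h
  rw [card_int hp hK] at h1
  have h2 := dig2A hp hr hs hrs (A := 2 * i - 8) (B := 2 * j - 16) (by omega) (by omega) (by omega) (by omega) (by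
    convert h1 using 1
    push_cast
    ring)
  omega

theorem clA {i j l : ℕ} (hi : i ≤ 8) (hj : j ≤ 8) (hl : l ≤ 16) : NN k (x i) (x j) (y l) = 0 := by
  have h0 : NN k (x 8) (x 8) (y 16) = 0 := by
    refine kill (l := 15) NN_Rk hx hx hy le_rfl le_rfl (by norm_num) (cast_ne hp (by norm_num) (by norm_num)) ?_
    intro e f' g he hf hg hne
    by_contra h
    have := wtA hx hy hp hK hr hs hrs he hf hg h
    omega
  by_contra h
  rcases wtA hx hy hp hK hr hs hrs hi hj hl h with ⟨h1, rfl⟩ | ⟨rfl, rfl, rfl⟩ | ⟨rfl, rfl, rfl⟩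
  · apply h
    refine kill (l := 7) NN_Rk hx hx hy hi hj (by norm_num) (cast_ne hp (by norm_num) (by norm_num)) ?_
    intro e f' g he hf hg hne
    by_contra h'
    rcases wtA hx hy hp hK hr hs hrs he hf hg h' with h2 | ⟨e1, e2, e3⟩ | h2
    · omega
    · rw [e1, e2, e3] at h'
      exact h' h0
    · omega
  · exact h h0
  · exact h (mirror_w NN_Rk hx hx hy (Nat.zero_le _) (Nat.zero_le _) (Nat.zero_le _) h0)

theorem clB {i j l : ℕ} (hi : i ≤ 8) (hj : j ≤ 16) (hl : l ≤ 16) : NN k (y j) (y l) (x i) = 0 := by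
  by_contra h
  obtain ⟨rfl, h1⟩ := wtB hx hy hp hK hr hs hrs hi hj hl h
  apply h
  refine kill (l := 3) NN_Rk hy hy hx hj hl (by norm_num) (cast_ne hp (by norm_num) (by norm_num)) ?_
  intro e f' g he hf hg hne
  by_contra h'
  have := wtB hx hy hp hK hr hs hrs hg he hf h'
  omega

theorem clC {i j : ℕ} (hi : i ≤ 8) (hj : j ≤ 16) : NN k (u0 k) (x i) (y j) = 0 := by
  by_contra h
  obtain ⟨rfl, rfl⟩ := wtC hx hy hp hK hr hs hrs hi hj h
  apply h
  refine kill (l := 7) (i := 0) NN_Rk (Str.const (κ := ι) (v := u0 k) (fun g => Rk_u0 f φ g)) hx hy (Nat.zero_le _) hi (by norm_num)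
    (cast_ne hp (by norm_num) (by norm_num)) ?_
  intro e f' g he hf hg hne
  by_contra h'
  have := wtC hx hy hp hK hr hs hrs hf hg h'
  omega

end cl

section main

variable {F : Type u} [Field F] {K : Type v} [Field K] [Fintype K] {k : Type u} [Field k] {f : F →+* k}
variable {φ : ProjectiveSpecialLinearGroup (Fin 2) K →* ↥(chevF4.group F)}

theorem span_zero {κ : K →+* k} {X : Submodule k (I27 → k)} {n : ℕ} {x : ℕ → I27 → k} (b : Sb κ f φ X n x)
    (L : (I27 → k) →ₗ[k] k) (h : ∀ s ≤ n, L (x s) = 0) {v : I27 → k} (hv : v ∈ X) : L v = 0 := by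
  have h1 : X ≤ LinearMap.ker L := by
    rw [b.sp, Submodule.span_le]
    rintro _ ⟨s, rfl⟩
    exact h s (Nat.lt_succ_iff.1 s.2)
  exact h1 hv

/-- **unequal twists** -/
theorem box_E_ne {ι : K →+* k} {p a r s : ℕ} [Fact p.Prime] [CharP k p] (hp : 17 ≤ p) (hK : Fintype.card K = p ^ a)
    (hr : r < a) (hs : s < a) (hrs : r ≠ s) {X Y : Submodule k (I27 → k)} {x y : ℕ → I27 → k} (hX : X ≤ W0 k) (hY : Y ≤ W0 k)
    (hXY : ∀ w ∈ X, w ∈ Y → w = 0)
    (bX : Sb ((iterateFrobenius k p r).comp ι) f φ X 8 x) (bY : Sb ((iterateFrobenius k p s).comp ι) f φ Y 16 y) : False := by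
  have h2 : (2 : k) ≠ 0 := by exact_mod_cast cast_ne (k := k) hp (n := 2) (by norm_num) (by norm_num)
  have h3 : (3 : k) ≠ 0 := by exact_mod_cast cast_ne (k := k) hp (n := 3) (by norm_num) (by norm_num)
  have tX : ∀ v ∈ X, tr1 v = 0 := fun v hv => (mem_W0 v).1 (hX hv)
  have tY : ∀ v ∈ Y, tr1 v = 0 := fun v hv => (mem_W0 v).1 (hY hv)
  have hA : ∀ v ∈ X, ∀ v' ∈ X, ∀ w ∈ Y, NN k v v' w = 0 := by
    intro v hv v' hv' w hw
    refine span_zero bY (NN k v v') (fun l hl => ?_) hw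
    rw [← NN_rot]
    refine span_zero bX (NN k (y l) v) (fun j hj => ?_) hv'
    rw [NN_rot, NN_rot]
    have h5 : NN k (x j) (y l) v = 0 := by
      refine span_zero bX (NN k (x j) (y l)) (fun i hi => ?_) hv
      rw [NN_rot, NN_rot]
      exact clA bX.str bY.str hp hK hr hs hrs hi hj hl
    exact h5
  have hB : ∀ w ∈ Y, ∀ w' ∈ Y, ∀ v ∈ X, NN k w w' v = 0 := by
    intro w hw w' hw' v hv
    refine span_zero bX (NN k w w') (fun i hi => ?_) hv
    rw [← NN_rot]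
    refine span_zero bY (NN k (x i) w) (fun l hl => ?_) hw'
    rw [NN_rot, NN_rot]
    have h5 : NN k (y l) (x i) w = 0 := by
      refine span_zero bY (NN k (y l) (x i)) (fun j hj => ?_) hw
      rw [NN_rot, NN_rot]
      exact clB bX.str bY.str hp hK hr hs hrs hi hj hl
    exact h5
  have hC : ∀ v ∈ X, ∀ w ∈ Y, tf v w = 0 := by
    intro v hv w hw
    have h4 : NN k (u0 k) v w = 0 := by
      refine span_zero bY (NN k (u0 k) v) (fun j hj => ?_) hw
      rw [← NN_rot]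
      refine span_zero bX (NN k (y j) (u0 k)) (fun i hi => ?_) hv
      rw [NN_rot]
      exact clC bX.str bY.str hp hK hr hs hrs hi hj
    rw [NN_u0, tX v hv, zero_mul, zero_sub, neg_eq_zero] at h4
    exact h4
  -- the sum
  have hsum : X ⊔ Y = W0 k := by
    refine Submodule.eq_of_le_of_finrank_eq (sup_le hX hY) ?_
    have h4 := Submodule.finrank_sup_add_finrank_inf_eq X Y
    have h5 : X ⊓ Y = ⊥ := by
      rw [eq_bot_iff]
      intro w hw
      exact (Submodule.mem_bot k).2 (hXY w hw.1 hw.2)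
    rw [h5, finrank_bot, add_zero, bX.finrank, bY.finrank] at h4
    rw [h4, finrank_W0]
  have hnd : ∀ w : I27 → k, tr1 w = 0 → (∀ v ∈ X, tf w v = 0) → (∀ v ∈ Y, tf w v = 0) → w = 0 := by
    intro w h0 h1 h1'
    refine tf_nondeg fun z => ?_
    have h4 : z - (tr1 z / 3) • u0 k ∈ X ⊔ Y := by
      rw [hsum, mem_W0, Cfsg.Agent.H952.F4.FixV.tr1_sub, tr1_smul, tr1_u0]
      field_simp
      ring
    obtain ⟨α, hα, β, hβ, hαβ⟩ := Submodule.mem_sup.1 h4
    have h5 : z = α + β + (tr1 z / 3) • u0 k := by rw [hαβ]; abel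
    rw [h5, tf_add_right, tf_add_right, tf_smul_right, tf_u0_right, h1 α hα, h1' β hβ, h0]
    ring
  have nonzero : ∀ {Z Z' : Submodule k (I27 → k)}, (∀ v ∈ Z, tr1 v = 0) → (∀ v ∈ Z, ∀ w ∈ Z', tf v w = 0) →
      (∀ w : I27 → k, tr1 w = 0 → (∀ v ∈ Z, tf w v = 0) → (∀ v ∈ Z', tf w v = 0) → w = 0) → (∃ v ∈ Z, v ≠ 0) →
      ∃ v ∈ Z, tf v v ≠ 0 := by
    intro Z Z' ht ho hnd ⟨v, hv, hv0⟩
    by_contra hcon
    push Not at hcon
    apply hv0
    refine hnd v (ht v hv) (fun w hw => ?_) (ho v hv)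
    have h4 := hcon (v + w) (Z.add_mem hv hw)
    rw [tf_add_left, tf_add_right, tf_add_right, hcon v hv, hcon w hw, tf_comm w v] at h4
    have h5 : 2 * tf v w = 0 := by linear_combination h4
    exact (mul_eq_zero.1 h5).resolve_left h2
  obtain ⟨v, hv, hvv⟩ := nonzero tX hC hnd ⟨x 0, bX.mem (Nat.zero_le _), bX.ne (Nat.zero_le _)⟩
  obtain ⟨w, hw, hww⟩ := nonzero tY (fun w hw v hv => by rw [tf_comm]; exact hC v hv w hw)
    (fun w h0 h1 h1' => hnd w h0 h1' h1) ⟨y 0, bY.mem (Nat.zero_le _), bY.ne (Nat.zero_le _)⟩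
  -- the product of the two parts
  have hcr : cr v w = 0 := by
    refine hnd _ ?_ (fun t ht => ?_) (fun t ht => ?_)
    · rw [tr1_cr, tX v hv, hC v hv w hw]
      ring
    · have h4 := hA t ht v hv w hw
      rw [NN_rot] at h4
      exact h4
    · have h4 := hB w hw t ht v hv
      rw [← NN_rot] at h4
      exact h4
  have hst : st v w = 0 := by
    unfold st
    rw [hcr, hC v hv w hw, zero_div, zero_smul, add_zero]
  -- w * w
  have hww' : st w w ∈ Y := by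
    have h4 : st w w ∈ X ⊔ Y := by
      rw [hsum, mem_W0]
      exact tr1_st h3 (tY w hw) w
    obtain ⟨α, hα, β, hβ, hαβ⟩ := Submodule.mem_sup.1 h4
    have h5 : α = 0 := by
      refine hnd α (tX α hα) (fun t ht => ?_) (hC α hα)
      have h6 := hB w hw w hw t ht
      rw [NN_apply, ← tf_st w w (tX t ht), ← hαβ, tf_add_left, tf_comm β t, hC t ht β hβ, add_zero] at h6
      exact h6
    rw [← hαβ, h5, zero_add]
    exact hβ
  have hsq : tf (st v v) (st w w) = 0 := by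
    rw [tf_st v v (tY _ hww')]
    exact hA v hv v hv _ hww'
  have h4 := e4 h2 h3 (tX v hv) (tX v hv) (tY w hw) (tY w hw)
  rw [hsq, hst, hC v hv w hw] at h4
  have h5 : tf (0 : I27 → k) 0 = 0 := by
    have := tf_smul_left (0 : k) (0 : I27 → k) 0
    rwa [zero_smul, zero_mul] at this
  rw [h5] at h4
  have h6 : tf v v * tf w w = 0 := by
    have h7 : (2 : k) / 3 ≠ 0 := div_ne_zero h2 h3
    have h8 : (2 : k) / 3 * (tf v v * tf w w) = 0 := by linear_combination -h4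
    exact (mul_eq_zero.1 h8).resolve_left h7
  rcases mul_eq_zero.1 h6 with h7 | h7
  · exact hvv h7
  · exact hww h7

end main

end Cfsg.Agent.R2.F4N
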