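import Cfsg.Agent.R2.F4N.Tor
import Cfsg.Agent.R2.F4N.Nil

/-!
# `Q = 13` : tools (lead, S5931)

* `UU` : `u t` acts on a vector with coefficients in a family of subspaces;
* `depth` : `(u 1 - 1) ^ k v = 0`;
* `Wt` : weights of the torus;
* `E12` : `(u 1 - 1) ^ 12 = ∑ u t`.
-/

set_option autoImplicit false
set_option linter.unusedSectionVars false

namespace Cfsg.Agent.R2.F4N

open Cfsg Cfsg.Lie Module Matrix Finset
open Cfsg.Agent.ChevalleyStructure.E6Min.Basic
open Cfsg.Agent.H952.F4 Cfsg.Agent.H952.F4.Jord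
open Cfsg.Agent.R2.F4M

universe u v w

section st

variable {k : Type u} [Field k]

theorem st_sum_left {α : Type*} (S : Finset α) (f : α → I27 → k) (y : I27 → k) :
    st (∑ i ∈ S, f i) y = ∑ i ∈ S, st (f i) y := by
  classical
  induction S using Finset.induction_on with
  | empty => rw [Finset.sum_empty, Finset.sum_empty, st_zero_left]
  | insert a S ha ih => rw [Finset.sum_insert ha, Finset.sum_insert ha, st_add_left, ih]

theorem st_sum_right {α : Type*} (S : Finset α) (x : I27 → k) (f : α → I27 → k) :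
    st x (∑ i ∈ S, f i) = ∑ i ∈ S, st x (f i) := by
  rw [st_comm, st_sum_left]
  exact Finset.sum_congr rfl fun i _ => st_comm _ _

theorem st_neg_right (x y : I27 → k) : st x (-y) = -st x y := by
  rw [← neg_one_smul k y, st_smul_right, neg_one_smul]

theorem st_sub_right (x y z : I27 → k) : st x (y - z) = st x y - st x z := by
  rw [sub_eq_add_neg, st_add_right, st_neg_right, sub_eq_add_neg]

theorem tf_sub_left (x y z : I27 → k) : tf (x - y) z = tf x z - tf y z := by
  rw [sub_eq_add_neg, tf_add_left, ← neg_one_smul k y, tf_smul_left]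
  ring

theorem tf_neg_right (x y : I27 → k) : tf x (-y) = -tf x y := by
  rw [← neg_one_smul k y, tf_smul_right]
  ring

end st

variable {F : Type u} [Field F] [Fintype F] {K : Type v} [Field K] [Fintype K]
variable {φ : ProjectiveSpecialLinearGroup (Fin 2) K →* ↥(chevF4.group F)} {κ : K →+* F}

theorem RF_st (g : SpecialLinearGroup (Fin 2) K) (x y : I27 → F) : st (RF φ g x) (RF φ g y) = RF φ g (st x y) := by
  unfold st
  rw [map_add, map_smul, RF_apply, RF_apply, RF_apply, RF_apply, Jr_cr, Jr_tf, Jr_u0]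

theorem RF_tf (g : SpecialLinearGroup (Fin 2) K) (x y : I27 → F) : tf (RF φ g x) (RF φ g y) = tf x y := Jr_tf _ _ _

theorem RF_tr (g : SpecialLinearGroup (Fin 2) K) (x : I27 → F) : tr1 (RF φ g x) = tr1 x := Jr_tr _ _

/-- `u t` acts with coefficients in the family `S` -/
def UU (κ : K →+* F) (φ : ProjectiveSpecialLinearGroup (Fin 2) K →* ↥(chevF4.group F)) (L : ℕ)
    (S : ℕ → Submodule F (I27 → F)) (n : ℕ) (v : I27 → F) : Prop :=
  ∃ c : ℕ → I27 → F, c 0 = v ∧ (∀ r, c r ∈ S (n + r)) ∧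
    ∀ t : K, RF φ (Cfsg.Agent.H943.SL2Rel.u t) v = ∑ r ∈ range L, κ t ^ r • c r

section UU

variable {S S' S'' : ℕ → Submodule F (I27 → F)} {L L' n n' : ℕ} {v v' : I27 → F}

theorem UU.zero : UU κ φ L S n 0 := ⟨fun _ => 0, rfl, fun _ => Submodule.zero_mem _, fun t => by simp⟩

theorem UU.add (h : UU κ φ L S n v) (h' : UU κ φ L S n v') : UU κ φ L S n (v + v') := by
  obtain ⟨c, h1, h2, h3⟩ := h
  obtain ⟨c', h1', h2', h3'⟩ := h'
  refine ⟨fun r => c r + c' r, by simp only [h1, h1'], fun r => Submodule.add_mem _ (h2 r) (h2' r), fun t => ?_⟩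
  rw [map_add, h3, h3', ← Finset.sum_add_distrib]
  exact Finset.sum_congr rfl fun r _ => (smul_add _ _ _).symm

theorem UU.smul (h : UU κ φ L S n v) (e : F) : UU κ φ L S n (e • v) := by
  obtain ⟨c, h1, h2, h3⟩ := h
  refine ⟨fun r => e • c r, by simp only [h1], fun r => Submodule.smul_mem _ _ (h2 r), fun t => ?_⟩
  rw [map_smul, h3, Finset.smul_sum]
  exact Finset.sum_congr rfl fun r _ => smul_comm _ _ _

theorem UU.span {G : Set (I27 → F)} (h : ∀ v ∈ G, UU κ φ L S n v) : ∀ v ∈ Submodule.span F G, UU κ φ L S n v := by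
  intro v hv
  induction hv using Submodule.span_induction with
  | mem v hv => exact h v hv
  | zero => exact UU.zero
  | add x y _ _ hx hy => exact hx.add hy
  | smul e x _ hx => exact hx.smul e

theorem UU.st (h : UU κ φ L S n v) (h' : UU κ φ L' S' n' v') (hL : 0 < L) (hL' : 0 < L')
    (hS : ∀ m m' x y, x ∈ S m → y ∈ S' m' → F4N.st x y ∈ S'' (m + m')) : UU κ φ (L + L') S'' (n + n') (F4N.st v v') := by
  obtain ⟨c, h1, h2, h3⟩ := h
  obtain ⟨c', h1', h2', h3'⟩ := h'
  refine ⟨fun r => ∑ x ∈ (range L ×ˢ range L').filter (fun x => x.1 + x.2 = r), F4N.st (c x.1) (c' x.2), ?_, ?_, ?_⟩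
  · beta_reduce
    rw [Finset.sum_eq_single (0, 0), h1, h1']
    · rintro ⟨a, b⟩ hx hne
      rw [mem_filter] at hx
      exact absurd (by ext <;> simp <;> omega) hne
    · intro hx
      exact (hx (by simp [hL, hL'])).elim
  · intro r
    beta_reduce
    refine Submodule.sum_mem _ fun x hx => ?_
    rw [mem_filter] at hx
    have h4 := hS _ _ _ _ (h2 x.1) (h2' x.2)
    rwa [show n + x.1 + (n' + x.2) = n + n' + r by omega] at h4
  · intro t
    rw [← RF_st, h3, h3', st_sum_left]
    simp only [st_sum_right]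
    rw [← Finset.sum_product', ← Finset.sum_fiberwise_of_maps_to (s := range L ×ˢ range L') (t := range (L + L'))
      (g := fun x => x.1 + x.2)]
    · refine Finset.sum_congr rfl fun r _ => ?_
      rw [Finset.smul_sum]
      refine Finset.sum_congr rfl fun x hx => ?_
      rw [mem_filter] at hx
      rw [st_smul_left, st_smul_right, smul_smul, ← pow_add, hx.2]
    · intro x hx
      rw [mem_product, Finset.mem_range, Finset.mem_range] at hx
      exact Finset.mem_range.2 (by omega)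

theorem UU.fixed (h : UU κ φ L S n v) (hL : 0 < L) (hS : ∀ r, 1 ≤ r → S (n + r) = ⊥) (t : K) :
    RF φ (Cfsg.Agent.H943.SL2Rel.u t) v = v := by
  obtain ⟨c, h1, h2, h3⟩ := h
  rw [h3, Finset.sum_eq_single 0, pow_zero, one_smul, h1]
  · intro r _ hr
    have h4 := h2 r
    rw [hS r (by omega), Submodule.mem_bot] at h4
    rw [h4, smul_zero]
  · intro h4
    exact absurd (Finset.mem_range.2 hL) h4

/-- **depth** -/
theorem depth {N : ℕ} (hU : ∀ n, ∀ v ∈ S n, UU κ φ L S n v) (hL : 0 < L) (hN : ∀ n, N ≤ n → S n = ⊥) (k : ℕ) :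
    ∀ n, N ≤ n + k → ∀ v ∈ S n, ((RF φ (Cfsg.Agent.H943.SL2Rel.u 1) - 1 : Module.End F (I27 → F)) ^ k) v = 0 := by
  induction k with
  | zero =>
    intro n hn v hv
    rw [hN n (by omega), Submodule.mem_bot] at hv
    rw [hv, map_zero]
  | succ k ih =>
    intro n hn v hv
    obtain ⟨c, h1, h2, h3⟩ := hU n v hv
    rw [pow_succ, Module.End.mul_apply]
    have h4 : (RF φ (Cfsg.Agent.H943.SL2Rel.u 1) - 1 : Module.End F (I27 → F)) v = ∑ r ∈ (range L).erase 0, c r := by
      rw [LinearMap.sub_apply, Module.End.one_apply, h3, ← Finset.add_sum_erase _ _ (Finset.mem_range.2 hL), map_one, pow_zero,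
        one_smul, h1, add_sub_cancel_left]
      exact Finset.sum_congr rfl fun r _ => by rw [one_pow, one_smul]
    rw [h4, map_sum]
    refine Finset.sum_eq_zero fun r hr => ?_
    rw [mem_erase] at hr
    exact ih (n + r) (by omega) _ (h2 r)

end UU

/-- weights of the torus -/
def Wt (κ : K →+* F) (φ : ProjectiveSpecialLinearGroup (Fin 2) K →* ↥(chevF4.group F)) (e : ℕ) (v : I27 → F) : Prop :=
  ∀ g : Kˣ, RF φ (Cfsg.Agent.H943.SL2Rel.h g) v = κ g ^ e • v

section Wt

variable {e e' : ℕ} {v v' : I27 → F}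

theorem Wt.zero : Wt κ φ e 0 := fun g => by rw [map_zero, smul_zero]

theorem Wt.add (h : Wt κ φ e v) (h' : Wt κ φ e v') : Wt κ φ e (v + v') := fun g => by rw [map_add, h, h', smul_add]

theorem Wt.smul (h : Wt κ φ e v) (c : F) : Wt κ φ e (c • v) := fun g => by rw [map_smul, h, smul_comm]

theorem Wt.sub (h : Wt κ φ e v) (h' : Wt κ φ e v') : Wt κ φ e (v - v') := by
  rw [sub_eq_add_neg, ← neg_one_smul F v']
  exact h.add (h'.smul _)

theorem Wt.st (h : Wt κ φ e v) (h' : Wt κ φ e' v') : Wt κ φ (e + e') (F4N.st v v') := fun g => by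
  rw [← RF_st, h, h', st_smul_left, st_smul_right, smul_smul, pow_add]

theorem Wt.span {G : Set (I27 → F)} (h : ∀ v ∈ G, Wt κ φ e v) : ∀ v ∈ Submodule.span F G, Wt κ φ e v := by
  intro v hv
  induction hv using Submodule.span_induction with
  | mem v hv => exact h v hv
  | zero => exact Wt.zero
  | add x y _ _ hx hy => exact hx.add hy
  | smul c x _ hx => exact hx.smul c

theorem Wt.congr (h : Wt κ φ e v) (he : e = e') : Wt κ φ e' v := he ▸ h

theorem exists_gen (κ : K →+* F) : ∃ g : Kˣ, ∀ m, κ g ^ m = 1 → Fintype.card K - 1 ∣ m := by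
  classical
  obtain ⟨g, hg⟩ := IsCyclic.exists_ofOrder_eq_natCard (α := Kˣ)
  rw [Nat.card_eq_fintype_card, Fintype.card_units] at hg
  refine ⟨g, fun m hm => ?_⟩
  rw [← hg]
  apply orderOf_dvd_of_pow_eq_one
  apply Units.ext
  apply κ.injective
  rw [Units.val_pow_eq_pow_val, map_pow, hm, Units.val_one, map_one]

theorem Wt.tf_zero (h : Wt κ φ e v) (h' : Wt κ φ e' v') (hd : ¬ Fintype.card K - 1 ∣ e + e') : tf v v' = 0 := by
  obtain ⟨g, hg⟩ := exists_gen κ
  by_contra hne
  apply hd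
  apply hg
  have h1 := RF_tf (φ := φ) (Cfsg.Agent.H943.SL2Rel.h g) v v'
  rw [h, h', tf_smul_left, tf_smul_right, ← mul_assoc, ← pow_add] at h1
  exact mul_right_cancel₀ hne (by rw [h1, one_mul])

theorem Wt.ne (h : Wt κ φ e v) (h' : Wt κ φ e' v) (hd : ¬ Fintype.card K - 1 ∣ e + (Fintype.card K - 1) * e' - e')
    (hle : e' ≤ e + (Fintype.card K - 1) * e') : v = 0 := by
  obtain ⟨g, hg⟩ := exists_gen κ
  by_contra hne
  apply hd
  apply hg
  have hg0 : κ (g : K) ≠ 0 := (map_ne_zero κ).2 g.ne_zero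
  have h1 : (κ (g : K) ^ e - κ (g : K) ^ e') • v = 0 := by rw [sub_smul, ← h g, ← h' g, sub_self]
  have h2 := sub_eq_zero.1 ((smul_eq_zero.1 h1).resolve_right hne)
  have h3 : κ (g : K) ^ ((Fintype.card K - 1) * e') = 1 := by
    classical
    rw [pow_mul, ← map_pow, FiniteField.pow_card_sub_one_eq_one _ g.ne_zero, map_one, one_pow]
  have h4 : κ (g : K) ^ (e + (Fintype.card K - 1) * e' - e') * κ (g : K) ^ e' = κ (g : K) ^ e' := by
    rw [← pow_add, Nat.sub_add_cancel hle, pow_add, h3, mul_one, h2]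
  exact mul_right_cancel₀ (pow_ne_zero e' hg0) (by rw [h4, one_mul])

end Wt

section sum

/-- power sums -/
theorem sum_pow (κ : K →+* F) (r : ℕ) : ∑ t : K, κ t ^ r = if r ≠ 0 ∧ Fintype.card K - 1 ∣ r then -1 else 0 := by
  classical
  rcases Nat.eq_zero_or_pos r with rfl | hr
  · rw [if_neg (fun h => h.1 rfl)]
    have h1 : ((Fintype.card K : ℕ) : K) = 0 := FiniteField.cast_card_eq_zero K
    simp only [pow_zero, Finset.sum_const, Finset.card_univ, nsmul_eq_mul, mul_one]
    rw [← map_natCast κ, h1, map_zero]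
  · let ψ : Kˣ ↪ K := ⟨fun x ↦ x, Units.val_injective⟩
    have h0 : univ.map ψ = univ \ {0} := by
      ext x
      simp only [mem_map, mem_univ, Function.Embedding.coeFn_mk, true_and, mem_sdiff,
        mem_singleton, ψ]
      exact ⟨fun ⟨a, ha⟩ => ha ▸ a.ne_zero, fun h => ⟨Units.mk0 x h, rfl⟩⟩
    have h1 : ∑ t : K, κ t ^ r = κ (∑ t : Kˣ, (t : K) ^ r) := by
      have e1 : ∑ t : K, t ^ r = ∑ t : Kˣ, (t : K) ^ r := by
        calc
          ∑ x : K, x ^ r = ∑ x ∈ univ \ {(0 : K)}, x ^ r := by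
            rw [← sum_sdiff ({0} : Finset K).subset_univ, sum_singleton, zero_pow (by omega), add_zero]
          _ = ∑ x : Kˣ, (x ^ r : K) := by simp [ψ, ← h0, univ.sum_map ψ]
      rw [← e1, map_sum]
      exact Finset.sum_congr rfl fun t _ => (map_pow κ t r).symm
    rw [h1, FiniteField.sum_pow_units]
    by_cases h2 : Fintype.card K - 1 ∣ r
    · rw [if_pos h2, if_pos ⟨by omega, h2⟩, map_neg, map_one]
    · rw [if_neg h2, if_neg (fun h => h2 h.2), map_zero]

end sum

end Cfsg.Agent.R2.F4N
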