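import Cfsg.Agent.R2.F4N.Q13a

/-!
# `Q = 13` : the operator `u 1 - 1` (lead, S5931)
-/

set_option autoImplicit false
set_option linter.unusedSectionVars false

namespace Cfsg.Agent.R2.F4N

open Cfsg Cfsg.Lie Module Matrix Finset
open Cfsg.Agent.ChevalleyStructure.E6Min.Basic
open Cfsg.Agent.H952.F4 Cfsg.Agent.H952.F4.Jord
open Cfsg.Agent.H952.F4.FixV (W0 mem_W0 finrank_W0 u0_ne_zero tr1_eq)
open Cfsg.Agent.R2.F4M

universe u v w

theorem pol_geom (R : Type u) [Field R] (p : ℕ) [Fact p.Prime] [CharP R p] :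
    (Polynomial.X - 1 : Polynomial R) ^ (p - 1) = ∑ j ∈ range p, Polynomial.X ^ j := by
  have hp : p.Prime := Fact.out
  have h1 : (Polynomial.X - 1 : Polynomial R) ≠ 0 := by
    intro h
    have h2 := congrArg (Polynomial.eval (0 : R)) h
    simp at h2
  refine mul_right_cancel₀ h1 ?_
  rw [← pow_succ, Nat.sub_add_cancel hp.one_le, geom_sum_mul, sub_pow_char, one_pow]

theorem end_geom {R : Type u} [Field R] {V : Type v} [AddCommGroup V] [Module R V] (A : Module.End R V) (p : ℕ)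
    [Fact p.Prime] [CharP R p] : (A - 1) ^ (p - 1) = ∑ j ∈ range p, A ^ j := by
  have h := congrArg (Polynomial.aeval A) (pol_geom R p)
  simpa using h

theorem end_frob {R : Type u} [Field R] {V : Type v} [AddCommGroup V] [Module R V] (A : Module.End R V) (p : ℕ)
    [Fact p.Prime] [CharP R p] : (A - 1) ^ p = A ^ p - 1 := by
  have h2 : (Polynomial.X - 1 : Polynomial R) ^ p = Polynomial.X ^ p - 1 := by
    rw [sub_pow_char, one_pow]
  have h := congrArg (Polynomial.aeval A) h2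
  simpa using h

theorem sum_prime {K : Type v} [Field K] [Fintype K] {p : ℕ} [Fact p.Prime] [CharP K p] (hK : Fintype.card K = p)
    {M : Type w} [AddCommMonoid M] (f : K → M) : ∑ t : K, f t = ∑ j ∈ range p, f (j : K) := by
  classical
  have e : ZMod p ≃+* K := ZMod.ringEquiv K hK
  have hp : p ≠ 0 := (Fact.out : p.Prime).ne_zero
  rw [← Equiv.sum_comp e.toEquiv f]
  obtain ⟨n, rfl⟩ : ∃ n, p = n + 1 := ⟨p - 1, by omega⟩
  rw [Finset.sum_range]
  refine Finset.sum_congr rfl fun j _ => ?_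
  congr 1
  show e j = _
  have h1 : ((ZMod.val j : ℕ) : ZMod (n + 1)) = j := ZMod.natCast_zmod_val j
  have h2 : e j = e ((ZMod.val j : ℕ) : ZMod (n + 1)) := by rw [h1]
  exact h2.trans (map_natCast e _)

theorem u_nat {K : Type v} [Field K] (j : ℕ) : Cfsg.Agent.H943.SL2Rel.u ((j : ℕ) : K) = Cfsg.Agent.H943.SL2Rel.u (1 : K) ^ j := by
  induction j with
  | zero => rw [Nat.cast_zero, Cfsg.Agent.H943.SL2Rel.u_zero, pow_zero]
  | succ j ih => rw [Nat.cast_succ, Cfsg.Agent.H943.SL2Rel.u_add, ih, pow_succ]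

variable {F : Type u} [Field F] [Fintype F] {K : Type v} [Field K] [Fintype K]
variable {φ : ProjectiveSpecialLinearGroup (Fin 2) K →* ↥(chevF4.group F)} {κ : K →+* F}

/-- `u 1 - 1` -/
noncomputable def EE (φ : ProjectiveSpecialLinearGroup (Fin 2) K →* ↥(chevF4.group F)) : Module.End F (I27 → F) :=
  RF φ (Cfsg.Agent.H943.SL2Rel.u 1) - 1

theorem EE_top {p : ℕ} [Fact p.Prime] [CharP F p] [CharP K p] (hK : Fintype.card K = p) (v : I27 → F) :
    (EE φ ^ (p - 1)) v = ∑ t : K, RF φ (Cfsg.Agent.H943.SL2Rel.u t) v := by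
  unfold EE
  rw [end_geom, sum_prime hK (fun t => RF φ (Cfsg.Agent.H943.SL2Rel.u t) v), LinearMap.sum_apply]
  refine Finset.sum_congr rfl fun j _ => ?_
  rw [u_nat, map_pow]

theorem EE_zero {p : ℕ} [Fact p.Prime] [CharP F p] [CharP K p] : EE φ ^ p = 0 := by
  unfold EE
  rw [end_frob, ← map_pow, ← u_nat, CharP.cast_eq_zero, Cfsg.Agent.H943.SL2Rel.u_zero, map_one, sub_self]

theorem EE_ge {p : ℕ} [Fact p.Prime] [CharP F p] [CharP K p] {n : ℕ} (hn : p ≤ n) : EE φ ^ n = 0 := by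
  rw [← Nat.sub_add_cancel hn, pow_add, EE_zero (p := p), mul_zero]

theorem EE_adj (x y : I27 → F) : tf (EE φ x) y = -tf (RF φ (Cfsg.Agent.H943.SL2Rel.u 1) x) (EE φ y) := by
  unfold EE
  simp only [LinearMap.sub_apply, Module.End.one_apply]
  have h1 := RF_tf (φ := φ) (Cfsg.Agent.H943.SL2Rel.u 1) x y
  rw [tf_sub_left, sub_eq_add_neg (RF φ (Cfsg.Agent.H943.SL2Rel.u 1) y), tf_add_right, tf_neg_right, h1]
  ring

theorem tf_zl (y : I27 → F) : tf (0 : I27 → F) y = 0 := by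
  rw [← zero_smul F (0 : I27 → F), tf_smul_left, zero_mul]

theorem tf_zr (y : I27 → F) : tf y (0 : I27 → F) = 0 := by rw [tf_comm, tf_zl]

theorem EE_adj_pow (n : ℕ) : ∀ x y : I27 → F,
    tf ((EE φ ^ n) x) y = (-1) ^ n * tf ((RF φ (Cfsg.Agent.H943.SL2Rel.u 1) ^ n) x) ((EE φ ^ n) y) := by
  induction n with
  | zero =>
    intro x y
    simp
  | succ n ih =>
    intro x y
    have hc : Commute (EE φ) (RF φ (Cfsg.Agent.H943.SL2Rel.u 1)) := by
      unfold EE
      exact (Commute.refl _).sub_left (Commute.one_left _)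
    have h2 : RF φ (Cfsg.Agent.H943.SL2Rel.u 1) ((EE φ ^ n) x) = (EE φ ^ n) (RF φ (Cfsg.Agent.H943.SL2Rel.u 1) x) := by
      rw [← Module.End.mul_apply, ← Module.End.mul_apply, (hc.pow_left n).eq]
    rw [pow_succ' (EE φ), Module.End.mul_apply, EE_adj, h2, ih, pow_succ (RF φ _) n, Module.End.mul_apply,
      ← pow_succ' (EE φ), pow_succ (EE φ) n, Module.End.mul_apply, pow_succ (-1 : F)]
    ring

theorem tf_pow_zero {n : ℕ} {x y : I27 → F} (h : (EE φ ^ n) y = 0) : tf ((EE φ ^ n) x) y = 0 := by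
  rw [EE_adj_pow, h, tf_zr, mul_zero]

end Cfsg.Agent.R2.F4N
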