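import Cfsg.Agent.R2.F4N.Q13b

/-!
# `Q = 13` : the products `x i * x j` (lead, S5931)
-/

set_option autoImplicit false
set_option linter.unusedSectionVars false

namespace Cfsg.Agent.R2.F4N

open Cfsg Cfsg.Lie Module Matrix Finset
open Cfsg.Agent.ChevalleyStructure.E6Min.Basic
open Cfsg.Agent.H952.F4 Cfsg.Agent.H952.F4.Jord
open Cfsg.Agent.H952.F4.FixV (W0 mem_W0 finrank_W0 u0_ne_zero tr1_eq)
open Cfsg.Agent.R2.F4M

universe u v w

variable {F : Type u} [Field F] [Fintype F] {K : Type v} [Field K] [Fintype K]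
variable {φ : ProjectiveSpecialLinearGroup (Fin 2) K →* ↥(chevF4.group F)} {κ : K →+* F} {x : ℕ → I27 → F}

/-- the input for `Q = 13` -/
structure Qt (κ : K →+* F) (φ : ProjectiveSpecialLinearGroup (Fin 2) K →* ↥(chevF4.group F)) (x : ℕ → I27 → F) : Prop where
  card : Fintype.card K = 13
  chF : CharP F 13
  chK : CharP K 13
  str : Str κ (RF φ) 8 x
  big : ∀ s, 8 < s → x s = 0
  tr : ∀ s, tr1 (x s) = 0
  iso : ∀ s t, tf (x s) (x t) = 0
  ne : x 8 ≠ 0
  nw : ∃ i j, st (x i) (x j) ≠ 0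
  fix : ∀ v e, tr1 v = 0 → (∀ t, RF φ (Cfsg.Agent.H943.SL2Rel.u t) v = v) → Wt κ φ e v → e % 12 ≠ 4 → e % 12 ≠ 8 → v = 0
  fix8 : ∀ v e, tr1 v = 0 → (∀ t, RF φ (Cfsg.Agent.H943.SL2Rel.u t) v = v) → Wt κ φ e v → e % 12 = 8 → ∃ c : F, v = c • x 8
  ss : ∀ v e, tr1 v = 0 → (∀ t, RF φ (Cfsg.Agent.H943.SL2Rel.u t) v = v) → Wt κ φ e v → e % 12 = 4 →
    ∑ t : K, RF φ (Cfsg.Agent.H943.SL2Rel.u t) (RF φ Cfsg.Agent.H943.SL2Rel.w v) = 0 → v = 0

/-- the line of `x n` -/
def SX (x : ℕ → I27 → F) (n : ℕ) : Submodule F (I27 → F) := Submodule.span F {x n}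

/-- products -/
def SP (x : ℕ → I27 → F) (n : ℕ) : Submodule F (I27 → F) :=
  Submodule.span F {v | ∃ i j, i + j = n ∧ v = st (x i) (x j)}

/-- triple products -/
def SM (x : ℕ → I27 → F) (n : ℕ) : Submodule F (I27 → F) :=
  Submodule.span F {v | ∃ i j l, i + (j + l) = n ∧ v = st (x i) (st (x j) (x l))}

theorem SP.gen (i j : ℕ) : st (x i) (x j) ∈ SP x (i + j) := Submodule.subset_span ⟨i, j, rfl, rfl⟩

theorem SM.gen (i j l : ℕ) : st (x i) (st (x j) (x l)) ∈ SM x (i + (j + l)) := Submodule.subset_span ⟨i, j, l, rfl, rfl⟩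

theorem SXX {m m' : ℕ} {y z : I27 → F} (hy : y ∈ SX x m) (hz : z ∈ SX x m') : st y z ∈ SP x (m + m') := by
  obtain ⟨c, rfl⟩ := Submodule.mem_span_singleton.1 hy
  obtain ⟨d, rfl⟩ := Submodule.mem_span_singleton.1 hz
  rw [st_smul_left, st_smul_right]
  exact Submodule.smul_mem _ _ (Submodule.smul_mem _ _ (SP.gen m m'))

theorem SXP {m m' : ℕ} {y z : I27 → F} (hy : y ∈ SX x m) (hz : z ∈ SP x m') : st y z ∈ SM x (m + m') := by
  obtain ⟨c, rfl⟩ := Submodule.mem_span_singleton.1 hy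
  induction hz using Submodule.span_induction with
  | mem z hz =>
    obtain ⟨i, j, rfl, rfl⟩ := hz
    rw [st_smul_left]
    exact Submodule.smul_mem _ _ (SM.gen _ _ _)
  | zero =>
    rw [st_zero_right]
    exact Submodule.zero_mem _
  | add y z _ _ hy hz =>
    rw [st_add_right]
    exact Submodule.add_mem _ hy hz
  | smul d y _ hy =>
    rw [st_smul_right]
    exact Submodule.smul_mem _ _ hy

namespace Qt

variable (q : Qt κ φ x)

include q

theorem h2 : (2 : F) ≠ 0 := by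
  have := q.chF
  have h := (CharP.cast_eq_zero_iff F 13 2).not.2 (by norm_num)
  exact_mod_cast h

theorem h3 : (3 : F) ≠ 0 := by
  have := q.chF
  have h := (CharP.cast_eq_zero_iff F 13 3).not.2 (by norm_num)
  exact_mod_cast h

theorem num (n : ℕ) (hn : n % 13 ≠ 0) : (n : F) ≠ 0 := by
  have := q.chF
  exact (CharP.cast_eq_zero_iff F 13 n).not.2 (by omega)

theorem pow12 (g : Kˣ) : κ (g : K) ^ 12 = 1 := by
  classical
  have h := FiniteField.pow_card_sub_one_eq_one (g : K) g.ne_zero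
  rw [q.card] at h
  rw [← map_pow, h, map_one]

theorem mod {e e' : ℕ} {v : I27 → F} (h : Wt κ φ e v) (he : e % 12 = e' % 12) : Wt κ φ e' v := by
  intro g
  rw [h g]
  congr 1
  rw [← Nat.div_add_mod e 12, ← Nat.div_add_mod e' 12, pow_add, pow_add, pow_mul, pow_mul, q.pow12, one_pow, one_pow, he]

theorem wX (s : ℕ) : Wt κ φ (2 * s + 4) (x s) := by
  rcases le_or_gt s 8 with hs | hs
  · intro g
    rw [q.str.h s hs]
    congr 1
    have hg0 : κ (g : K) ≠ 0 := (map_ne_zero κ).2 g.ne_zero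
    have h1 : κ (g : K) ^ (4 + s) * κ (g : K) ^ (8 - s) = 1 := by
      rw [← pow_add, show 4 + s + (8 - s) = 12 by omega, q.pow12]
    have h2 : ((κ (g : K))⁻¹) ^ (8 - s) = κ (g : K) ^ (4 + s) := by
      rw [inv_pow]
      exact inv_eq_of_mul_eq_one_left h1
    rw [h2, ← pow_add]
    congr 1
    omega
  · rw [q.big s hs]
    exact Wt.zero

theorem wP (i j : ℕ) : Wt κ φ (2 * (i + j) + 8) (st (x i) (x j)) := ((q.wX i).st (q.wX j)).congr (by omega)

theorem wM (i j l : ℕ) : Wt κ φ (2 * (i + (j + l)) + 12) (st (x i) (st (x j) (x l))) :=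
  ((q.wX i).st (q.wP j l)).congr (by omega)

theorem wSP {n : ℕ} {v : I27 → F} (hv : v ∈ SP x n) : Wt κ φ (2 * n + 8) v := by
  refine Wt.span ?_ v hv
  rintro _ ⟨i, j, rfl, rfl⟩
  exact q.wP i j

theorem wSM {n : ℕ} {v : I27 → F} (hv : v ∈ SM x n) : Wt κ φ (2 * n + 12) v := by
  refine Wt.span ?_ v hv
  rintro _ ⟨i, j, l, rfl, rfl⟩
  exact q.wM i j l

theorem UX (n : ℕ) : ∀ v ∈ SX x n, UU κ φ 9 (SX x) n v := by
  refine UU.span ?_
  rintro _ rfl
  rcases le_or_gt n 8 with hn | hn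
  · refine ⟨fun r => ((8 - n).choose r : F) • x (n + r), ?_, fun r => ?_, fun t => ?_⟩
    · simp
    · exact Submodule.smul_mem _ _ (Submodule.mem_span_singleton_self _)
    · rw [q.str.u' (d := 9) (by norm_num) hn]
      refine Finset.sum_congr rfl fun j _ => ?_
      rw [smul_smul, mul_comm]
  · rw [q.big n hn]
    exact UU.zero

theorem UP (n : ℕ) : ∀ v ∈ SP x n, UU κ φ 18 (SP x) n v := by
  refine UU.span ?_
  rintro _ ⟨i, j, rfl, rfl⟩
  exact (q.UX i _ (Submodule.mem_span_singleton_self _)).st (q.UX j _ (Submodule.mem_span_singleton_self _))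
    (by norm_num) (by norm_num) fun m m' y z hy hz => SXX hy hz

theorem UM (n : ℕ) : ∀ v ∈ SM x n, UU κ φ 27 (SM x) n v := by
  refine UU.span ?_
  rintro _ ⟨i, j, l, rfl, rfl⟩
  exact (q.UX i _ (Submodule.mem_span_singleton_self _)).st (q.UP (j + l) _ (SP.gen j l))
    (by norm_num) (by norm_num) fun m m' y z hy hz => SXP hy hz

theorem SX_big {n : ℕ} (hn : 9 ≤ n) : SX x n = ⊥ := by
  unfold SX
  rw [q.big n (by omega), Submodule.span_singleton_eq_bot]

theorem P_big {i j : ℕ} (h : 17 ≤ i + j) : st (x i) (x j) = 0 := by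
  rcases le_or_gt i 8 with hi | hi
  · rw [q.big j (by omega), st_zero_right]
  · rw [q.big i hi, st_zero_left]

theorem SP_big {n : ℕ} (hn : 17 ≤ n) : SP x n = ⊥ := by
  unfold SP
  rw [Submodule.span_eq_bot]
  rintro _ ⟨i, j, rfl, rfl⟩
  exact q.P_big hn

theorem SM_bot {n : ℕ} (h : ∀ i j l, i ≤ 8 → j ≤ 8 → l ≤ 8 → i + (j + l) = n → st (x i) (st (x j) (x l)) = 0) :
    SM x n = ⊥ := by
  unfold SM
  rw [Submodule.span_eq_bot]
  rintro _ ⟨i, j, l, hn, rfl⟩
  rcases le_or_gt i 8 with hi | hi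
  · rcases le_or_gt j 8 with hj | hj
    · rcases le_or_gt l 8 with hl | hl
      · exact h i j l hi hj hl hn
      · rw [q.big l hl, st_zero_right, st_zero_right]
    · rw [q.big j hj, st_zero_left, st_zero_right]
  · rw [q.big i hi, st_zero_left]

/-- sums over `U` -/
theorem sumU {S : ℕ → Submodule F (I27 → F)} {L n : ℕ} {v : I27 → F} (h : UU κ φ L S n v)
    (hS : ∀ r, r ≠ 0 → 12 ∣ r → S (n + r) = ⊥) : ∑ t : K, RF φ (Cfsg.Agent.H943.SL2Rel.u t) v = 0 := by
  obtain ⟨c, h1, h2, h3⟩ := h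
  simp only [h3]
  rw [Finset.sum_comm]
  refine Finset.sum_eq_zero fun r _ => ?_
  rw [← Finset.sum_smul, sum_pow, q.card]
  by_cases hr : r ≠ 0 ∧ 13 - 1 ∣ r
  · have h4 := h2 r
    rw [hS r hr.1 hr.2, Submodule.mem_bot] at h4
    rw [h4, smul_zero]
  · rw [if_neg hr, zero_smul]

/-- the formula for `x s * x 8` -/
theorem uP8 {s : ℕ} (hs : s ≤ 8) (t : K) : RF φ (Cfsg.Agent.H943.SL2Rel.u t) (st (x s) (x 8)) =
    ∑ i ∈ range (8 - s + 1), (((8 - s).choose i : F) * κ t ^ i) • st (x (s + i)) (x 8) := by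
  rw [← RF_st, q.str.top, q.str.u s hs, st_sum_left]
  exact Finset.sum_congr rfl fun i _ => st_smul_left _ _ _

theorem trP (i j : ℕ) : tr1 (st (x i) (x j)) = 0 := tr1_st q.h3 (q.tr i) _

theorem trX (i : ℕ) (c : F) : tr1 (c • x i) = 0 := by rw [tr1_smul, q.tr, mul_zero]

theorem tr_sub' {v w : I27 → F} (hv : tr1 v = 0) (hw : tr1 w = 0) : tr1 (v - w) = 0 := by
  rw [sub_eq_add_neg, tr1_add, hv, ← neg_one_smul F w, tr1_smul, hw]
  ring

/-- `x 8 * x 8 ≠ 0` -/
theorem z_ne : st (x 8) (x 8) ≠ 0 := by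
  intro h8
  have hx8 : x 8 ≠ 0 := q.ne
  have f7 : st (x 7) (x 8) = 0 := by
    refine q.fix _ _ (q.trP _ _) (fun t => ?_) (q.wP _ _) (by norm_num) (by norm_num)
    rw [q.uP8 (by norm_num)]
    simp [Finset.sum_range_succ, h8]
  have f6 : st (x 6) (x 8) = 0 := by
    refine q.fix _ _ (q.trP _ _) (fun t => ?_) (q.wP _ _) (by norm_num) (by norm_num)
    rw [q.uP8 (by norm_num)]
    simp [Finset.sum_range_succ, h8, f7]
  have f5 : st (x 5) (x 8) = 0 := by
    refine q.fix _ _ (q.trP _ _) (fun t => ?_) (q.wP _ _) (by norm_num) (by norm_num)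
    rw [q.uP8 (by norm_num)]
    simp [Finset.sum_range_succ, h8, f7, f6]
  obtain ⟨l, f4⟩ : ∃ l : F, st (x 4) (x 8) = l • x 8 := by
    refine q.fix8 _ _ (q.trP _ _) (fun t => ?_) (q.wP _ _) (by norm_num)
    rw [q.uP8 (by norm_num)]
    simp [Finset.sum_range_succ, h8, f7, f6, f5]
  have f3 : st (x 3) (x 8) = (5 * l) • x 7 := by
    rw [← sub_eq_zero]
    refine q.fix _ _ (q.tr_sub' (q.trP _ _) (q.trX _ _)) (fun t => ?_) ((q.wP _ _).sub (q.mod ((q.wX _).smul _) (by norm_num)))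
      (by norm_num) (by norm_num)
    rw [map_sub, map_smul, q.uP8 (by norm_num), q.str.u _ (by norm_num)]
    simp only [Finset.sum_range_succ, Finset.sum_range_zero, Nat.reduceSub, Nat.reduceAdd, Nat.choose, h8, f7, f6, f5, f4,
      smul_zero]
    push_cast
    module
  have f2 : st (x 2) (x 8) = (15 * l) • x 6 := by
    rw [← sub_eq_zero]
    refine q.ss _ _ (q.tr_sub' (q.trP _ _) (q.trX _ _)) (fun t => ?_) ((q.wP _ _).sub (q.mod ((q.wX _).smul _) (by norm_num)))
      (by norm_num) ?_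
    · rw [map_sub, map_smul, q.uP8 (by norm_num), q.str.u _ (by norm_num)]
      simp only [Finset.sum_range_succ, Finset.sum_range_zero, Nat.reduceSub, Nat.reduceAdd, Nat.choose, h8, f7, f6, f5, f4,
        f3, smul_zero]
      push_cast
      module
    · simp only [map_sub, Finset.sum_sub_distrib, ← RF_st, q.str.w 2 (by norm_num), q.str.w 8 le_rfl, q.str.w 6 (by norm_num),
        map_smul]
      simp only [RF_st, st_smul_left, st_smul_right, map_smul]
      rw [← Finset.smul_sum, ← Finset.smul_sum, ← Finset.smul_sum, ← Finset.smul_sum,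
        q.sumU (q.UP _ _ (SP.gen _ _)) fun r hr hd => q.SP_big (by omega),
        q.sumU (q.UX _ _ (Submodule.mem_span_singleton_self _)) fun r hr hd => q.SX_big (by omega)]
      simp
  have f1 : st (x 1) (x 8) = (35 * l) • x 5 := by
    rw [← sub_eq_zero]
    refine q.fix _ _ (q.tr_sub' (q.trP _ _) (q.trX _ _)) (fun t => ?_) ((q.wP _ _).sub (q.mod ((q.wX _).smul _) (by norm_num)))
      (by norm_num) (by norm_num)
    rw [map_sub, map_smul, q.uP8 (by norm_num), q.str.u _ (by norm_num)]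
    simp only [Finset.sum_range_succ, Finset.sum_range_zero, Nat.reduceSub, Nat.reduceAdd, Nat.choose, h8, f7, f6, f5, f4,
      f3, f2, smul_zero]
    push_cast
    module
  have f0 : st (x 0) (x 8) = (70 * l) • x 4 := by
    rw [← sub_eq_zero]
    refine q.fix _ _ (q.tr_sub' (q.trP _ _) (q.trX _ _)) (fun t => ?_) ((q.wP _ _).sub (q.mod ((q.wX _).smul _) (by norm_num)))
      (by norm_num) (by norm_num)
    rw [map_sub, map_smul, q.uP8 (by norm_num), q.str.u _ (by norm_num)]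
    simp only [Finset.sum_range_succ, Finset.sum_range_zero, Nat.reduceSub, Nat.reduceAdd, Nat.choose, h8, f7, f6, f5, f4,
      f3, f2, f1, smul_zero]
    push_cast
    module
  -- `l = 0`
  have hl : l = 0 := by
    have h1 := st_pol2 q.h2 q.h3 (q.tr 8) (q.tr 0)
    rw [h8, st_zero_right, q.iso, q.iso, mul_zero, mul_zero, zero_smul, zero_smul, st_comm (x 8) (x 0), f0, st_smul_right,
      st_comm (x 8) (x 4), f4, add_zero, add_zero, smul_smul, smul_smul] at h1
    have h2 := (smul_eq_zero.1 h1).resolve_right hx8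
    have h3 : (140 : F) ≠ 0 := by exact_mod_cast q.num 140 (by norm_num)
    have h4 : (140 : F) * (l * l) = 0 := by linear_combination h2
    exact mul_self_eq_zero.1 ((mul_eq_zero.1 h4).resolve_left h3)
  subst hl
  simp only [mul_zero, zero_smul] at f0 f1 f2 f3 f4
  have g8 : ∀ j, st (x j) (x 8) = 0 := by
    intro j
    rcases le_or_gt j 8 with hj | hj
    · interval_cases j <;> assumption
    · rw [q.big j hj, st_zero_left]
  have g0 : ∀ j, st (x 0) (x j) = 0 := by
    intro j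
    rcases le_or_gt j 8 with hj | hj
    · have h1 := congrArg (RF φ Cfsg.Agent.H943.SL2Rel.w) (g8 (8 - j))
      rw [← RF_st, q.str.w _ (by omega), q.str.w 8 le_rfl, map_zero, st_smul_left, st_smul_right, show 8 - (8 - j) = j by omega,
        Nat.sub_self, smul_smul, st_comm] at h1
      exact (smul_eq_zero.1 h1).resolve_left (mul_ne_zero (pow_ne_zero _ (neg_ne_zero.2 one_ne_zero))
        (pow_ne_zero _ (neg_ne_zero.2 one_ne_zero)))
    · rw [q.big j hj, st_zero_right]
  obtain ⟨i, j, hij⟩ := q.nw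
  apply hij
  have hi : i ≤ 8 := by
    by_contra h
    exact hij (by rw [q.big i (by omega), st_zero_left])
  have hj : j ≤ 8 := by
    by_contra h
    exact hij (by rw [q.big j (by omega), st_zero_right])
  have h1 : ∀ t : K, st (RF φ (Cfsg.Agent.H943.SL2Rel.u t) (x 0)) (x j) = 0 := by
    intro t
    have h2 : x j = RF φ (Cfsg.Agent.H943.SL2Rel.u t) (RF φ (Cfsg.Agent.H943.SL2Rel.u (-t)) (x j)) := by
      rw [← Module.End.mul_apply, ← map_mul, ← Cfsg.Agent.H943.SL2Rel.u_add, add_neg_cancel, Cfsg.Agent.H943.SL2Rel.u_zero,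
        map_one, Module.End.one_apply]
    rw [h2, RF_st, q.str.u j hj, st_sum_right, Finset.sum_eq_zero, map_zero]
    intro r _
    rw [st_smul_right, g0, smul_zero]
  funext m
  have h2 := coef_zero κ (d := 9) (by rw [q.card]; norm_num) (c := fun r => ((8 : ℕ).choose r : F) * st (x r) (x j) m)
    (fun t => by
      have h3 := congrFun (h1 t) m
      rw [q.str.u 0 (Nat.zero_le _), st_sum_left, Finset.sum_apply] at h3
      refine Eq.trans ?_ h3
      refine Finset.sum_congr rfl fun r _ => ?_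
      rw [st_smul_left, Pi.smul_apply, smul_eq_mul, zero_add]
      ring) i (by omega)
  have h3 : Fact (Nat.Prime 13) := ⟨by norm_num⟩
  have h4 := q.chF
  exact (mul_eq_zero.1 h2).resolve_left (choose_ne (p := 13) (by norm_num) hi)

end Qt

end Cfsg.Agent.R2.F4N
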