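import Cfsg.Agent.R2.F4N.Q13c

/-!
# `Q = 13` : the triple products `x i * (x j * x l)` vanish for `i + j + l ≥ 21` (lead, S5931)
-/

set_option autoImplicit false
set_option linter.unusedSectionVars false

namespace Cfsg.Agent.R2.F4N

open Cfsg Cfsg.Lie Module Matrix Finset
open Cfsg.Agent.ChevalleyStructure.E6Min.Basic
open Cfsg.Agent.H952.F4 Cfsg.Agent.H952.F4.Jord
open Cfsg.Agent.H952.F4.FixV (W0 mem_W0 finrank_W0 u0_ne_zero tr1_eq)
open Cfsg.Agent.R2.F4M

universe u v w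

variable {F : Type u} [Field F] [Fintype F] {K : Type v} [Field K] [Fintype K]
variable {φ : ProjectiveSpecialLinearGroup (Fin 2) K →* ↥(chevF4.group F)} {κ : K →+* F} {x : ℕ → I27 → F}

namespace Qt

variable (q : Qt κ φ x)

include q

theorem trM (i j l : ℕ) : tr1 (st (x i) (st (x j) (x l))) = 0 := tr1_st q.h3 (q.tr i) _

/-- the cubic form on `X` is exact -/
theorem tfX {i j l : ℕ} (h : i + j + l ≠ 12) : tf (st (x i) (x j)) (x l) = 0 := by
  have h3 : Fact (Nat.Prime 13) := ⟨by norm_num⟩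
  have h4 := q.chF
  rcases le_or_gt i 8 with hi | hi
  · rcases le_or_gt j 8 with hj | hj
    · rcases le_or_gt l 8 with hl | hl
      · rw [tf_st _ _ (q.tr l), ← NN_apply]
        exact exact NN_RF q.str q.str q.str (p := 13) (s := 12) (by rw [q.card]) (by norm_num) (by norm_num) (by norm_num)
          (by norm_num) (by rw [q.card]; norm_num) hi hj hl h
      · rw [q.big l hl, tf_zr]
    · rw [q.big j hj, st_zero_right, tf_zl]
  · rw [q.big i hi, st_zero_left, tf_zl]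

/-- the polarized identity on `X` -/
theorem polX (i j l : ℕ) : st (x i) (st (x j) (x l)) + st (x j) (st (x i) (x l)) + st (x l) (st (x i) (x j)) = 0 := by
  rw [st_pol q.h2 q.h3 (q.tr i) (q.tr j) (q.tr l), q.iso, q.iso, q.iso]
  simp

theorem fixM {i j l : ℕ} (h : ∀ r, 1 ≤ r → SM x (i + (j + l) + r) = ⊥) (t : K) :
    RF φ (Cfsg.Agent.H943.SL2Rel.u t) (st (x i) (st (x j) (x l))) = st (x i) (st (x j) (x l)) :=
  (q.UM _ _ (SM.gen i j l)).fixed (by norm_num) h t

theorem m24 : ∀ n, 24 ≤ n → SM x n = ⊥ := by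
  intro n hn
  refine q.SM_bot fun i j l hi hj hl h => ?_
  obtain rfl : i = 8 := by omega
  obtain rfl : j = 8 := by omega
  obtain rfl : l = 8 := by omega
  rw [st_st_self q.h2 q.h3 (q.tr 8), q.iso, mul_zero, zero_smul]

theorem m23 : ∀ n, 23 ≤ n → SM x n = ⊥ := by
  intro n hn
  rcases Nat.lt_or_ge 23 n with h1 | h1
  · exact q.m24 n (by omega)
  obtain rfl : n = 23 := by omega
  refine q.SM_bot fun i j l hi hj hl h => ?_
  refine q.fix _ _ (q.trM _ _ _) (fun t => q.fixM (fun r hr => q.m24 _ (by omega)) t) (q.wM i j l) ?_ ?_ <;> rw [h] <;> norm_num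

/-- `x 7 * x 7 = x 6 * x 8` -/
theorem p77 : st (x 7) (x 7) = st (x 6) (x 8) := by
  rw [← sub_eq_zero]
  refine q.fix _ _ (q.tr_sub' (q.trP _ _) (q.trP _ _)) (fun t => ?_) ((q.wP 7 7).sub (q.wP 6 8)) (by norm_num) (by norm_num)
  rw [map_sub, ← RF_st, ← RF_st, q.str.top, q.str.u 7 (by norm_num), q.str.u 6 (by norm_num)]
  simp only [Finset.sum_range_succ, Finset.sum_range_zero, Nat.reduceSub, Nat.reduceAdd, Nat.choose, st_add_left,
    st_add_right, st_smul_left, st_smul_right, zero_add, st_comm (x 8) (x 7)]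
  push_cast
  module

/-- the special argument -/
theorem a_zero : st (x 8) (st (x 6) (x 8)) = 0 := by
  have h78 : 7 + 1 = 8 := rfl
  obtain ⟨a, ha⟩ : ∃ a : F, st (x 8) (st (x 6) (x 8)) = a • x 8 := by
    refine q.fix8 _ _ (q.trM _ _ _) (fun t => q.fixM (fun r hr => q.m23 _ (by omega)) t) (q.wM 8 6 8) (by norm_num)
  obtain ⟨z, hz⟩ : ∃ z, z = st (x 8) (x 8) := ⟨_, rfl⟩
  have hz0 : z ≠ 0 := hz ▸ q.z_ne
  have htz : tr1 z = 0 := hz ▸ q.trP _ _
  -- `x 6 * z = -2 a x 8`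
  have h1 : st (x 6) z = (-2 * a) • x 8 := by
    have h := q.polX 6 8 8
    rw [← hz, ha] at h
    have h' : st (x 6) z = -(a • x 8 + a • x 8) := by
      rw [eq_neg_iff_add_eq_zero, ← h]
      abel
    rw [h']
    module
  -- `z × (x 8 × x 6) = 0`
  have h2 : cr z (st (x 6) (x 8)) = 0 := by
    have e1 : cr (x 8) (x 8) = z := by
      rw [hz]
      unfold F4N.st
      rw [q.iso, zero_div, zero_smul, add_zero]
    have e2 : cr (x 8) (x 6) = st (x 6) (x 8) := by
      rw [st_comm]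
      unfold F4N.st
      rw [q.iso, zero_div, zero_smul, add_zero]
    have e3 : sh (x 8) = (2 : F)⁻¹ • z := by
      rw [← e1, cr_self, smul_smul, inv_mul_cancel₀ q.h2, one_smul]
    have e4 : tf z (x 8) = 0 := by
      rw [hz]
      exact q.tfX (by norm_num)
    have e5 : tf z (x 6) = 0 := by
      rw [hz]
      exact q.tfX (by norm_num)
    have e6 : cubicT (x 8) = 0 := by
      have h := tf_sh_self (x 8)
      rw [e3, tf_smul_left, e4, mul_zero] at h
      exact (mul_eq_zero.1 h.symm).resolve_left q.h3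
    have h := cr_sh_cr (x 8) (x 6)
    rw [e2, e3, cr_smul_left, tf_smul_left, e5, e6, mul_zero, zero_smul, zero_smul, add_zero] at h
    exact (smul_eq_zero.1 h).resolve_left (inv_ne_zero q.h2)
  have h3 : st z (st (x 6) (x 8)) = 0 := by
    have h := tr1_cr z (st (x 6) (x 8))
    have e0 : tr1 (0 : I27 → F) = 0 := by rw [← zero_smul F (0 : I27 → F), tr1_smul, zero_mul]
    rw [h2, htz, zero_mul, zero_sub, e0] at h
    have h' : tf z (st (x 6) (x 8)) = 0 := neg_eq_zero.1 h.symm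
    show cr z (st (x 6) (x 8)) + (tf z (st (x 6) (x 8)) / 3) • u0 F = 0
    rw [h2, h', zero_div, zero_smul, add_zero]
  have h4 : st (x 8) z = 0 := by
    rw [hz, st_st_self q.h2 q.h3 (q.tr 8), q.iso, mul_zero, zero_smul]
  have h5 := st_pol q.h2 q.h3 (q.tr 6) (q.tr 8) htz
  rw [h4, h1, h3, st_zero_right, st_smul_right, ← hz, q.iso, tf_comm (x 6) z, tf_comm (x 8) z, hz, q.tfX (by norm_num),
    q.tfX (by norm_num), ← hz] at h5
  have h6 : (-2 * a) • z = 0 := by
    rw [← zero_add ((-2 * a) • z), ← add_zero (0 + (-2 * a) • z), h5]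
    simp
  have h7 : a = 0 := by
    have := (smul_eq_zero.1 h6).resolve_right hz0
    exact (mul_eq_zero.1 this).resolve_left (neg_ne_zero.2 q.h2)
  rw [ha, h7, zero_smul]

theorem m22 : ∀ n, 22 ≤ n → SM x n = ⊥ := by
  intro n hn
  rcases Nat.lt_or_ge 22 n with h1 | h1
  · exact q.m23 n (by omega)
  obtain rfl : n = 22 := by omega
  have a1 := q.a_zero
  have a2 : st (x 8) (st (x 7) (x 7)) = 0 := by rw [q.p77, a1]
  have a3 : st (x 6) (st (x 8) (x 8)) = 0 := by
    have h := q.polX 6 8 8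
    rwa [a1, add_zero, add_zero] at h
  have a4 : st (x 7) (st (x 7) (x 8)) = 0 := by
    have h := q.polX 7 7 8
    rw [a2, add_zero, ← two_smul F] at h
    exact (smul_eq_zero.1 h).resolve_left q.h2
  refine q.SM_bot fun i j l hi hj hl h => ?_
  have hc : (i = 6 ∧ j = 8 ∧ l = 8) ∨ (i = 7 ∧ j = 7 ∧ l = 8) ∨ (i = 7 ∧ j = 8 ∧ l = 7) ∨ (i = 8 ∧ j = 6 ∧ l = 8) ∨
      (i = 8 ∧ j = 8 ∧ l = 6) ∨ (i = 8 ∧ j = 7 ∧ l = 7) := by omega
  rcases hc with ⟨rfl, rfl, rfl⟩ | ⟨rfl, rfl, rfl⟩ | ⟨rfl, rfl, rfl⟩ | ⟨rfl, rfl, rfl⟩ | ⟨rfl, rfl, rfl⟩ | ⟨rfl, rfl, rfl⟩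
  · exact a3
  · exact a4
  · rw [st_comm (x 8) (x 7)]
    exact a4
  · exact a1
  · rw [st_comm (x 8) (x 6)]
    exact a1
  · exact a2

theorem m21 : ∀ n, 21 ≤ n → SM x n = ⊥ := by
  intro n hn
  rcases Nat.lt_or_ge 21 n with h1 | h1
  · exact q.m22 n (by omega)
  obtain rfl : n = 21 := by omega
  refine q.SM_bot fun i j l hi hj hl h => ?_
  refine q.fix _ _ (q.trM _ _ _) (fun t => q.fixM (fun r hr => q.m22 _ (by omega)) t) (q.wM i j l) ?_ ?_ <;> rw [h] <;> norm_num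

/-- **depths** -/
theorem dP (i j : ℕ) : (EE φ ^ (17 - (i + j))) (st (x i) (x j)) = 0 :=
  depth q.UP (by norm_num) (fun n hn => q.SP_big hn) _ _ (by omega) _ (SP.gen i j)

theorem dM (i j l : ℕ) : (EE φ ^ (21 - (i + (j + l)))) (st (x i) (st (x j) (x l))) = 0 :=
  depth q.UM (by norm_num) q.m21 _ _ (by omega) _ (SM.gen i j l)

end Qt

end Cfsg.Agent.R2.F4N
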