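import Cfsg.Agent.R2.F4N.Q13d

/-!
# `Q = 13` : all products are exact, and the torus (lead, S5931)
-/

set_option autoImplicit false
set_option linter.unusedSectionVars false

namespace Cfsg.Agent.R2.F4N

open Cfsg Cfsg.Lie Module Matrix Finset
open Cfsg.Agent.ChevalleyStructure.E6Min.Basic
open Cfsg.Agent.H952.F4 Cfsg.Agent.H952.F4.Jord
open Cfsg.Agent.H952.F4.FixV (W0 mem_W0 finrank_W0 u0_ne_zero tr1_eq)
open Cfsg.Agent.R2.F4M
open Cfsg.Agent.R2.GEO (tfB tfB_apply)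

universe u v w

variable {F : Type u} [Field F] [Fintype F] {K : Type v} [Field K] [Fintype K]
variable {φ : ProjectiveSpecialLinearGroup (Fin 2) K →* ↥(chevF4.group F)} {κ : K →+* F} {x : ℕ → I27 → F}

theorem sumU_fix (v : I27 → F) (s : K) : RF φ (Cfsg.Agent.H943.SL2Rel.u s) (∑ t : K, RF φ (Cfsg.Agent.H943.SL2Rel.u t) v) =
    ∑ t : K, RF φ (Cfsg.Agent.H943.SL2Rel.u t) v := by
  rw [map_sum]
  refine Fintype.sum_equiv (Equiv.addLeft s) _ _ fun t => ?_
  rw [Equiv.coe_addLeft, Cfsg.Agent.H943.SL2Rel.u_add, map_mul, Module.End.mul_apply]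

namespace Qt

variable (q : Qt κ φ x)

include q

theorem two_wt {e e' : ℕ} {v : I27 → F} (h : Wt κ φ e v) (h' : Wt κ φ e' v) (hle : e ≤ e') (hd : ¬ 12 ∣ e' - e) : v = 0 := by
  obtain ⟨g, hg⟩ := exists_gen κ
  by_contra hne
  apply hd
  have h0 := hg (e' - e) ?_
  · rwa [q.card] at h0
  · have hg0 : κ (g : K) ≠ 0 := (map_ne_zero κ).2 g.ne_zero
    have h1 : (κ (g : K) ^ e - κ (g : K) ^ e') • v = 0 := by rw [sub_smul, ← h g, ← h' g, sub_self]
    have h2 := sub_eq_zero.1 ((smul_eq_zero.1 h1).resolve_right hne)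
    refine mul_right_cancel₀ (pow_ne_zero e hg0) ?_
    rw [← pow_add, Nat.sub_add_cancel hle, ← h2, one_mul]

theorem sum04 : ∑ t : K, RF φ (Cfsg.Agent.H943.SL2Rel.u t) (st (x 0) (x 4)) = -st (x 8) (x 8) := by
  have h1 : ∀ t : K, RF φ (Cfsg.Agent.H943.SL2Rel.u t) (st (x 0) (x 4)) =
      ∑ i ∈ range 9, ∑ j ∈ range 5, κ t ^ (i + j) • (((8 : ℕ).choose i * (4 : ℕ).choose j : F) • st (x i) (x (4 + j))) := by
    intro t
    rw [← RF_st, q.str.u 0 (Nat.zero_le _), q.str.u 4 (by norm_num), st_sum_left]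
    refine Finset.sum_congr rfl fun i _ => ?_
    rw [st_sum_right]
    refine Finset.sum_congr rfl fun j _ => ?_
    rw [st_smul_left, st_smul_right, smul_smul, smul_smul, zero_add]
    congr 1
    rw [pow_add, Nat.sub_zero]
    ring
  simp only [h1]
  rw [Finset.sum_comm, Finset.sum_eq_single 8]
  · rw [Finset.sum_comm, Finset.sum_eq_single 4]
    · rw [← Finset.sum_smul, sum_pow, q.card, if_pos (by norm_num)]
      simp
    · intro j hj hj4
      have := Finset.mem_range.1 hj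
      rw [← Finset.sum_smul, sum_pow, q.card, if_neg (by omega), zero_smul]
    · intro h
      exact absurd (Finset.mem_range.2 (by norm_num)) h
  · intro i hi hi8
    have := Finset.mem_range.1 hi
    rw [Finset.sum_comm]
    refine Finset.sum_eq_zero fun j hj => ?_
    have := Finset.mem_range.1 hj
    rw [← Finset.sum_smul, sum_pow, q.card, if_neg (by omega), zero_smul]
  · intro h
    exact absurd (Finset.mem_range.2 (by norm_num)) h

theorem sum00 : ∃ c : F, c ≠ 0 ∧ ∑ t : K, RF φ (Cfsg.Agent.H943.SL2Rel.u t) (st (x 0) (x 0)) = c • x 8 := by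
  have h1 : RF φ Cfsg.Agent.H943.SL2Rel.w (st (x 8) (x 8)) = st (x 0) (x 0) := by
    rw [← RF_st, q.str.w 8 le_rfl, st_smul_left, st_smul_right, smul_smul]
    norm_num
  have h2 : ∑ t : K, RF φ (Cfsg.Agent.H943.SL2Rel.u t) (st (x 0) (x 0)) ≠ 0 := by
    intro h
    apply q.z_ne
    refine q.ss _ (2 * (8 + 8) + 8) (q.trP _ _) (fun t => ?_) (q.wP 8 8) (by norm_num) (by rw [h1]; exact h)
    rw [← RF_st, q.str.top]
  obtain ⟨c', hc1, hc2, hc3⟩ := q.UP _ _ (SP.gen 0 0)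
  have h3 : ∑ t : K, RF φ (Cfsg.Agent.H943.SL2Rel.u t) (st (x 0) (x 0)) = -c' 12 := by
    simp only [hc3]
    rw [Finset.sum_comm, Finset.sum_eq_single 12]
    · rw [← Finset.sum_smul, sum_pow, q.card, if_pos (by norm_num), neg_one_smul]
    · intro r hr hr12
      have := Finset.mem_range.1 hr
      rw [← Finset.sum_smul, sum_pow, q.card, if_neg (by omega), zero_smul]
    · intro h
      exact absurd (Finset.mem_range.2 (by norm_num)) h
  obtain ⟨c, hc⟩ := q.fix8 (∑ t : K, RF φ (Cfsg.Agent.H943.SL2Rel.u t) (st (x 0) (x 0))) (2 * (0 + 0 + 12) + 8) (by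
    rw [h3, ← neg_one_smul F, tr1_smul]
    have h4 : ∀ n, ∀ v ∈ SP x n, tr1 v = 0 := by
      intro n v hv
      induction hv using Submodule.span_induction with
      | mem v hv =>
        obtain ⟨i, j, rfl, rfl⟩ := hv
        exact q.trP _ _
      | zero => rw [← zero_smul F (0 : I27 → F), tr1_smul, zero_mul]
      | add a b _ _ ha hb => rw [tr1_add, ha, hb, add_zero]
      | smul c a _ ha => rw [tr1_smul, ha, mul_zero]
    rw [h4 _ _ (hc2 12), mul_zero]) (fun t => sumU_fix _ t) (by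
    rw [h3, ← neg_one_smul F]
    exact (q.wSP (hc2 12)).smul _) (by norm_num)
  refine ⟨c, ?_, hc⟩
  rintro rfl
  rw [zero_smul] at hc
  exact h2 hc

theorem hstE : ∀ v ∈ W0 F, EE φ v ∈ W0 F := by
  intro v hv
  rw [mem_W0] at hv ⊢
  unfold EE
  rw [LinearMap.sub_apply, Module.End.one_apply]
  exact q.tr_sub' (by rw [RF_tr, hv]) hv

theorem hge : ∀ n, 13 ≤ n → ∀ v : I27 → F, (EE φ ^ n) v = 0 := by
  intro n hn v
  have h3 : Fact (Nat.Prime 13) := ⟨by norm_num⟩
  have h4 := q.chF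
  have h5 := q.chK
  rw [EE_ge (φ := φ) hn, LinearMap.zero_apply]

theorem hli (c d : F) (h : c • (EE φ ^ (13 - 1)) (st (x 0) (x 0)) + d • (EE φ ^ (13 - 1)) (st (x 0) (x 4)) = 0) : c = 0 ∧ d = 0 := by
  have h3 : Fact (Nat.Prime 13) := ⟨by norm_num⟩
  have h4 := q.chF
  have h5 := q.chK
  rw [EE_top q.card, EE_top q.card, q.sum04] at h
  obtain ⟨e, he, h6⟩ := q.sum00
  rw [h6] at h
  have hd : d = 0 := by
    by_contra hd
    have h7 : st (x 8) (x 8) = (d⁻¹ * (c * e)) • x 8 := by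
      have h8 : d • st (x 8) (x 8) = (c * e) • x 8 := by
        rw [smul_smul, smul_neg, ← sub_eq_add_neg, sub_eq_zero] at h
        exact h.symm
      rw [← smul_smul, ← h8, smul_smul, inv_mul_cancel₀ hd, one_smul]
    apply q.z_ne
    refine q.two_wt (e := 2 * 8 + 4) (e' := 2 * (8 + 8) + 8) ?_ (q.wP 8 8) (by norm_num) (by norm_num)
    rw [h7]
    exact (q.wX 8).smul _
  rw [hd, zero_smul, add_zero, smul_smul] at h
  exact ⟨(mul_eq_zero.1 ((smul_eq_zero.1 h).resolve_right q.ne)).resolve_right he, hd⟩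

/-- **pairs** -/
theorem pair {v v' : I27 → F} (hv : tr1 v = 0) {r s : ℕ} (hr : (EE φ ^ r) v = 0) (hs : (EE φ ^ s) v' = 0) (hrs : r + s ≤ 13) :
    tf v v' = 0 := by
  obtain ⟨w, rfl⟩ := ker_range q.hstE ((mem_W0 _).2 (q.trP 0 0)) ((mem_W0 _).2 (q.trP 0 4)) (by rw [finrank_W0])
    (fun n hn => ⟨q.hge n hn _, q.hge n hn _⟩) q.hli (r := r) (by omega) ((mem_W0 _).2 hv) hr
  apply tf_pow_zero
  rw [show 13 - r = (13 - r - s) + s by omega, pow_add, Module.End.mul_apply, hs, map_zero]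

end Qt

end Cfsg.Agent.R2.F4N
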