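import Cfsg.Agent.R2.F4N.Q13e

/-!
# `Q = 13` : the torus (lead, S5931)
-/

set_option autoImplicit false
set_option linter.unusedSectionVars false

namespace Cfsg.Agent.R2.F4N

open Cfsg Cfsg.Lie Module Matrix Finset
open Cfsg.Agent.ChevalleyStructure.E6Min.Basic
open Cfsg.Agent.H952.F4 Cfsg.Agent.H952.F4.Jord
open Cfsg.Agent.H952.F4.FixV (W0 mem_W0 finrank_W0 u0_ne_zero tr1_eq)
open Cfsg.Agent.R2.F4M
open Cfsg.Agent.R2.GEO (tfB tfB_apply)

universe u v w

variable {F : Type u} [Field F] [Fintype F] {K : Type v} [Field K] [Fintype K]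
variable {φ : ProjectiveSpecialLinearGroup (Fin 2) K →* ↥(chevF4.group F)} {κ : K →+* F} {x : ℕ → I27 → F}

namespace Qt

variable (q : Qt κ φ x)

include q

theorem wPr {i j : ℕ} (hi : i ≤ 8) (hj : j ≤ 8) : ∃ c : F, c ≠ 0 ∧
    RF φ Cfsg.Agent.H943.SL2Rel.w (st (x i) (x j)) = c • st (x (8 - i)) (x (8 - j)) := by
  refine ⟨(-1) ^ i * (-1) ^ j, mul_ne_zero (pow_ne_zero _ (neg_ne_zero.2 one_ne_zero))
        (pow_ne_zero _ (neg_ne_zero.2 one_ne_zero)), ?_⟩
  rw [← RF_st, q.str.w i hi, q.str.w j hj, st_smul_left, st_smul_right, smul_smul]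

theorem wMr {i j l : ℕ} (hi : i ≤ 8) (hj : j ≤ 8) (hl : l ≤ 8) : ∃ c : F, c ≠ 0 ∧
    RF φ Cfsg.Agent.H943.SL2Rel.w (st (x i) (st (x j) (x l))) = c • st (x (8 - i)) (st (x (8 - j)) (x (8 - l))) := by
  obtain ⟨c, hc, h⟩ := q.wPr hj hl
  refine ⟨(-1) ^ i * c, mul_ne_zero (pow_ne_zero _ (neg_ne_zero.2 one_ne_zero)) hc, ?_⟩
  rw [← RF_st, h, q.str.w i hi, st_smul_left, st_smul_right, smul_smul]

theorem tfP_up {i j i' j' : ℕ} (h : 21 ≤ i + j + (i' + j')) : tf (st (x i) (x j)) (st (x i') (x j')) = 0 := by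
  rcases Nat.lt_or_ge 16 (i' + j') with h1 | h1
  · rw [q.P_big (i := i') (j := j') (by omega), tf_zr]
  · rcases Nat.lt_or_ge 16 (i + j) with h2 | h2
    · rw [q.P_big (i := i) (j := j) (by omega), tf_zl]
    · exact q.pair (q.trP i j) (q.dP i j) (q.dP i' j') (by omega)

/-- **products of `X` : the form is exact** -/
theorem tfP {i j i' j' : ℕ} (hi : i ≤ 8) (hj : j ≤ 8) (hi' : i' ≤ 8) (hj' : j' ≤ 8) (h : i + j + (i' + j') ≠ 16) :
    tf (st (x i) (x j)) (st (x i') (x j')) = 0 := by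
  by_cases hd : 12 ∣ (2 * (i + j) + 8) + (2 * (i' + j') + 8)
  · rcases Nat.lt_or_ge (i + j + (i' + j')) 21 with h1 | h1
    · obtain ⟨c, hc, e1⟩ := q.wPr hi hj
      obtain ⟨c', hc', e2⟩ := q.wPr hi' hj'
      have h2 := RF_tf (φ := φ) Cfsg.Agent.H943.SL2Rel.w (st (x i) (x j)) (st (x i') (x j'))
      rw [e1, e2, tf_smul_left, tf_smul_right, q.tfP_up (by omega), mul_zero, mul_zero] at h2
      exact h2.symm
    · exact q.tfP_up h1
  · exact (q.wP i j).tf_zero (q.wP i' j') (by rw [q.card]; exact hd)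

theorem tfM_up {i j l i' j' l' : ℕ} (h : 29 ≤ i + (j + l) + (i' + (j' + l'))) :
    tf (st (x i) (st (x j) (x l))) (st (x i') (st (x j') (x l'))) = 0 := by
  have hz : ∀ {i j l : ℕ}, 21 ≤ i + (j + l) → st (x i) (st (x j) (x l)) = 0 := by
    intro i j l h
    have h1 := SM.gen (x := x) i j l
    rwa [q.m21 _ h, Submodule.mem_bot] at h1
  rcases Nat.lt_or_ge (i + (j + l)) 21 with h1 | h1
  · rcases Nat.lt_or_ge (i' + (j' + l')) 21 with h2 | h2
    · exact q.pair (q.trM i j l) (q.dM i j l) (q.dM i' j' l') (by omega)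
    · rw [hz h2, tf_zr]
  · rw [hz h1, tf_zl]

theorem tfM {i j l i' j' l' : ℕ} (hi : i ≤ 8) (hj : j ≤ 8) (hl : l ≤ 8) (hi' : i' ≤ 8) (hj' : j' ≤ 8) (hl' : l' ≤ 8)
    (h : i + (j + l) + (i' + (j' + l')) ≠ 24) : tf (st (x i) (st (x j) (x l))) (st (x i') (st (x j') (x l'))) = 0 := by
  by_cases hd : 12 ∣ (2 * (i + (j + l)) + 12) + (2 * (i' + (j' + l')) + 12)
  · rcases Nat.lt_or_ge (i + (j + l) + (i' + (j' + l'))) 29 with h1 | h1
    · obtain ⟨c, hc, e1⟩ := q.wMr hi hj hl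
      obtain ⟨c', hc', e2⟩ := q.wMr hi' hj' hl'
      have h2 := RF_tf (φ := φ) Cfsg.Agent.H943.SL2Rel.w (st (x i) (st (x j) (x l))) (st (x i') (st (x j') (x l')))
      rw [e1, e2, tf_smul_left, tf_smul_right, q.tfM_up (by omega), mul_zero, mul_zero] at h2
      exact h2.symm
    · exact q.tfM_up h1
  · exact (q.wM i j l).tf_zero (q.wM i' j' l') (by rw [q.card]; exact hd)

theorem tf_move {y z u : I27 → F} (_hy : tr1 y = 0) (hz : tr1 z = 0) (hu : tr1 u = 0) : tf (st y z) u = tf z (st y u) := by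
  rw [st_comm, tf_st_assoc y hz hu]

/-- **the trilinear form is exact** -/
theorem NNP {i j k l m n : ℕ} (hi : i ≤ 8) (hj : j ≤ 8) (hk : k ≤ 8) (hl : l ≤ 8) (hm : m ≤ 8) (hn : n ≤ 8)
    (h : i + j + (k + l) + (m + n) ≠ 24) : NN F (st (x i) (x j)) (st (x k) (x l)) (st (x m) (x n)) = 0 := by
  rw [NN_apply, ← tf_st _ _ (q.trP m n)]
  have h1 := congrArg (fun v => tf v (st (x m) (x n))) (st_pol q.h2 q.h3 (q.tr i) (q.tr j) (q.trP k l))
  simp only [tf_add_left, tf_smul_left] at h1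
  have e1 : tf (st (x i) (st (x j) (st (x k) (x l)))) (st (x m) (x n)) = 0 := by
    rw [q.tf_move (q.tr i) (tr1_st q.h3 (q.tr j) _) (q.trP m n)]
    exact q.tfM hj hk hl hi hm hn (by omega)
  have e2 : tf (st (x j) (st (x i) (st (x k) (x l)))) (st (x m) (x n)) = 0 := by
    rw [q.tf_move (q.tr j) (tr1_st q.h3 (q.tr i) _) (q.trP m n)]
    exact q.tfM hi hk hl hj hm hn (by omega)
  rw [e1, e2, q.iso, st_comm (st (x k) (x l)) (st (x i) (x j))] at h1
  have e3 : tf (x i) (st (x k) (x l)) * tf (x j) (st (x m) (x n)) = 0 := by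
    by_cases h2 : k + l + i = 12
    · rw [tf_comm (x j), q.tfX (l := j) (by omega), mul_zero]
    · rw [tf_comm (x i), q.tfX h2, zero_mul]
  have e4 : tf (x j) (st (x k) (x l)) * tf (x i) (st (x m) (x n)) = 0 := by
    by_cases h2 : k + l + j = 12
    · rw [tf_comm (x i), q.tfX (l := i) (by omega), mul_zero]
    · rw [tf_comm (x j), q.tfX h2, zero_mul]
  linear_combination h1 + 2 / 3 * e3 + 2 / 3 * e4

/-- the set of generators -/
def gset (x : ℕ → I27 → F) : Set (I27 → F) := {v | v = u0 F ∨ ∃ i j, i ≤ 8 ∧ j ≤ 8 ∧ v = st (x i) (x j)}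

theorem span_gset : ⊤ ≤ Submodule.span F (gset x) := by
  intro v _
  have h3 := q.h3
  have h0 : tr1 (v - (tr1 v / 3) • u0 F) = 0 := by
    rw [sub_eq_add_neg, tr1_add, ← neg_smul, tr1_smul, tr1_u0]
    field_simp
    ring
  have hst : ∀ y ∈ Submodule.span F (gset x), EE φ y ∈ Submodule.span F (gset x) := by
    have hSP : ∀ n, SP x n ≤ Submodule.span F (gset x) := by
      intro n
      unfold SP
      rw [Submodule.span_le]
      rintro _ ⟨i, j, rfl, rfl⟩
      by_cases hi : i ≤ 8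
      · by_cases hj : j ≤ 8
        · exact Submodule.subset_span (Or.inr ⟨i, j, hi, hj, rfl⟩)
        · rw [q.big j (by omega), st_zero_right]
          exact Submodule.zero_mem _
      · rw [q.big i (by omega), st_zero_left]
        exact Submodule.zero_mem _
    intro y hy
    induction hy using Submodule.span_induction with
    | mem y hy =>
      rcases hy with rfl | ⟨i, j, hi, hj, rfl⟩
      · have h1 : EE φ (u0 F) = 0 := by
          unfold EE
          rw [LinearMap.sub_apply, Module.End.one_apply, RF_apply, Jr_u0, sub_self]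
        rw [h1]
        exact Submodule.zero_mem _
      · unfold EE
        rw [LinearMap.sub_apply, Module.End.one_apply]
        obtain ⟨c, hc1, hc2, hc3⟩ := q.UP _ _ (SP.gen i j)
        rw [hc3]
        refine Submodule.sub_mem _ (Submodule.sum_mem _ fun r _ => Submodule.smul_mem _ _ (hSP _ (hc2 r))) ?_
        exact Submodule.subset_span (Or.inr ⟨i, j, hi, hj, rfl⟩)
    | zero =>
      rw [map_zero]
      exact Submodule.zero_mem _
    | add a b _ _ ha hb =>
      rw [map_add]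
      exact Submodule.add_mem _ ha hb
    | smul c a _ ha =>
      rw [map_smul]
      exact Submodule.smul_mem _ _ ha
  have hstn : ∀ n, ∀ y ∈ Submodule.span F (gset x), (EE φ ^ n) y ∈ Submodule.span F (gset x) := by
    intro n
    induction n with
    | zero => intro y hy; exact hy
    | succ n ih =>
      intro y hy
      rw [pow_succ', Module.End.mul_apply]
      exact hst _ (ih y hy)
  obtain ⟨α, β, h1⟩ := two_blocks q.hstE ((mem_W0 _).2 (q.trP 0 0)) ((mem_W0 _).2 (q.trP 0 4)) (by rw [finrank_W0])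
    (fun n hn => ⟨q.hge n hn _, q.hge n hn _⟩) q.hli ((mem_W0 _).2 h0)
  have h2 : v = (v - (tr1 v / 3) • u0 F) + (tr1 v / 3) • u0 F := by rw [sub_add_cancel]
  rw [h2, h1]
  refine Submodule.add_mem _ (Submodule.sum_mem _ fun r _ => Submodule.add_mem _ ?_ ?_) ?_
  · exact Submodule.smul_mem _ _ (hstn _ _ (Submodule.subset_span (Or.inr ⟨0, 0, by norm_num, by norm_num, rfl⟩)))
  · exact Submodule.smul_mem _ _ (hstn _ _ (Submodule.subset_span (Or.inr ⟨0, 4, by norm_num, by norm_num, rfl⟩)))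
  · exact Submodule.smul_mem _ _ (Submodule.subset_span (Or.inl rfl))

/-- **the torus** -/
theorem torus (c : Fˣ) : ∃ z : ↥(chevF4.group F), ∀ s ≤ 8, Jr F z (x s) = ((c ^ (-4 + (s : ℤ)) : Fˣ) : F) • x s := by
  classical
  let B := Module.Basis.ofSpan q.span_gset
  have hB : ∀ i, B i ∈ gset x := fun i => Module.Basis.ofSpan_subset q.span_gset ⟨i, rfl⟩
  have hfin : Fintype _ := FiniteDimensional.fintypeBasisIndex B
  have tru : tr1 (u0 F) ≠ 0 := by
    rw [tr1_u0]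
    exact q.h3
  have hm : ∀ i, ∃ m : ℤ, (B i = u0 F ∧ m = 0) ∨ ∃ a b : ℕ, a ≤ 8 ∧ b ≤ 8 ∧ B i = st (x a) (x b) ∧ m = (a : ℤ) + b - 8 := by
    intro i
    rcases hB i with h | ⟨a, b, ha, hb, h⟩
    · exact ⟨0, Or.inl ⟨h, rfl⟩⟩
    · exact ⟨_, Or.inr ⟨a, b, ha, hb, h, rfl⟩⟩
  choose m hm using hm
  obtain ⟨z, hz⟩ := exists_lam q.h2 B m (by
    intro i j l h
    rcases hm i with ⟨e1, e1'⟩ | ⟨a1, b1, ha1, hb1, e1, e1'⟩ <;> rcases hm j with ⟨e2, e2'⟩ | ⟨a2, b2, ha2, hb2, e2, e2'⟩ <;>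
      rcases hm l with ⟨e3, e3'⟩ | ⟨a3, b3, ha3, hb3, e3, e3'⟩ <;> rw [e1, e2, e3] at h
    · omega
    · rw [NN_u0_u0, q.trP, mul_zero] at h
      exact absurd rfl h
    · rw [NN_comm, NN_rot, NN_u0_u0, q.trP, mul_zero] at h
      exact absurd rfl h
    · rw [NN_u0, q.trP, zero_mul, zero_sub] at h
      by_contra hne
      exact neg_ne_zero.1 h (q.tfP ha2 hb2 ha3 hb3 (by omega))
    · rw [NN_rot, NN_u0_u0, q.trP, mul_zero] at h
      exact absurd rfl h
    · rw [NN_comm, NN_u0, q.trP, zero_mul, zero_sub] at h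
      by_contra hne
      exact neg_ne_zero.1 h (q.tfP ha1 hb1 ha3 hb3 (by omega))
    · rw [NN_rot, NN_rot, NN_u0, q.trP, zero_mul, zero_sub] at h
      by_contra hne
      exact neg_ne_zero.1 h (q.tfP ha1 hb1 ha2 hb2 (by omega))
    · by_contra hne
      exact h (q.NNP ha1 hb1 ha2 hb2 ha3 hb3 (by omega))) (by
    intro i hi
    have h1 : ∃ i0, B i0 = u0 F := by
      by_contra hcon
      rw [not_exists] at hcon
      apply tru
      rw [← mem_W0, ← B.sum_repr (u0 F)]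
      refine Submodule.sum_mem _ fun j _ => Submodule.smul_mem _ _ ?_
      rcases hm j with ⟨e1, e1'⟩ | ⟨a1, b1, ha1, hb1, e1, e1'⟩
      · exact absurd e1 (hcon j)
      · rw [e1, mem_W0]
        exact q.trP _ _
    obtain ⟨i0, hi0⟩ := h1
    rw [← hi0, B.repr_self, Finsupp.single_apply] at hi
    have h2 : i0 = i := by
      by_contra hne
      exact hi (if_neg hne)
    subst h2
    rcases hm i0 with ⟨e1, e1'⟩ | ⟨a1, b1, ha1, hb1, e1, e1'⟩
    · exact e1'
    · exfalso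
      apply tru
      rw [← hi0, e1]
      exact q.trP _ _) c
  refine ⟨z, fun s hs => ?_⟩
  rw [← sub_eq_zero]
  refine tf_nondeg fun y => ?_
  have h1 : (tfB F (Jr F z (x s) - ((c ^ (-4 + (s : ℤ)) : Fˣ) : F) • x s)).comp (Jr F z) = 0 := by
    refine B.ext fun i => ?_
    rw [LinearMap.comp_apply, tfB_apply, LinearMap.zero_apply, tf_sub_left, Jr_tf, hz, tf_smul_left, tf_smul_right]
    rcases hm i with ⟨e1, e1'⟩ | ⟨a1, b1, ha1, hb1, e1, e1'⟩
    · rw [e1, tf_u0_right, q.tr]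
      ring
    · rw [e1, e1', tf_comm (x s)]
      by_cases h2 : a1 + b1 + s = 12
      · rw [← mul_assoc, ← Units.val_mul, ← _root_.zpow_add, show -4 + (s : ℤ) + ((a1 : ℤ) + b1 - 8) = 0 by omega, zpow_zero,
          Units.val_one, one_mul, sub_self]
      · rw [q.tfX h2]
        ring
  have h2 := LinearMap.congr_fun h1 (Jr F z⁻¹ y)
  rw [LinearMap.comp_apply, Jr_apply_inv, tfB_apply, LinearMap.zero_apply] at h2
  exact h2

end Qt

end Cfsg.Agent.R2.F4N
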