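import Cfsg.Agent.R2.F4N.Rat
import Cfsg.Agent.R2.H28.SL2.Both
import Cfsg.Agent.R2.H28.SL2.Bas

/-!
# From labels to standard bases and uniqueness (lead, S5931)
-/

set_option autoImplicit false
set_option linter.unusedSectionVars false

namespace Cfsg.Agent.R2.F4N

open Cfsg Cfsg.Lie Module Matrix
open Cfsg.Agent.ChevalleyStructure.E6Min.Basic
open Cfsg.Agent.H952.F4 Cfsg.Agent.H952.F4.Jord
open Cfsg.Agent.H952.F4.FixV (W0 mem_W0 finrank_W0 u0_ne_zero tr1_eq)
open Cfsg.Agent.R2.H9.E6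
open Cfsg.Agent.GpExc.Field (emb)
open Cfsg.Agent.R2.H28.SL2 Cfsg.Agent.H943.RepAdd Cfsg.Agent.H943.SL2Mod
open Cfsg.Agent.R2.F4M

universe u v w

variable {F : Type u} [Field F] {K : Type v} [Field K] {k : Type u} [Field k] {f : F →+* k}
variable {φ : ProjectiveSpecialLinearGroup (Fin 2) K →* ↥(chevF4.group F)}

/-- standard bases of submodules -/
structure Sb (κ : K →+* k) (f : F →+* k) (φ : ProjectiveSpecialLinearGroup (Fin 2) K →* ↥(chevF4.group F))
    (X : Submodule k (I27 → k)) (n : ℕ) (x : ℕ → I27 → k) : Prop where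
  str : Str κ (Rk f φ) n x
  li : LinearIndependent k (fun s : Fin (n + 1) => x s)
  sp : X = Submodule.span k (Set.range fun s : Fin (n + 1) => x s)
  top : ∀ v ∈ X, (∀ t, Rk f φ (Cfsg.Agent.H943.SL2Rel.u t) v = v) → ∃ c : k, v = c • x n

section

variable {κ : K →+* k} {X : Submodule k (I27 → k)} {n : ℕ} {x : ℕ → I27 → k} (h : Sb κ f φ X n x)

include h

theorem Sb.mem {s : ℕ} (hs : s ≤ n) : x s ∈ X := by
  rw [h.sp]
  exact Submodule.subset_span ⟨⟨s, Nat.lt_succ_iff.2 hs⟩, rfl⟩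

theorem Sb.ne {s : ℕ} (hs : s ≤ n) : x s ≠ 0 := h.li.ne_zero ⟨s, Nat.lt_succ_iff.2 hs⟩

theorem Sb.finrank : finrank k X = n + 1 := by
  rw [h.sp, finrank_span_eq_card h.li, Fintype.card_fin]

end

variable [Fintype K] [DecidableEq k] [DecidableEq K] (ι : K →+* k) (p : ℕ) [Fact p.Prime] [CharP k p] [CharP K p]

/-- the inclusion of a submodule of `J₀` -/
def jn (X : Submodule k ↥(W0 k)) : X →ₗ[k] (I27 → k) := (W0 k).subtype.comp X.subtype

theorem jn_inj (X : Submodule k ↥(W0 k)) : Function.Injective (jn X) := fun _ _ h => Subtype.ext (Subtype.ext h)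

theorem jn_rep {X : Submodule k ↥(W0 k)} (hX : ∀ g, ∀ x ∈ X, R0 f φ g x ∈ X) (g : SpecialLinearGroup (Fin 2) K) (x : X) :
    jn X (subRep (R0 f φ) X hX g x) = Rk f φ g (jn X x) := rfl

theorem mem_map_iff {X : Submodule k ↥(W0 k)} {v : I27 → k} : v ∈ X.map (W0 k).subtype ↔ ∃ x : X, jn X x = v := by
  constructor
  · rintro ⟨w, hw, rfl⟩
    exact ⟨⟨w, hw⟩, rfl⟩
  · rintro ⟨w, rfl⟩
    exact ⟨w, w.2, rfl⟩

/-- **standard bases** -/
theorem exists_sb {X : Submodule k ↥(W0 k)} {hX : ∀ g, ∀ x ∈ X, R0 f φ g x ∈ X} {n r : ℕ}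
    (h : IsV (V := ↥X) ι p (subRep (R0 f φ) X hX) (n * p ^ r)) (hn : n < p) :
    ∃ x, Sb ((iterateFrobenius k p r).comp ι) f φ (X.map (W0 k).subtype) n x := by
  obtain ⟨v, hv⟩ := h.basS ι p hn
  obtain ⟨m, hm0, hmu, -, -, hm⟩ := h.hw
  have hκ : ∀ t, ((iterateFrobenius k p r).comp ι) t = ι t ^ p ^ r := fun t => iterateFrobenius_def p r (ι t)
  refine ⟨fun s => jn X (v s), ⟨fun s hs t => ?_, fun s hs a => ?_, fun s hs => ?_⟩, ?_, ?_, ?_⟩
  · rw [← jn_rep hX, hv.u s hs t, map_sum]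
    refine Finset.sum_congr rfl fun j _ => ?_
    rw [map_smul, hκ]
  · rw [← jn_rep hX, hv.h s hs a, map_smul, hκ]
  · rw [← jn_rep hX, hv.w s hs, map_smul]
  · exact hv.li.map' (jn X) (LinearMap.ker_eq_bot_of_injective (jn_inj X))
  · have h1 := congrArg (Submodule.map (jn X)) (top_le_iff.1 hv.sp)
    rw [Submodule.map_span, ← Set.range_comp] at h1
    rw [show (fun s : Fin (n + 1) => jn X (v s)) = (jn X) ∘ (fun s : Fin (n + 1) => v s) from rfl, h1]
    ext w
    rw [mem_map_iff, Submodule.mem_map]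
    constructor
    · rintro ⟨x, hx⟩
      exact ⟨x, Submodule.mem_top, hx⟩
    · rintro ⟨x, -, hx⟩
      exact ⟨x, hx⟩
  · intro w hw hfix
    obtain ⟨w, rfl⟩ := mem_map_iff.1 hw
    obtain ⟨c, hc⟩ := hm w fun t => jn_inj X (by rw [jn_rep, hfix])
    obtain ⟨d, hd⟩ := hm (v n) fun t => by
      rw [hv.u n le_rfl t, Nat.sub_self]
      simp
    have hd0 : d ≠ 0 := by
      rintro rfl
      rw [zero_smul] at hd
      exact hv.li.ne_zero ⟨n, Nat.lt_succ_self n⟩ hd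
    refine ⟨c / d, ?_⟩
    rw [hc, hd, ← map_smul, smul_smul, div_mul_cancel₀ _ hd0]

variable [IsAlgClosed k]

theorem ir_map {X : Submodule k ↥(W0 k)} {hX : ∀ g, ∀ x ∈ X, R0 f φ g x ∈ X} {b : ℕ}
    (h : IsV (V := ↥X) ι p (subRep (R0 f φ) X hX) b) : Ir f φ (X.map (W0 k).subtype) where
  le := by
    rintro _ ⟨x, -, rfl⟩
    exact x.2
  st := by
    intro g w hw
    obtain ⟨w, rfl⟩ := mem_map_iff.1 hw
    rw [← jn_rep hX]
    exact mem_map_iff.2 ⟨_, rfl⟩
  ne := by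
    intro h0
    obtain ⟨x, hx⟩ := @exists_ne X h.irr.1 0
    apply hx
    have h1 : jn X x ∈ X.map (W0 k).subtype := mem_map_iff.2 ⟨x, rfl⟩
    rw [h0, Submodule.mem_bot] at h1
    exact jn_inj X (by rw [h1, map_zero])
  ir := by
    intro Y hY hYs
    rcases h.irr.2 (Y.comap (jn X)) (fun g x hx => by
      show jn X (subRep (R0 f φ) X hX g x) ∈ Y
      rw [jn_rep]
      exact hYs g _ hx) with h1 | h1
    · left
      rw [eq_bot_iff]
      intro y hy
      obtain ⟨x, rfl⟩ := mem_map_iff.1 (hY hy)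
      have h2 : x ∈ Y.comap (jn X) := hy
      rw [h1, Submodule.mem_bot] at h2
      rw [h2, map_zero]
      exact Submodule.zero_mem _
    · right
      refine le_antisymm hY ?_
      intro w hw
      obtain ⟨x, rfl⟩ := mem_map_iff.1 hw
      have h2 : x ∈ Y.comap (jn X) := by rw [h1]; trivial
      exact h2

theorem Ir.exists_isV {Z : Submodule k (I27 → k)} (h : Ir f φ Z) : ∃ (X : Submodule k ↥(W0 k))
    (hX : ∀ g, ∀ x ∈ X, R0 f φ g x ∈ X) (b : ℕ), IsV (V := ↥X) ι p (subRep (R0 f φ) X hX) b ∧ X.map (W0 k).subtype = Z := by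
  have hX : ∀ g, ∀ x ∈ Z.comap (W0 k).subtype, R0 f φ g x ∈ Z.comap (W0 k).subtype := fun g x hx => h.st g _ hx
  have hmap : (Z.comap (W0 k).subtype).map (W0 k).subtype = Z := by
    rw [Submodule.map_comap_subtype]
    exact inf_eq_right.2 h.le
  have hirr : Irrd (V := ↥(Z.comap (W0 k).subtype)) (subRep (R0 f φ) (Z.comap (W0 k).subtype) hX) := by
    refine ⟨?_, fun W hW => ?_⟩
    · obtain ⟨z, hz, hz0⟩ := Submodule.exists_mem_ne_zero_of_ne_bot h.ne
      refine ⟨⟨⟨⟨z, h.le hz⟩, hz⟩, 0, fun h1 => hz0 ?_⟩⟩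
      exact congrArg (jn _) h1
    · rcases h.ir (W.map (jn _)) (by
        rintro _ ⟨x, -, rfl⟩
        exact x.2) (by
        rintro g _ ⟨x, hx, rfl⟩
        rw [← jn_rep hX]
        exact ⟨_, hW g x hx, rfl⟩) with h1 | h1
      · left
        rw [eq_bot_iff]
        intro x hx
        have h2 : jn _ x ∈ W.map (jn _) := ⟨x, hx, rfl⟩
        rw [h1, Submodule.mem_bot] at h2
        exact (Submodule.mem_bot k).2 (jn_inj _ (by rw [h2, map_zero]))
      · right
        rw [eq_top_iff]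
        intro x _
        have h2 : jn _ x ∈ W.map (jn (Z.comap (W0 k).subtype)) := by
          rw [h1]
          exact x.2
        obtain ⟨y, hy, hxy⟩ := h2
        rw [← jn_inj _ hxy]
        exact hy
  obtain ⟨b, hb⟩ := (Sy.{u, u, v} ι p).ex _ hirr
  exact ⟨_, hX, b, hb, hmap⟩

/-- submodules with the same label of multiplicity one coincide -/
theorem eq_of_count {V : Type u} [AddCommGroup V] [Module k V] [FiniteDimensional k V]
    {ρ : Representation k (SpecialLinearGroup (Fin 2) K) V} {X Y : Submodule k V} {hX : ∀ g, ∀ x ∈ X, ρ g x ∈ X}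
    {hY : ∀ g, ∀ x ∈ Y, ρ g x ∈ Y} {b : ℕ} (h1 : IsV ι p (subRep ρ X hX) b) (h2 : IsV ι p (subRep ρ Y hY) b)
    (hc : (cf (Sy.{u, u, v} ι p) ρ).count b = 1) : X = Y := by
  rcases h1.inf_or_le ι p hY with h3 | h3
  · exfalso
    have h4 : InSoc ι p (quotRep ρ X hX) b := by
      refine inSoc_of_hom ι p h2 (X.mkQ.comp Y.subtype) (fun g x => rfl) ?_
      intro h0
      obtain ⟨y, hy⟩ := @exists_ne Y h2.irr.1 0
      apply hy
      have h5 : X.mkQ (y : V) = 0 := LinearMap.congr_fun h0 y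
      rw [Submodule.mkQ_apply, Submodule.Quotient.mk_eq_zero] at h5
      have h6 : (y : V) ∈ X ⊓ Y := ⟨h5, y.2⟩
      rw [h3, Submodule.mem_bot] at h6
      exact Subtype.ext h6
    have h7 := InSoc.mem_cf ι p h4
    have h8 := cf_add (Sy.{u, u, v} ι p) ρ X hX
    rw [h8, cf_irr (Sy.{u, u, v} ι p) h1, Multiset.count_add, Multiset.count_singleton_self] at hc
    have h9 := Multiset.count_pos.2 h7
    omega
  · refine Submodule.eq_of_le_of_finrank_eq h3 ?_
    rw [h1.finrank, h2.finrank]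

/-- **uniqueness** -/
theorem uq_map {X : Submodule k ↥(W0 k)} {hX : ∀ g, ∀ x ∈ X, R0 f φ g x ∈ X} {b : ℕ}
    (h : IsV (V := ↥X) ι p (subRep (R0 f φ) X hX) b) (hc : (cf (Sy.{u, u, v} ι p) (R0 f φ)).count b = 1)
    (hd : ∀ c ∈ cf (Sy.{u, u, v} ι p) (R0 f φ), (Bf k c).card = (Bf k b).card → c = b) :
    Uq f φ (X.map (W0 k).subtype) where
  toIr := ir_map ι p h
  uq := by
    intro Z hZ hfin
    obtain ⟨Y, hY, c, hcY, rfl⟩ := hZ.exists_isV ι p
    have h1 : c ∈ cf (Sy.{u, u, v} ι p) (R0 f φ) := InSoc.mem_cf ι p ⟨Y, hY, hcY⟩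
    have h2 : ∀ X : Submodule k ↥(W0 k), Module.finrank k (X.map (W0 k).subtype) = Module.finrank k X := fun X =>
      (Submodule.equivMapOfInjective _ (W0 k).injective_subtype X).symm.finrank_eq
    rw [h2, h2, h.finrank, hcY.finrank] at hfin
    obtain rfl := hd c h1 hfin
    rw [eq_of_count ι p hcY h hc]

end Cfsg.Agent.R2.F4N
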