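import Cfsg.Agent.R2.F4N.Rb
import Cfsg.Agent.R2.F4N.Uqs

/-!
# Box R: `J₀ = V_8 ⊕ V_16` implies `q = Q` (lead, S5931)
-/

set_option autoImplicit false
set_option linter.unusedSectionVars false

namespace Cfsg.Agent.R2.F4N

open Cfsg Cfsg.Lie Module Matrix
open Cfsg.Agent.ChevalleyStructure.E6Min.Basic
open Cfsg.Agent.H952.F4 Cfsg.Agent.H952.F4.Jord
open Cfsg.Agent.H952.F4.FixV (W0 mem_W0 finrank_W0 u0_ne_zero tr1_eq)
open Cfsg.Agent.R2.F4M
open Cfsg.Agent.R2.H9.E6
open Cfsg.Agent.R2.GEO (tfB tfB_apply)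
open Cfsg.Agent.R2.H28.SL2 Cfsg.Agent.H943.RepAdd Cfsg.Agent.H943.SL2Mod

universe u v w

variable {F : Type u} [Field F] [Fintype F] {K : Type v} [Field K] [Fintype K] {p a b : ℕ}
variable {H : Subgroup ↥(chevF4.group F)} {φ : ProjectiveSpecialLinearGroup (Fin 2) K →* ↥(chevF4.group F)}

section core

variable {κ : K →+* F} {v : Fin 3 → ℕ → I27 → F} (d : Dt κ φ v)

include d

theorem Dt.onto (hc : Cfg p a b H φ) (hp : 17 ≤ p)
    (hU : Hst H (Submodule.span F (Set.range fun s : Fin 9 => v 1 s))) (c : Fˣ) : ∃ e : K, κ e = c := by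
  have hpp := hc.prime
  have hpf : Fact p.Prime := ⟨hpp⟩
  have hcF := hc.charF
  have hpK : p ≤ Fintype.card K := by
    rw [hc.cardK]
    exact Nat.le_self_pow (by have := hc.ha; omega) p
  have h2 : (2 : F) ≠ 0 := by
    have h := (CharP.cast_eq_zero_iff F p 2).not.2 (fun h => by have := Nat.le_of_dvd (by norm_num) h; omega)
    exact_mod_cast h
  have hcard : Fintype.card (Σ t : Fin 3, Fin (nn t + 1)) = finrank F (I27 → F) := by
    rw [Module.finrank_fintype_fun_eq_card]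
    decide
  let B := basisOfLinearIndependentOfCardEqFinrank d.li hcard
  have hB : ∀ i, B i = v i.1 i.2 := fun i => by
    rw [coe_basisOfLinearIndependentOfCardEqFinrank]
  obtain ⟨z, hz⟩ := exists_lam h2 B (fun i => ((i.2 : ℕ) : ℤ) - ((nn i.1 / 2 : ℕ) : ℤ)) (by
    intro i j l h
    rw [hB, hB, hB] at h
    have h1 := d.sym hp hcF hpp hpK (Nat.lt_succ_iff.1 i.2.2) (Nat.lt_succ_iff.1 j.2.2) (Nat.lt_succ_iff.1 l.2.2) h
    obtain ⟨r₁, e1⟩ := nn_even i.1
    obtain ⟨r₂, e2⟩ := nn_even j.1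
    obtain ⟨r₃, e3⟩ := nn_even l.1
    omega) (by
    intro i hi
    have h0 : u0 F = B ⟨0, 0⟩ := by
      rw [hB]
      exact d.zero.symm
    rw [h0, Basis.repr_self, Finsupp.single_apply] at hi
    split_ifs at hi with h
    · subst h
      rfl
    · exact absurd rfl hi) c
  have hzx : ∀ s ≤ 8, Jr F z (v 1 s) = ((c ^ (-4 + (s : ℤ)) : Fˣ) : F) • v 1 s := by
    intro s hs
    have h1 := hz ⟨1, ⟨s, Nat.lt_succ_iff.2 hs⟩⟩
    rw [hB] at h1
    have e : (-4 : ℤ) + (s : ℤ) = (s : ℤ) - ((nn 1 / 2 : ℕ) : ℤ) := by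
      show (-4 : ℤ) + (s : ℤ) = (s : ℤ) - ((4 : ℕ) : ℤ)
      push_cast
      ring
    rw [e]
    exact h1
  have hli : LinearIndependent F (fun s : Fin (8 + 1) => v 1 s) :=
    d.li.comp (fun s : Fin (8 + 1) => (⟨1, s⟩ : Σ t : Fin 3, Fin (nn t + 1))) (fun s t hst => by
      have := (Sigma.mk.inj hst).2
      exact eq_of_heq this)
  refine mem_range hc (n := 8) (by norm_num) (by omega) (d.str 1) hli hU ?_ (z := z) ?_ (m := -4) hzx
  · refine pr_of_finrank ?_ ?_ <;> rw [finrank_span_eq_card hli, Fintype.card_fin] <;> norm_num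
  · intro w hw
    induction hw using Submodule.span_induction with
    | mem w hw =>
      obtain ⟨s, rfl⟩ := hw
      show Jr F z (v 1 s) ∈ _
      rw [hzx s (Nat.lt_succ_iff.1 s.2)]
      exact Submodule.smul_mem _ _ (Submodule.subset_span ⟨s, rfl⟩)
    | zero =>
      rw [map_zero]
      exact Submodule.zero_mem _
    | add x y _ _ hx hy =>
      rw [map_add]
      exact Submodule.add_mem _ hx hy
    | smul e x _ hx =>
      rw [map_smul]
      exact Submodule.smul_mem _ _ hx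

end core

theorem eq_of_onto (hc : Cfg p a b H φ) (κ : K →+* F) (h : ∀ c : Fˣ, ∃ e : K, κ e = c) : a = b := by
  have hs : Function.Surjective κ := fun c => by
    by_cases h0 : c = 0
    · exact ⟨0, by rw [map_zero, h0]⟩
    · exact h (Units.mk0 c h0)
  have h1 := Fintype.card_of_bijective (⟨κ.injective, hs⟩ : Function.Bijective κ)
  rw [hc.cardF, hc.cardK] at h1
  exact Nat.pow_right_injective hc.prime.two_le h1

variable {k : Type u} [Field k] {f : F →+* k}

theorem tr1_up (x : I27 → F) : tr1 (fun i => f (x i)) = f (tr1 x) := by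
  rw [tr1_eq, tr1_eq, map_add, map_add]

/-- **box R** -/
theorem box_R (hc : Cfg p a b H φ) [IsAlgClosed k] (hp : 17 ≤ p) {X Y : Submodule k (I27 → k)} (hX : Uq f φ X)
    (hY : Uq f φ Y) {κ : K →+* k} {x y : ℕ → I27 → k} (bX : Sb κ f φ X 8 x) (bY : Sb κ f φ Y 16 y) : a = b := by
  have hpf : Fact p.Prime := ⟨hc.prime⟩
  have hcF := hc.charF
  have hk : CharP k p := charP_of_injective_ringHom f.injective p
  have h3 : (3 : k) ≠ 0 := by
    have h := (CharP.cast_eq_zero_iff k p 3).not.2 (fun h => by have := Nat.le_of_dvd (by norm_num) h; omega)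
    exact_mod_cast h
  -- the intersection
  have hXY : ∀ w ∈ X, w ∈ Y → w = 0 := by
    intro w h1 h2
    rcases hX.ir (X ⊓ Y) inf_le_left (fun g z hz => ⟨hX.st g z hz.1, hY.st g z hz.2⟩) with h4 | h4
    · have h5 : w ∈ X ⊓ Y := ⟨h1, h2⟩
      rwa [h4, Submodule.mem_bot] at h5
    · exfalso
      have h5 : X ≤ Y := inf_eq_left.1 h4
      rcases hY.ir X h5 hX.st with h6 | h6
      · exact hX.ne h6
      · have h7 := bX.finrank
        have h8 := bY.finrank
        rw [h6] at h7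
        omega
  obtain ⟨κ', hκ', x', ν, hν, hx', hSx⟩ := hX.rat hc (n := 8) (by norm_num) (by omega) (fun s hs => bX.mem hs)
    (fun s hs => bX.ne hs) bX.str bX.top
  obtain ⟨κ'', hκ'', y', μ, hμ, hy', hSy⟩ := hY.rat hc (n := 16) (by norm_num) (by omega) (fun s hs => bY.mem hs)
    (fun s hs => bY.ne hs) bY.str bY.top
  obtain rfl : κ'' = κ' := by
    ext t
    apply f.injective
    exact (congrArg (fun g : K →+* k => g t) hκ'').trans (congrArg (fun g : K →+* k => g t) hκ').symm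
  let v : Fin 3 → ℕ → I27 → F := ![fun _ => u0 F, x', y']
  have hu0 : (fun i => f (u0 F i)) = u0 k := by
    funext i
    unfold u0
    rw [apply_ite f, map_one, map_zero]
  have hli : LinearIndependent k (fun i : Σ t : Fin 3, Fin (nn t + 1) => (fun l => f (v i.1 i.2 l) : I27 → k)) := by
    rw [Fintype.linearIndependent_iff]
    intro g hg
    rw [Fintype.sum_sigma, Fin.sum_univ_three] at hg
    have e0 : ∑ s : Fin (nn 0 + 1), g ⟨0, s⟩ • (fun l => f (v 0 s l) : I27 → k) = g ⟨0, 0⟩ • u0 k := by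
      have : ∑ s : Fin (nn 0 + 1), g ⟨0, s⟩ • (fun l => f (v 0 s l) : I27 → k) = g ⟨0, 0⟩ • (fun l => f (v 0 0 l) : I27 → k) :=
        Fin.sum_univ_one _
      rw [this]
      congr 1
    have e1 : ∑ s : Fin (nn 1 + 1), g ⟨1, s⟩ • (fun l => f (v 1 s l) : I27 → k) = ∑ s : Fin (8 + 1), (g ⟨1, s⟩ * ν) • x s := by
      refine Finset.sum_congr rfl fun s _ => ?_
      show g ⟨1, s⟩ • (fun l => f (x' s l) : I27 → k) = _
      rw [hx' s (Nat.lt_succ_iff.1 s.2), smul_smul]
    have e2 : ∑ s : Fin (nn 2 + 1), g ⟨2, s⟩ • (fun l => f (v 2 s l) : I27 → k) =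
        ∑ s : Fin (16 + 1), (g ⟨2, s⟩ * μ) • y s := by
      refine Finset.sum_congr rfl fun s _ => ?_
      show g ⟨2, s⟩ • (fun l => f (y' s l) : I27 → k) = _
      rw [hy' s (Nat.lt_succ_iff.1 s.2), smul_smul]
    rw [e0, e1, e2] at hg
    have hA : ∑ s : Fin (8 + 1), (g ⟨1, s⟩ * ν) • x s ∈ X := Submodule.sum_mem _ fun s _ =>
      Submodule.smul_mem _ _ (bX.mem (Nat.lt_succ_iff.1 s.2))
    have hB : ∑ s : Fin (16 + 1), (g ⟨2, s⟩ * μ) • y s ∈ Y := Submodule.sum_mem _ fun s _ =>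
      Submodule.smul_mem _ _ (bY.mem (Nat.lt_succ_iff.1 s.2))
    have h4 := congrArg tr1 hg
    rw [tr1_add, tr1_add, tr1_smul, tr1_u0, (mem_W0 _).1 (hX.le hA), (mem_W0 _).1 (hY.le hB), add_zero, add_zero,
      show tr1 (0 : I27 → k) = 0 from (mem_W0 _).1 (Submodule.zero_mem _)] at h4
    have h5 : g ⟨0, 0⟩ = 0 := (mul_eq_zero.1 h4).resolve_right h3
    rw [h5, zero_smul, zero_add] at hg
    have h6 : ∑ s : Fin (8 + 1), (g ⟨1, s⟩ * ν) • x s = 0 := hXY _ hA (by
      rw [eq_neg_of_add_eq_zero_left hg]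
      exact Submodule.neg_mem _ hB)
    rw [h6, zero_add] at hg
    have h7 := Fintype.linearIndependent_iff.1 bX.li _ h6
    have h8 := Fintype.linearIndependent_iff.1 bY.li _ hg
    rintro ⟨t, s⟩
    fin_cases t
    · have : s = 0 := Subsingleton.elim (α := Fin 1) _ _
      rw [this]
      exact h5
    · exact (mul_eq_zero.1 (h7 s)).resolve_right hν
    · exact (mul_eq_zero.1 (h8 s)).resolve_right hμ
  have d : Dt κ'' φ v := by
    refine ⟨fun t => ?_, rfl, fun s hs => ?_, fun s hs => ?_, up_li hli⟩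
    · fin_cases t
      · exact Str.const fun g => Jr_u0 _
      · exact hSx
      · exact hSy
    · apply f.injective
      rw [← tr1_up, map_zero]
      show tr1 (fun i => f (x' s i)) = 0
      rw [hx' s hs]
      exact (mem_W0 _).1 (hX.le (X.smul_mem _ (bX.mem hs)))
    · apply f.injective
      rw [← tr1_up, map_zero]
      show tr1 (fun i => f (y' s i)) = 0
      rw [hy' s hs]
      exact (mem_W0 _).1 (hY.le (Y.smul_mem _ (bY.mem hs)))
  have hsp : dn f X = Submodule.span F (Set.range fun s : Fin 9 => v 1 s) := by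
    refine dn_span (p := p) (b := b) hc.cardF ?_ ?_
    · exact hli.comp (fun s : Fin (8 + 1) => (⟨1, s⟩ : Σ t : Fin 3, Fin (nn t + 1))) (fun s t hst => by
        have := (Sigma.mk.inj hst).2
        exact eq_of_heq this)
    · have h4 : (fun s : Fin 9 => (fun i => f (v 1 s i) : I27 → k)) = fun s : Fin (8 + 1) => ν • x s := by
        funext s
        exact hx' s (Nat.lt_succ_iff.1 s.2)
      rw [h4, bX.sp]
      apply le_antisymm
      · rw [Submodule.span_le]
        rintro _ ⟨s, rfl⟩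
        have h5 : x s = ν⁻¹ • (ν • x s) := by rw [smul_smul, inv_mul_cancel₀ hν, one_smul]
        show x s ∈ _
        rw [h5]
        exact Submodule.smul_mem _ _ (Submodule.subset_span ⟨s, rfl⟩)
      · rw [Submodule.span_le]
        rintro _ ⟨s, rfl⟩
        exact Submodule.smul_mem _ _ (Submodule.subset_span ⟨s, rfl⟩)
  refine eq_of_onto hc κ'' (d.onto hc hp ?_)
  rw [← hsp]
  exact hX.hst hc

end Cfsg.Agent.R2.F4N
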