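import Cfsg.Agent.R2.F4M.Rk
import Cfsg.Agent.R2.F4N.Exact

/-!
# Descent of submodules of `J` (lead, S5931)
-/

set_option autoImplicit false
set_option linter.unusedSectionVars false

namespace Cfsg.Agent.R2.F4N

open Cfsg Cfsg.Lie Module Matrix
open Cfsg.Agent.ChevalleyStructure.E6Min.Basic
open Cfsg.Agent.H952.F4 Cfsg.Agent.H952.F4.Jord
open Cfsg.Agent.H952.F4.FixV (W0 mem_W0 finrank_W0 u0_ne_zero tr1_eq)
open Cfsg.Agent.R2.H9.E6
open Cfsg.Agent.GpExc.Field (emb)
open Cfsg.Agent.R2.H28.SL2 Cfsg.Agent.H943.RepAdd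
open Cfsg.Agent.R2.F4M

universe u v w

section coef

variable {k : Type u} [Field k] {K : Type w} [Field K] [Fintype K] (κ : K →+* k)

omit [Fintype K] in
theorem coef_key {α : Type*} (S : Finset α) (e : α → ℕ) (c : α → k) {Q : ℕ} (he : ∀ x ∈ S, e x < Q) (t : K) :
    ∑ x ∈ S, c x * κ t ^ e x = ∑ j ∈ Finset.range Q, (∑ x ∈ S with e x = j, c x) * κ t ^ j := by
  rw [← Finset.sum_fiberwise_of_maps_to (s := S) (t := Finset.range Q) (g := e) (fun x hx => Finset.mem_range.2 (he x hx))]
  refine Finset.sum_congr rfl fun j _ => ?_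
  rw [Finset.sum_mul]
  refine Finset.sum_congr rfl fun x hx => ?_
  rw [(Finset.mem_filter.1 hx).2]

theorem coef_gen {α β : Type*} (S : Finset α) (T : Finset β) (e : α → ℕ) (e' : β → ℕ)
    (c : α → k) (d : β → k) (he : ∀ x ∈ S, e x < Fintype.card K) (he' : ∀ x ∈ T, e' x < Fintype.card K)
    (h : ∀ t : K, ∑ x ∈ S, c x * κ t ^ e x = ∑ x ∈ T, d x * κ t ^ e' x) (m : ℕ) :
    ∑ x ∈ S with e x = m, c x = ∑ x ∈ T with e' x = m, d x := by
  rcases lt_or_ge m (Fintype.card K) with hm | hm
  · refine coef_eq κ le_rfl (a := fun j => ∑ x ∈ S with e x = j, c x) (b := fun j => ∑ x ∈ T with e' x = j, d x) ?_ m hm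
    intro t
    have h1 := h t
    rw [coef_key κ S e c he t, coef_key κ T e' d he' t] at h1
    exact h1
  · rw [Finset.filter_false_of_mem (fun x hx => ?_), Finset.filter_false_of_mem (fun x hx => ?_)]
    · simp
    · have := he' x hx
      omega
    · have := he x hx
      omega

end coef

section sm

variable {k : Type u} [Field k] (s : k →+* k)

/-- the semilinear map of `J` -/
def sm (x : I27 → k) : I27 → k := fun i => s (x i)

theorem sm_add (x y : I27 → k) : sm s (x + y) = sm s x + sm s y := by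
  funext i
  exact map_add s _ _

theorem sm_smul (c : k) (x : I27 → k) : sm s (c • x) = s c • sm s x := by
  funext i
  exact map_mul s _ _

theorem sm_zero : sm s 0 = 0 := by
  funext i
  exact map_zero s

theorem sm_sum {α : Type*} (S : Finset α) (x : α → I27 → k) : sm s (∑ j ∈ S, x j) = ∑ j ∈ S, sm s (x j) := by
  classical
  induction S using Finset.induction_on with
  | empty => simp [sm_zero]
  | insert a S ha ih => rw [Finset.sum_insert ha, Finset.sum_insert ha, sm_add, ih]

theorem sm_inj {x y : I27 → k} (h : sm s x = sm s y) : x = y := by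
  funext i
  exact s.injective (congrFun h i)

theorem tr1_sm (x : I27 → k) : tr1 (sm s x) = s (tr1 x) := by
  rw [tr1_eq, tr1_eq, map_add, map_add]
  rfl

variable {F : Type u} [Field F] (f : F →+* k) (hs : ∀ c, s (f c) = f c)

include hs in
theorem sm_Jr (g : ↥(chevF4.group F)) (x : I27 → k) : sm s (Jr k (emb hF4 f g) x) = Jr k (emb hF4 f g) (sm s x) := by
  rw [Jr_apply, Jr_apply, JMod.map_isJ f isJ_rJ isJ_rJ g]
  funext i
  simp only [sm, Matrix.mulVec, dotProduct, Matrix.map_apply, map_sum, map_mul, hs]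

/-- the image of a submodule -/
def smS (hsur : Function.Surjective s) (X : Submodule k (I27 → k)) : Submodule k (I27 → k) where
  carrier := {v | ∃ x ∈ X, sm s x = v}
  add_mem' := by
    rintro _ _ ⟨x, hx, rfl⟩ ⟨y, hy, rfl⟩
    exact ⟨x + y, X.add_mem hx hy, sm_add s x y⟩
  zero_mem' := ⟨0, X.zero_mem, sm_zero s⟩
  smul_mem' := by
    rintro c _ ⟨x, hx, rfl⟩
    obtain ⟨d, rfl⟩ := hsur c
    exact ⟨d • x, X.smul_mem d hx, sm_smul s d x⟩

theorem mem_smS {hsur : Function.Surjective s} {X : Submodule k (I27 → k)} {v : I27 → k} :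
    v ∈ smS s hsur X ↔ ∃ x ∈ X, sm s x = v := Iff.rfl

theorem finrank_smS (hsur : Function.Surjective s) (X : Submodule k (I27 → k)) :
    finrank k (smS s hsur X) = finrank k X := by
  let j : X ≃+ smS s hsur X :=
    { toFun := fun x => ⟨sm s x, x, x.2, rfl⟩
      invFun := fun v => ⟨Classical.choose v.2, (Classical.choose_spec v.2).1⟩
      left_inv := fun x => Subtype.ext (sm_inj s (Classical.choose_spec (⟨x, x.2, rfl⟩ : ∃ y ∈ X, sm s y = sm s x)).2)
      right_inv := fun v => Subtype.ext (Classical.choose_spec v.2).2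
      map_add' := fun x y => Subtype.ext (sm_add s x y) }
  have h1 : Module.rank k X = Module.rank k (smS s hsur X) :=
    rank_eq_of_equiv_equiv (fun c => s c) j ⟨s.injective, hsur⟩ (fun c x => Subtype.ext (sm_smul s c x))
  unfold finrank
  rw [h1]

end sm

section cfg

variable {F : Type u} [Field F] [Fintype F] {K : Type v} [Field K] [Fintype K] {p a b : ℕ}
variable {H : Subgroup ↥(chevF4.group F)} {φ : ProjectiveSpecialLinearGroup (Fin 2) K →* ↥(chevF4.group F)}
variable {k : Type u} [Field k] (f : F →+* k)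

/-- irreducible stable submodules -/
structure Ir (f : F →+* k) (φ : ProjectiveSpecialLinearGroup (Fin 2) K →* ↥(chevF4.group F)) (X : Submodule k (I27 → k)) :
    Prop where
  le : X ≤ W0 k
  st : ∀ g, ∀ x ∈ X, Rk f φ g x ∈ X
  ne : X ≠ ⊥
  ir : ∀ Y ≤ X, (∀ g, ∀ x ∈ Y, Rk f φ g x ∈ Y) → Y = ⊥ ∨ Y = X

/-- the only irreducible submodule of its dimension -/
structure Uq (f : F →+* k) (φ : ProjectiveSpecialLinearGroup (Fin 2) K →* ↥(chevF4.group F)) (X : Submodule k (I27 → k)) : Prop
    extends Ir f φ X where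
  uq : ∀ Y, Ir f φ Y → finrank k Y = finrank k X → Y = X

variable {f}

theorem Ir.smS {s : k →+* k} (hs : ∀ c, s (f c) = f c) (hsur : Function.Surjective s) {X : Submodule k (I27 → k)}
    (h : Ir f φ X) : Ir f φ (smS s hsur X) where
  le := by
    rintro _ ⟨x, hx, rfl⟩
    rw [mem_W0, tr1_sm, (mem_W0 x).1 (h.le hx), map_zero]
  st := by
    rintro g _ ⟨x, hx, rfl⟩
    exact ⟨_, h.st g x hx, sm_Jr s f hs _ x⟩
  ne := by
    intro h0
    obtain ⟨x, hx, hx0⟩ := Submodule.exists_mem_ne_zero_of_ne_bot h.ne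
    have h1 : sm s x ∈ Cfsg.Agent.R2.F4N.smS s hsur X := ⟨x, hx, rfl⟩
    rw [h0, Submodule.mem_bot, ← sm_zero s] at h1
    exact hx0 (sm_inj s h1)
  ir := by
    intro Y hY hYs
    let Z : Submodule k (I27 → k) :=
      { carrier := {x | sm s x ∈ Y}
        add_mem' := fun {x y} hx hy => by
          show sm s (x + y) ∈ Y
          rw [sm_add]
          exact Y.add_mem hx hy
        zero_mem' := by
          show sm s 0 ∈ Y
          rw [sm_zero]
          exact Y.zero_mem
        smul_mem' := fun c x hx => by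
          show sm s (c • x) ∈ Y
          rw [sm_smul]
          exact Y.smul_mem _ hx }
    have hZX : Z ≤ X := by
      intro x hx
      obtain ⟨y, hy, hxy⟩ := hY hx
      rw [← sm_inj s hxy]
      exact hy
    rcases h.ir Z hZX (fun g x hx => by
      show sm s (Rk f φ g x) ∈ Y
      have := hYs g _ hx
      rw [Rk_apply, ← sm_Jr s f hs] at this
      exact this) with h1 | h1
    · left
      rw [eq_bot_iff]
      intro y hy
      obtain ⟨x, _, rfl⟩ := hY hy
      have h2 : x ∈ Z := hy
      rw [h1, Submodule.mem_bot] at h2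
      rw [h2, sm_zero]
      exact Submodule.zero_mem _
    · right
      refine le_antisymm hY ?_
      rintro _ ⟨x, hx, rfl⟩
      rw [← h1] at hx
      exact hx

theorem Uq.sm_mem {s : k →+* k} (hs : ∀ c, s (f c) = f c) (hsur : Function.Surjective s) {X : Submodule k (I27 → k)}
    (h : Uq f φ X) {x : I27 → k} (hx : x ∈ X) : sm s x ∈ X := by
  have h1 := h.uq _ (h.toIr.smS hs hsur) (finrank_smS s hsur X)
  rw [← h1]
  exact ⟨x, hx, rfl⟩

theorem Ir.map (hc : Cfg p a b H φ) {X : Submodule k (I27 → k)} (h : Ir f φ X) {g : ↥(chevF4.group F)} (hg : g ∈ H) :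
    Ir f φ (X.map (Jr k (emb hF4 f g))) where
  le := by
    rintro _ ⟨x, hx, rfl⟩
    rw [mem_W0, Jr_tr]
    exact (mem_W0 x).1 (h.le hx)
  st := by
    rintro r _ ⟨x, hx, rfl⟩
    obtain ⟨t, ht⟩ := hc.max.norm g⁻¹ (inv_mem hg) (φ (pq r)) ⟨_, rfl⟩
    obtain ⟨t, rfl⟩ := pq_surjective t
    refine ⟨_, h.st t x hx, ?_⟩
    rw [Rk_apply, Rk_apply, ← Jr_mul, ← Jr_mul, ← map_mul, ← map_mul, ht]
    congr 3
    group
  ne := by
    intro h0
    obtain ⟨x, hx, hx0⟩ := Submodule.exists_mem_ne_zero_of_ne_bot h.ne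
    have h1 : Jr k (emb hF4 f g) x ∈ X.map (Jr k (emb hF4 f g)) := ⟨x, hx, rfl⟩
    rw [h0, Submodule.mem_bot, ← map_zero (Jr k (emb hF4 f g))] at h1
    exact hx0 (Jr_inj _ h1)
  ir := by
    intro Y hY hYs
    have hst : ∀ r, ∀ x ∈ Y.comap (Jr k (emb hF4 f g)), Rk f φ r x ∈ Y.comap (Jr k (emb hF4 f g)) := by
      intro r x hx
      obtain ⟨t, ht⟩ := hc.max.norm g hg (φ (pq r)) ⟨_, rfl⟩
      obtain ⟨t, rfl⟩ := pq_surjective t
      have h2 := hYs t _ hx
      rw [Rk_apply, ← Jr_mul, ← map_mul, ht] at h2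
      show Jr k (emb hF4 f g) (Rk f φ r x) ∈ Y
      rw [Rk_apply, ← Jr_mul, ← map_mul]
      rwa [show g * φ (pq r) * g⁻¹ * g = g * φ (pq r) by group] at h2
    have hle : Y.comap (Jr k (emb hF4 f g)) ≤ X := by
      intro x hx
      obtain ⟨y, hy, hxy⟩ := hY hx
      rw [← Jr_inj _ hxy]
      exact hy
    rcases h.ir _ hle hst with h1 | h1
    · left
      rw [eq_bot_iff]
      intro y hy
      obtain ⟨x, _, rfl⟩ := hY hy
      have h2 : x ∈ Y.comap (Jr k (emb hF4 f g)) := hy
      rw [h1, Submodule.mem_bot] at h2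
      rw [h2, map_zero]
      exact Submodule.zero_mem _
    · right
      refine le_antisymm hY ?_
      rintro _ ⟨x, hx, rfl⟩
      have hx' : x ∈ X := hx
      rw [← h1] at hx'
      exact hx'

theorem Uq.mem (hc : Cfg p a b H φ) {X : Submodule k (I27 → k)} (h : Uq f φ X) {g : ↥(chevF4.group F)} (hg : g ∈ H)
    {x : I27 → k} (hx : x ∈ X) : Jr k (emb hF4 f g) x ∈ X := by
  have h1 := h.uq _ (h.toIr.map hc hg) (Submodule.equivMapOfInjective _ (Jr_inj _) X).symm.finrank_eq
  rw [← h1]
  exact ⟨x, hx, rfl⟩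

/-- the rational points of a submodule -/
def dn (f : F →+* k) (X : Submodule k (I27 → k)) : Submodule F (I27 → F) where
  carrier := {x | (fun i => f (x i)) ∈ X}
  add_mem' := by
    intro x y hx hy
    show (fun i => f ((x + y) i)) ∈ X
    have := X.add_mem hx hy
    convert this using 1
    funext i
    exact map_add f _ _
  zero_mem' := by
    show (fun i => f ((0 : I27 → F) i)) ∈ X
    convert X.zero_mem using 1
    funext i
    exact map_zero f
  smul_mem' := by
    intro c x hx
    show (fun i => f ((c • x) i)) ∈ X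
    have := X.smul_mem (f c) hx
    convert this using 1
    funext i
    exact map_mul f _ _

theorem mem_dn {X : Submodule k (I27 → k)} {x : I27 → F} : x ∈ dn f X ↔ (fun i => f (x i)) ∈ X := Iff.rfl

theorem Uq.hst (hc : Cfg p a b H φ) {X : Submodule k (I27 → k)} (h : Uq f φ X) : Hst H (dn f X) := by
  intro g hg x hx
  rw [mem_dn, ← Jr_map]
  exact h.mem hc hg hx

end cfg

section fld

variable {F : Type u} [Field F] [Fintype F] {k : Type v} [Field k] (f : F →+* k)

theorem exists_of_pow {c : k} (hc : c ^ Fintype.card F = c) : ∃ d, f d = c := by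
  classical
  by_contra hcon
  push Not at hcon
  have hq : 1 < Fintype.card F := Fintype.one_lt_card
  let P : Polynomial k := Polynomial.X ^ Fintype.card F - Polynomial.X
  have hP : P.natDegree = Fintype.card F := FiniteField.X_pow_card_sub_X_natDegree_eq k hq
  have hP0 : P ≠ 0 := FiniteField.X_pow_card_sub_X_ne_zero k hq
  have h1 : insert c (Finset.univ.image f) ⊆ P.roots.toFinset := by
    intro x hx
    rw [Multiset.mem_toFinset, Polynomial.mem_roots hP0]
    show P.eval x = 0
    rw [Polynomial.eval_sub, Polynomial.eval_pow, Polynomial.eval_X, sub_eq_zero]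
    rcases Finset.mem_insert.1 hx with rfl | hx
    · exact hc
    · obtain ⟨d, _, rfl⟩ := Finset.mem_image.1 hx
      rw [← map_pow, FiniteField.pow_card]
  have h2 := (Finset.card_le_card h1).trans (Multiset.toFinset_card_le _)
  have h3 := (Polynomial.card_roots' P)
  rw [Finset.card_insert_of_notMem, Finset.card_image_of_injective _ f.injective, Finset.card_univ] at h2
  · omega
  · intro h
    obtain ⟨d, _, hd⟩ := Finset.mem_image.1 h
    exact hcon d hd

/-- a homomorphism with values in the image -/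
theorem exists_lift {K : Type w} [Field K] (κ : K →+* k) (h : ∀ t, ∃ d, f d = κ t) : ∃ κ' : K →+* F, f.comp κ' = κ := by
  choose g hg using h
  refine ⟨{ toFun := g, map_one' := f.injective (by rw [hg, map_one, map_one]),
            map_mul' := fun x y => f.injective (by rw [hg, map_mul, map_mul, hg, hg]),
            map_zero' := f.injective (by rw [hg, map_zero, map_zero]),
            map_add' := fun x y => f.injective (by rw [hg, map_add, map_add, hg, hg]) }, ?_⟩
  ext t
  exact hg t

end fld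

theorem Str.smul {k : Type u} [Field k] {K : Type w} [Field K] {W : Type v} [AddCommGroup W] [Module k W]
    {κ : K →+* k} {ρ : Representation k (SpecialLinearGroup (Fin 2) K) W} {n : ℕ} {x : ℕ → W} (h : Str κ ρ n x) (ν : k) :
    Str κ ρ n (fun s => ν • x s) where
  u s hs t := by
    rw [map_smul, h.u s hs, Finset.smul_sum]
    refine Finset.sum_congr rfl fun j _ => ?_
    rw [smul_comm]
  h s hs a := by rw [map_smul, h.h s hs, smul_comm]
  w s hs := by rw [map_smul, h.w s hs, smul_comm]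

section cfg

variable {F : Type u} [Field F] [Fintype F] {K : Type v} [Field K] [Fintype K] {p a b : ℕ}
variable {H : Subgroup ↥(chevF4.group F)} {φ : ProjectiveSpecialLinearGroup (Fin 2) K →* ↥(chevF4.group F)}
variable {k : Type u} [Field k] {f : F →+* k}

/-- the representation over `F` -/
noncomputable def RF (φ : ProjectiveSpecialLinearGroup (Fin 2) K →* ↥(chevF4.group F)) :
    Representation F (SpecialLinearGroup (Fin 2) K) (I27 → F) := MonoidHom.comp (Jr F) (φ.comp pq)

theorem RF_apply (g : SpecialLinearGroup (Fin 2) K) (x : I27 → F) : RF φ g x = Jr F (φ (pq g)) x := rfl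

theorem up_inj {x y : I27 → F} (h : (fun i => f (x i)) = fun i => f (y i)) : x = y := by
  funext i
  exact f.injective (congrFun h i)

theorem up_RF (g : SpecialLinearGroup (Fin 2) K) (x : I27 → F) :
    (fun i => f (RF φ g x i)) = Rk f φ g (fun i => f (x i)) := (Rk_map f φ g x).symm

theorem up_smul (c : F) (x : I27 → F) : (fun i => f ((c • x) i)) = f c • fun i => f (x i) := by
  funext i
  exact map_mul f _ _

theorem up_sum {α : Type*} (S : Finset α) (x : α → I27 → F) :
    (fun i => f ((∑ j ∈ S, x j) i)) = ∑ j ∈ S, fun i => f (x j i) := by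
  funext i
  rw [Finset.sum_apply, Finset.sum_apply, map_sum]

/-- a standard basis with rational vectors -/
theorem Str.down {κ' : K →+* F} {n : ℕ} {x : ℕ → I27 → k} (h : Str (f.comp κ') (Rk f φ) n x)
    {x' : ℕ → I27 → F} (hx : ∀ s ≤ n, (fun i => f (x' s i)) = x s) : Str κ' (RF φ) n x' where
  u s hs t := by
    apply up_inj (f := f)
    rw [up_RF, hx s hs, h.u s hs t, up_sum]
    refine Finset.sum_congr rfl fun j hj => ?_
    rw [up_smul, hx (s + j) (by have := Finset.mem_range.1 hj; omega), map_mul, map_natCast, map_pow]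
    rfl
  h s hs a := by
    apply up_inj (f := f)
    rw [up_RF, hx s hs, h.h s hs a, up_smul, hx s hs, map_mul, map_pow, map_pow, map_inv₀]
    rfl
  w s hs := by
    apply up_inj (f := f)
    rw [up_RF, hx s hs, h.w s hs, up_smul, hx (n - s) (by omega), map_pow, map_neg, map_one]

theorem Uq.rat (hc : Cfg p a b H φ) [IsAlgClosed k] {X : Submodule k (I27 → k)} (h : Uq f φ X) {n : ℕ} (hn : 1 ≤ n)
    (hnp : n < p) {κ : K →+* k} {x : ℕ → I27 → k} (hx : ∀ s ≤ n, x s ∈ X) (hx0 : ∀ s ≤ n, x s ≠ 0)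
    (hS : Str κ (Rk f φ) n x) (htop : ∀ v ∈ X, (∀ t, Rk f φ (Cfsg.Agent.H943.SL2Rel.u t) v = v) → ∃ c : k, v = c • x n) :
    ∃ κ' : K →+* F, f.comp κ' = κ ∧ ∃ (x' : ℕ → I27 → F) (ν : k), ν ≠ 0 ∧
      (∀ s ≤ n, (fun i => f (x' s i)) = ν • x s) ∧ Str κ' (RF φ) n x' := by
  classical
  have hp : Fact p.Prime := ⟨hc.prime⟩
  have hcF := hc.charF
  have hk : CharP k p := charP_of_injective_ringHom f.injective p
  have hcard := hc.cardF
  have hq : 1 < Fintype.card F := Fintype.one_lt_card
  let s : k →+* k := iterateFrobenius k p b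
  have hs1 : ∀ c, s c = c ^ Fintype.card F := fun c => by rw [hcard]; exact iterateFrobenius_def p b c
  have hs : ∀ c, s (f c) = f c := fun c => by rw [hs1, ← map_pow, FiniteField.pow_card]
  have hsur : Function.Surjective s := fun c => by
    obtain ⟨z, hz⟩ := IsAlgClosed.exists_pow_nat_eq c (n := Fintype.card F) (by omega)
    exact ⟨z, by rw [hs1, hz]⟩
  have hRk : ∀ g v, sm s (Rk f φ g v) = Rk f φ g (sm s v) := fun g v => sm_Jr s f hs _ v
  -- normalization
  obtain ⟨μ, hμ⟩ := htop _ (h.sm_mem hs hsur (hx n le_rfl)) fun t => by rw [← hRk, hS.top]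
  have hμ0 : μ ≠ 0 := by
    rintro rfl
    rw [zero_smul, ← sm_zero s] at hμ
    exact hx0 n le_rfl (sm_inj s hμ)
  obtain ⟨ν, hν⟩ := IsAlgClosed.exists_pow_nat_eq μ⁻¹ (n := Fintype.card F - 1) (by omega)
  have hν0 : ν ≠ 0 := by
    rintro rfl
    rw [zero_pow (by omega)] at hν
    exact hμ0 (inv_eq_zero.1 hν.symm)
  have hν1 : s ν * μ = ν := by
    rw [hs1, show Fintype.card F = Fintype.card F - 1 + 1 by omega, pow_succ, hν]
    field_simp
  set y : ℕ → I27 → k := fun s => ν • x s with hy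
  have hSy : Str κ (Rk f φ) n y := hS.smul ν
  have hyn : sm s (y n) = y n := by
    rw [hy]
    show sm s (ν • x n) = ν • x n
    rw [sm_smul, hμ, smul_smul, hν1]
  have hy0 : sm s (y 0) = y 0 := by
    apply Jr_inj (emb hF4 f (φ (pq Cfsg.Agent.H943.SL2Rel.w)))
    have h1 : Rk f φ Cfsg.Agent.H943.SL2Rel.w (y 0) = y n := by
      rw [hSy.w 0 (Nat.zero_le _), pow_zero, one_smul, Nat.sub_zero]
    change Rk f φ Cfsg.Agent.H943.SL2Rel.w (sm s (y 0)) = Rk f φ Cfsg.Agent.H943.SL2Rel.w (y 0)
    rw [← hRk, h1, hyn]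
  -- the Frobenius on K
  have haK := hc.cardK
  have hpow : ∀ t : K, t ^ (p ^ b) = t ^ (p ^ (b % a)) := by
    intro t
    conv_lhs => rw [← Nat.div_add_mod b a, pow_add, pow_mul p a, pow_mul, ← haK, FiniteField.pow_card_pow]
  have hsκ : ∀ t : K, s (κ t) = κ t ^ (p ^ (b % a)) := by
    intro t
    rw [hs1, hcard, ← map_pow, hpow, map_pow]
  have hlt : b % a < a := Nat.mod_lt _ hc.ha
  have hkey : ∀ (t : K) (i : I27), ∑ j ∈ Finset.range (n + 1), ((n.choose j : k) * y j i) * κ t ^ j =
      ∑ j ∈ Finset.range (n + 1), ((n.choose j : k) * s (y j i)) * κ t ^ (j * p ^ (b % a)) := by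
    intro t i
    have h1 : sm s (Rk f φ (Cfsg.Agent.H943.SL2Rel.u t) (y 0)) = Rk f φ (Cfsg.Agent.H943.SL2Rel.u t) (y 0) := by
      rw [hRk, hy0]
    rw [hSy.u 0 (Nat.zero_le _) t, sm_sum] at h1
    have h2 := congrFun h1 i
    rw [Finset.sum_apply, Finset.sum_apply] at h2
    rw [Nat.sub_zero] at h2
    refine (Eq.trans ?_ h2.symm).trans ?_
    · refine Finset.sum_congr rfl fun j _ => ?_
      rw [Pi.smul_apply, smul_eq_mul, zero_add]
      ring
    · refine Finset.sum_congr rfl fun j _ => ?_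
      rw [sm_smul, Pi.smul_apply, smul_eq_mul, zero_add, map_mul, map_natCast, map_pow, hsκ, ← pow_mul,
        mul_comm (p ^ (b % a)) j]
      show _ * s (y j i) = _
      ring
  have hb1 : ∀ j ∈ Finset.range (n + 1), j < Fintype.card K := by
    intro j hj
    have h1 := Finset.mem_range.1 hj
    rw [haK]
    calc j ≤ n := by omega
      _ < p := hnp
      _ = p ^ 1 := (pow_one p).symm
      _ ≤ p ^ a := Nat.pow_le_pow_right hc.prime.pos hc.ha
  have hb2 : ∀ j ∈ Finset.range (n + 1), j * p ^ (b % a) < Fintype.card K := by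
    intro j hj
    have h1 := Finset.mem_range.1 hj
    rw [haK]
    calc j * p ^ (b % a) < p * p ^ (b % a) := Nat.mul_lt_mul_of_pos_right (by omega) (Nat.pow_pos hc.prime.pos)
      _ = p ^ (b % a + 1) := by rw [pow_succ, mul_comm]
      _ ≤ p ^ a := Nat.pow_le_pow_right hc.prime.pos hlt
  have hcoef : ∀ (i : I27) (m : ℕ), ∑ j ∈ Finset.range (n + 1) with j = m, ((n.choose j : k) * y j i) =
      ∑ j ∈ Finset.range (n + 1) with j * p ^ (b % a) = m, ((n.choose j : k) * s (y j i)) := fun i m =>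
    coef_gen κ _ _ (fun j => j) (fun j => j * p ^ (b % a)) _ _ hb1 hb2 (fun t => hkey t i) m
  have hchoose : ∀ j ≤ n, (n.choose j : k) ≠ 0 := fun j hj => choose_ne hnp hj
  have hyne : ∀ j ≤ n, y j ≠ 0 := fun j hj => smul_ne_zero hν0 (hx0 j hj)
  have he : b % a = 0 := by
    by_contra he
    apply hyne 1 hn
    funext i
    have h1 := hcoef i 1
    rw [Finset.sum_filter, Finset.sum_ite_eq' (Finset.range (n + 1)) 1, if_pos (Finset.mem_range.2 (by omega)),
      Finset.filter_false_of_mem, Finset.sum_empty] at h1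
    · exact (mul_eq_zero.1 h1).resolve_left (hchoose 1 hn)
    · intro j _ hj
      have h2 : p ^ (b % a) = 1 := Nat.dvd_one.1 ⟨j, by rw [mul_comm]; exact hj.symm⟩
      have h3 : 1 < p ^ (b % a) := Nat.one_lt_pow he hc.prime.one_lt
      omega
  have hfix : ∀ j ≤ n, ∀ i, s (y j i) = y j i := by
    intro j hj i
    have h1 := hcoef i j
    simp only [he, pow_zero, mul_one] at h1
    rw [Finset.sum_filter, Finset.sum_ite_eq' (Finset.range (n + 1)) j, if_pos (Finset.mem_range.2 (by omega)),
      Finset.sum_filter, Finset.sum_ite_eq' (Finset.range (n + 1)) j, if_pos (Finset.mem_range.2 (by omega))] at h1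
    exact (mul_left_cancel₀ (hchoose j hj) h1).symm
  have hκ : ∀ t, ∃ d, f d = κ t := fun t => exists_of_pow f (by
    rw [← hs1, hsκ, he, pow_zero, pow_one])
  obtain ⟨κ', hκ'⟩ := exists_lift f κ hκ
  have hex : ∀ j, ∃ z : I27 → F, j ≤ n → (fun i => f (z i)) = y j := by
    intro j
    by_cases hj : j ≤ n
    · have h1 : ∀ i, ∃ d, f d = y j i := fun i => exists_of_pow f (by rw [← hs1, hfix j hj])
      choose z hz using h1
      exact ⟨z, fun _ => funext hz⟩
    · exact ⟨0, fun hj' => absurd hj' hj⟩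
  choose x' hx' using hex
  refine ⟨κ', hκ', x', ν, hν0, fun s hs => hx' s hs, ?_⟩
  rw [← hκ'] at hSy
  exact hSy.down fun s hs => hx' s hs

end cfg

end Cfsg.Agent.R2.F4N
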