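import Cfsg.Agent.R2.F4N.Dn

/-!
# Box R: `J₀ = V_8 ⊕ V_16` (lead, S5931)
-/

set_option autoImplicit false
set_option linter.unusedSectionVars false

namespace Cfsg.Agent.R2.F4N

open Cfsg Cfsg.Lie Module Matrix
open Cfsg.Agent.ChevalleyStructure.E6Min.Basic
open Cfsg.Agent.H952.F4 Cfsg.Agent.H952.F4.Jord
open Cfsg.Agent.H952.F4.FixV (W0 mem_W0 finrank_W0 u0_ne_zero tr1_eq)
open Cfsg.Agent.R2.F4M
open Cfsg.Agent.R2.H9.E6
open Cfsg.Agent.R2.GEO (tfB tfB_apply)

universe u v w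

section ex

variable {k : Type u} [Field k] {K : Type w} [Field K] [Fintype K] {W : Type v} [AddCommGroup W] [Module k W]
variable {κ : K →+* k} {ρ : Representation k (SpecialLinearGroup (Fin 2) K) W}
variable {N : W →ₗ[k] W →ₗ[k] W →ₗ[k] k} (hN : ∀ g x y z, N (ρ g x) (ρ g y) (ρ g z) = N x y z)
  (hrot : ∀ x y z, N x y z = N y z x)
variable {i j l : ℕ} {x y z : ℕ → W} (hx : Str κ ρ i x) (hy : Str κ ρ j y) (hz : Str κ ρ l z)

include hN hrot hx hy hz in
theorem exact_sym {p s : ℕ} [Fact p.Prime] [CharP k p] (hpK : p ≤ Fintype.card K) (hi : i < p) (hj : j < p)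
    (hl : l < p) (hs : 2 * s = i + j + l) (hij : i + j < l + (Fintype.card K - 1) ∨ j + l < i + (Fintype.card K - 1) ∨
      l + i < j + (Fintype.card K - 1)) {a b c : ℕ} (ha : a ≤ i) (hb : b ≤ j)
    (hc : c ≤ l) (h : a + b + c ≠ s) : N (x a) (y b) (z c) = 0 := by
  rcases hij with h1 | h1 | h1
  · exact exact hN hx hy hz hpK hi hj hl hs h1 ha hb hc h
  · rw [hrot]
    exact exact (s := s) hN hy hz hx hpK hj hl hi (by omega) h1 hb hc ha (by omega)
  · rw [hrot, hrot]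
    exact exact (s := s) hN hz hx hy hpK hl hi hj (by omega) h1 hc ha hb (by omega)

theorem Str.const {v : W} (hv : ∀ g, ρ g v = v) : Str κ ρ 0 (fun _ => v) where
  u s hs t := by
    obtain rfl : s = 0 := by omega
    rw [hv]
    simp
  h s hs a := by
    obtain rfl : s = 0 := by omega
    rw [hv]
    simp
  w s hs := by
    obtain rfl : s = 0 := by omega
    rw [hv]
    simp

end ex

section core

variable {F : Type u} [Field F] [Fintype F] {K : Type v} [Field K] [Fintype K] {p a b : ℕ}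
variable {H : Subgroup ↥(chevF4.group F)} {φ : ProjectiveSpecialLinearGroup (Fin 2) K →* ↥(chevF4.group F)}
variable {κ : K →+* F}

theorem NN_RF (g : SpecialLinearGroup (Fin 2) K) (x y z : I27 → F) :
    NN F (RF φ g x) (RF φ g y) (RF φ g z) = NN F x y z := by
  rw [NN_apply, NN_apply, RF_apply, RF_apply, RF_apply, Jr_cr, Jr_tf]

/-- a vector with `v # = c v` which is isotropic is white -/
theorem cr_self_zero (h2 : (2 : F) ≠ 0) (h3 : (3 : F) ≠ 0) {v : I27 → F} {c : F} (h : cr v v = c • v) (ht : tf v v = 0) :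
    cr v v = 0 := by
  by_cases hv : v = 0
  · rw [h, hv, smul_zero]
  have h4 : sh v = (c / 2) • v := by
    rw [cr_self] at h
    rw [div_eq_inv_mul, ← smul_smul, ← h, smul_smul, inv_mul_cancel₀ h2, one_smul]
  have h5 := tf_sh_self v
  rw [h4, tf_smul_left, ht, mul_zero] at h5
  have h6 : cubicT v = 0 := (mul_eq_zero.1 h5.symm).resolve_left h3
  have h7 := sh_sh v
  rw [h4, sh_smul, h4, h6, zero_smul, smul_smul] at h7
  have h8 : (c / 2) ^ 2 * (c / 2) = 0 := (smul_eq_zero.1 h7).resolve_right hv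
  rw [← pow_succ] at h8
  have h9 : c / 2 = 0 := eq_zero_of_pow_eq_zero h8
  have h10 : c = 0 := (div_eq_zero_iff.1 h9).resolve_right h2
  rw [h, h10, zero_smul]

/-- the lengths -/
def nn : Fin 3 → ℕ := ![0, 8, 16]

theorem nn_even (t : Fin 3) : ∃ r, nn t = 2 * r := by
  fin_cases t
  · exact ⟨0, rfl⟩
  · exact ⟨4, rfl⟩
  · exact ⟨8, rfl⟩

/-- the data -/
structure Dt (κ : K →+* F) (φ : ProjectiveSpecialLinearGroup (Fin 2) K →* ↥(chevF4.group F)) (v : Fin 3 → ℕ → I27 → F) :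
    Prop where
  str : ∀ t, Str κ (RF φ) (nn t) (v t)
  zero : v 0 0 = u0 F
  t8 : ∀ s ≤ 8, tr1 (v 1 s) = 0
  t16 : ∀ s ≤ 16, tr1 (v 2 s) = 0
  li : LinearIndependent F (fun i : Σ t : Fin 3, Fin (nn t + 1) => v i.1 i.2)

variable {v : Fin 3 → ℕ → I27 → F} (d : Dt κ φ v)

include d

theorem Dt.sym_of {t₁ t₂ t₃ : Fin 3} (hp : 17 ≤ p) (hcF : CharP F p) (hpp : p.Prime) (hpK : p ≤ Fintype.card K)
    (ht : ¬ (t₁ = 2 ∧ t₂ = 2 ∧ t₃ = 2) ∨ 17 < Fintype.card K) {a b c : ℕ} (ha : a ≤ nn t₁) (hb : b ≤ nn t₂)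
    (hc : c ≤ nn t₃) (h : NN F (v t₁ a) (v t₂ b) (v t₃ c) ≠ 0) : 2 * (a + b + c) = nn t₁ + nn t₂ + nn t₃ := by
  have hpf : Fact p.Prime := ⟨hpp⟩
  by_contra hcon
  apply h
  obtain ⟨r₁, h1⟩ := nn_even t₁
  obtain ⟨r₂, h2⟩ := nn_even t₂
  obtain ⟨r₃, h3⟩ := nn_even t₃
  have hle : ∀ t, nn t ≤ 16 := by decide
  refine exact_sym NN_RF NN_rot (d.str t₁) (d.str t₂) (d.str t₃) (p := p) (s := r₁ + r₂ + r₃) hpK
    (by have := hle t₁; omega) (by have := hle t₂; omega) (by have := hle t₃; omega) (by omega) ?_ ha hb hc (by omega)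
  have key : ∀ t₁ t₂ t₃ : Fin 3, (t₁ = 2 ∧ t₂ = 2 ∧ t₃ = 2) ∨ nn t₁ + nn t₂ < nn t₃ + 16 ∨ nn t₂ + nn t₃ < nn t₁ + 16 ∨
      nn t₃ + nn t₁ < nn t₂ + 16 := by decide
  rcases key t₁ t₂ t₃ with ⟨rfl, rfl, rfl⟩ | h4 | h4 | h4
  · rcases ht with ht | ht
    · exact absurd ⟨rfl, rfl, rfl⟩ ht
    · left
      show 16 + 16 < 16 + (Fintype.card K - 1)
      omega
  · left; omega
  · right; left; omega
  · right; right; omega

theorem Dt.tf_of (hp : 17 ≤ p) (hcF : CharP F p) (hpp : p.Prime) (hpK : p ≤ Fintype.card K)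
    {t₂ t₃ : Fin 3} (ht : t₂ ≠ 0) {b c : ℕ} (hb : b ≤ nn t₂)
    (hc : c ≤ nn t₃) (h : 2 * (b + c) ≠ nn t₂ + nn t₃) : tf (v t₂ b) (v t₃ c) = 0 := by
  have htr : ∀ t : Fin 3, t ≠ 0 → ∀ s ≤ nn t, tr1 (v t s) = 0 := by
    intro t ht s hs
    fin_cases t
    · exact absurd rfl ht
    · exact d.t8 s hs
    · exact d.t16 s hs
  by_contra hne
  have h1 := d.sym_of (t₁ := 0) hp hcF hpp hpK (Or.inl fun h => absurd h.1 (by decide)) (a := 0) (Nat.zero_le _) hb hc
    (by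
      rw [d.zero, NN_u0, htr t₂ ht b hb, zero_mul, zero_sub]
      exact neg_ne_zero.2 hne)
  have h2 : nn 0 = 0 := rfl
  omega

/-- a vector orthogonal to the basis is zero -/
theorem Dt.nd (w : I27 → F) (h : ∀ t, ∀ s ≤ nn t, tf w (v t s) = 0) : w = 0 := by
  have hcard : Fintype.card (Σ t : Fin 3, Fin (nn t + 1)) = finrank F (I27 → F) := by
    rw [Module.finrank_fintype_fun_eq_card]
    decide
  let B := basisOfLinearIndependentOfCardEqFinrank d.li hcard
  refine tf_nondeg fun y => ?_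
  have h1 : tfB F w = 0 := by
    refine B.ext fun i => ?_
    rw [coe_basisOfLinearIndependentOfCardEqFinrank, tfB_apply, LinearMap.zero_apply]
    exact h i.1 i.2 (Nat.lt_succ_iff.1 i.2.2)
  rw [← tfB_apply, h1, LinearMap.zero_apply]

theorem Dt.ne {t : Fin 3} {s : ℕ} (hs : s ≤ nn t) : v t s ≠ 0 :=
  d.li.ne_zero (⟨t, ⟨s, Nat.lt_succ_iff.2 hs⟩⟩ : Σ t : Fin 3, Fin (nn t + 1))

/-- the top vector is white -/
theorem Dt.top_zero (hp : 17 ≤ p) (hcF : CharP F p) (hpp : p.Prime) (hpK : p ≤ Fintype.card K) :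
    NN F (v 2 16) (v 2 16) (v 2 0) = 0 := by
  have hpf : Fact p.Prime := ⟨hpp⟩
  have h2 : (2 : F) ≠ 0 := by
    have h := (CharP.cast_eq_zero_iff F p 2).not.2 (fun h => by have := Nat.le_of_dvd (by norm_num) h; omega)
    exact_mod_cast h
  have h3 : (3 : F) ≠ 0 := by
    have h := (CharP.cast_eq_zero_iff F p 3).not.2 (fun h => by have := Nat.le_of_dvd (by norm_num) h; omega)
    exact_mod_cast h
  -- the higher coefficients
  have h4 : ∀ c < 17, 1 ≤ c → NN F (v 2 16) (v 2 16) (v 2 c) = 0 := by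
    intro c hc hc1
    have h5 := coef_eq κ (d := 17) (by omega) (a := fun j => ((16 : ℕ).choose j : F) * NN F (v 2 16) (v 2 16) (v 2 j))
      (b := fun j => if j = 0 then NN F (v 2 16) (v 2 16) (v 2 0) else 0) (fun t => by
        have h6 := NN_RF (φ := φ) (Cfsg.Agent.H943.SL2Rel.u t) (v 2 16) (v 2 16) (v 2 0)
        have h7 : RF φ (Cfsg.Agent.H943.SL2Rel.u t) (v 2 16) = v 2 16 := (d.str 2).top t
        rw [h7, (d.str 2).u 0 (Nat.zero_le _) t] at h6
        rw [show nn 2 - 0 + 1 = 17 from rfl, show nn 2 - 0 = 16 from rfl] at h6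
        refine Eq.trans ?_ (Finset.sum_eq_single 0 (fun j _ hj => by rw [if_neg hj, zero_mul])
          (fun h => absurd (Finset.mem_range.2 (by norm_num)) h)).symm
        rw [if_pos rfl, pow_zero, mul_one, ← h6, map_sum]
        refine Finset.sum_congr rfl fun j _ => ?_
        rw [map_smul, smul_eq_mul, zero_add]
        ring) c hc
    simp only [if_neg (show ¬ c = 0 by omega)] at h5
    exact (mul_eq_zero.1 h5).resolve_left (choose_ne (by omega) (by omega))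
  have ht0 : tf (v 2 16) (v 2 0) ≠ 0 := by
    intro h0
    refine d.ne (t := 2) (s := 16) le_rfl (d.nd _ fun t s hs => ?_)
    fin_cases t
    · have hs0 : s = 0 := Nat.le_zero.1 hs
      show tf (v 2 16) (v 0 s) = 0
      rw [hs0, d.zero, tf_u0_right]
      exact d.t16 16 le_rfl
    · refine d.tf_of hp hcF hpp hpK (by decide) (le_refl 16) hs ?_
      show 2 * (16 + s) ≠ 16 + 8
      omega
    · rcases Nat.eq_zero_or_pos s with rfl | hs0
      · exact h0
      · refine d.tf_of hp hcF hpp hpK (by decide) (le_refl 16) hs ?_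
        show 2 * (16 + s) ≠ 16 + 16
        omega
  obtain ⟨β, hβ⟩ : ∃ β, NN F (v 2 16) (v 2 16) (v 2 0) = β * tf (v 2 16) (v 2 0) :=
    ⟨NN F (v 2 16) (v 2 16) (v 2 0) / tf (v 2 16) (v 2 0), by rw [div_mul_cancel₀ _ ht0]⟩
  have hcr : cr (v 2 16) (v 2 16) = β • v 2 16 := by
    rw [← sub_eq_zero]
    refine d.nd _ fun t s hs => ?_
    rw [sub_eq_add_neg, tf_add_left, ← neg_one_smul F, tf_smul_left, tf_smul_left, ← NN_apply]
    fin_cases t
    · have hs0 : s = 0 := Nat.le_zero.1 hs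
      show NN F (v 2 16) (v 2 16) (v 0 s) + -1 * (β * tf (v 2 16) (v 0 s)) = 0
      have h5 : NN F (v 2 16) (v 2 16) (v 0 s) = 0 := by
        by_contra hne
        have := d.sym_of (t₁ := 2) (t₂ := 2) (t₃ := 0) hp hcF hpp hpK (Or.inl (by decide)) (le_refl 16) (le_refl 16) hs hne
        have e0 : nn 0 = 0 := rfl
        have e2 : nn 2 = 16 := rfl
        omega
      have h6 : tf (v 2 16) (v 0 s) = 0 := by
        rw [hs0, d.zero, tf_u0_right]
        exact d.t16 16 le_rfl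
      rw [h5, h6]
      ring
    · show NN F (v 2 16) (v 2 16) (v 1 s) + -1 * (β * tf (v 2 16) (v 1 s)) = 0
      have h5 : NN F (v 2 16) (v 2 16) (v 1 s) = 0 := by
        by_contra hne
        have := d.sym_of (t₁ := 2) (t₂ := 2) (t₃ := 1) hp hcF hpp hpK (Or.inl (by decide)) (le_refl 16) (le_refl 16) hs hne
        have e0 : nn 1 = 8 := rfl
        have e2 : nn 2 = 16 := rfl
        omega
      have h6 : tf (v 2 16) (v 1 s) = 0 := by
        refine d.tf_of hp hcF hpp hpK (by decide) (le_refl 16) hs ?_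
        show 2 * (16 + s) ≠ 16 + 8
        omega
      rw [h5, h6]
      ring
    · show NN F (v 2 16) (v 2 16) (v 2 s) + -1 * (β * tf (v 2 16) (v 2 s)) = 0
      rcases Nat.eq_zero_or_pos s with rfl | hs0
      · rw [hβ]
        ring
      · have h5 : NN F (v 2 16) (v 2 16) (v 2 s) = 0 := h4 s (Nat.lt_succ_iff.2 hs) hs0
        have h6 : tf (v 2 16) (v 2 s) = 0 := by
          refine d.tf_of hp hcF hpp hpK (by decide) (le_refl 16) hs ?_
          show 2 * (16 + s) ≠ 16 + 16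
          omega
        rw [h5, h6]
        ring
  have htt : tf (v 2 16) (v 2 16) = 0 := by
    refine d.tf_of hp hcF hpp hpK (by decide) (le_refl 16) (le_refl 16) ?_
    show 2 * (16 + 16) ≠ 16 + 16
    omega
  rw [NN_apply, cr_self_zero h2 h3 hcr htt]
  have := tf_smul_left (0 : F) (0 : I27 → F) (v 2 0)
  rwa [zero_smul, zero_mul] at this

/-- **all weights are exact** -/
theorem Dt.sym (hp : 17 ≤ p) (hcF : CharP F p) (hpp : p.Prime) (hpK : p ≤ Fintype.card K) {t₁ t₂ t₃ : Fin 3} {a b c : ℕ}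
    (ha : a ≤ nn t₁) (hb : b ≤ nn t₂)
    (hc : c ≤ nn t₃) (h : NN F (v t₁ a) (v t₂ b) (v t₃ c) ≠ 0) : 2 * (a + b + c) = nn t₁ + nn t₂ + nn t₃ := by
  have hpf : Fact p.Prime := ⟨hpp⟩
  by_cases h17 : 17 < Fintype.card K
  · exact d.sym_of hp hcF hpp hpK (Or.inr h17) ha hb hc h
  by_cases ht : t₁ = 2 ∧ t₂ = 2 ∧ t₃ = 2
  swap
  · exact d.sym_of hp hcF hpp hpK (Or.inl ht) ha hb hc h
  obtain ⟨rfl, rfl, rfl⟩ := ht
  have hK : Fintype.card K = 17 := by omega
  have e2 : nn 2 = 16 := rfl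
  by_contra hcon
  apply h
  refine exact_of NN_RF (d.str 2) (d.str 2) (d.str 2) (s := 24) hpK (by rw [e2]; omega) (by rw [e2]; omega) (by rw [e2]; omega)
    rfl ?_ ha hb hc (by omega)
  intro c hc hcs
  by_contra hne
  have h1 := wt_mod NN_RF (d.str 2) (d.str 2) (d.str 2) (Nat.zero_le _) (le_refl (nn 2)) hc hne
  rw [hK, e2] at h1
  rw [e2] at hc
  have h2 : c = 0 ∨ c = 16 := by
    unfold Nat.ModEq at h1
    omega
  rcases h2 with rfl | rfl
  · apply hne
    rw [mirror NN_RF (d.str 2) (d.str 2) (d.str 2) (Nat.zero_le _) (le_refl (nn 2)) (Nat.zero_le _)]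
    have h3 : NN F (v 2 (nn 2 - 0)) (v 2 (nn 2 - nn 2)) (v 2 (nn 2 - 0)) = 0 := by
      rw [← NN_rot]
      exact d.top_zero hp hcF hpp hpK
    rw [h3]
    ring
  · apply hne
    show NN F (v 2 0) (v 2 16) (v 2 16) = 0
    rw [NN_rot]
    exact d.top_zero hp hcF hpp hpK

end core

end Cfsg.Agent.R2.F4N
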