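import Cfsg.Agent.R2.F4N.Lam
import Cfsg.Agent.R2.F4N.Diag
import Cfsg.Agent.R2.F4N.Orth2

/-!
# The torus from the weights of the torus of `L`, `|K| > 49` (lead, S5931)
-/

set_option autoImplicit false
set_option linter.unusedSectionVars false

namespace Cfsg.Agent.R2.F4N

open Cfsg Cfsg.Lie Module Matrix
open Cfsg.Agent.ChevalleyStructure.E6Min.Basic
open Cfsg.Agent.H952.F4 Cfsg.Agent.H952.F4.Jord
open Cfsg.Agent.H952.F4.FixV (W0 mem_W0 finrank_W0 u0_ne_zero tr1_eq)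
open Cfsg.Agent.R2.F4M
open Cfsg.Agent.R2.H9.E6
open Cfsg.Agent.R2.H28.SL2 Cfsg.Agent.H943.RepAdd Cfsg.Agent.H943.SL2Mod

universe u v w

variable {F : Type u} [Field F] [Fintype F] {K : Type v} [Field K] [Fintype K] {p a b : ℕ}
variable {H : Subgroup ↥(chevF4.group F)} {φ : ProjectiveSpecialLinearGroup (Fin 2) K →* ↥(chevF4.group F)}

/-- **the torus** -/
theorem torus_of_wt (h2 : (2 : F) ≠ 0) (hpK : ∃ m, 1 ≤ m ∧ ∃ p, p.Prime ∧ CharP F p ∧ Fintype.card K = p ^ m)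
    {κ : K →+* F} (hQ : 48 < Fintype.card K - 1) {g : Kˣ}
    (hg : orderOf g = Fintype.card K - 1)
    (hw : ∀ (μ : F) (v : I27 → F), v ≠ 0 → RF φ (Cfsg.Agent.H943.SL2Rel.h g) v = μ • v →
      ∃ m : Fin 17, (((Units.map (κ : K →* F) g) ^ (2 * ((m : ℤ) - 8)) : Fˣ) : F) = μ) (c : Fˣ) :
    ∃ z : ↥(chevF4.group F), ∀ (m : Fin 17) (v : I27 → F),
      RF φ (Cfsg.Agent.H943.SL2Rel.h g) v = (((Units.map (κ : K →* F) g) ^ (2 * ((m : ℤ) - 8)) : Fˣ) : F) • v →
      Jr F z v = ((c ^ ((m : ℤ) - 8) : Fˣ) : F) • v := by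
  classical
  obtain ⟨N, hN⟩ : ∃ N, N = Fintype.card K - 1 := ⟨_, rfl⟩
  rw [← hN] at hQ hg
  set ζ : Fˣ := Units.map (κ : K →* F) g with hζ
  have hord : orderOf ζ = N := by
    rw [← hg]
    exact orderOf_injective _ (Units.map_injective κ.injective) g
  have hprim : IsPrimitiveRoot (ζ : F) N := by
    rw [IsPrimitiveRoot.coe_units_iff, ← hord]
    exact IsPrimitiveRoot.orderOf ζ
  have hNF : (N : F) ≠ 0 := by
    obtain ⟨m, hm, p, hp, hcF, hK⟩ := hpK
    intro h0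
    have h1 : ((Fintype.card K : ℕ) : F) = 0 := by
      rw [hK, Nat.cast_pow, CharP.cast_eq_zero, zero_pow (by omega)]
    have h3 : Fintype.card K = N + 1 := by omega
    rw [h3, Nat.cast_add, h0, zero_add, Nat.cast_one] at h1
    exact one_ne_zero h1
  have hA : (RF φ (Cfsg.Agent.H943.SL2Rel.h g) : Module.End F (I27 → F)) ^ N = 1 := by
    rw [← map_pow, ← Cfsg.Agent.H943.SL2Rel.h_pow, ← hg, pow_orderOf_eq_one, Cfsg.Agent.H943.SL2Rel.h_one, map_one]
  have hdvd : ∀ e : ℤ, ζ ^ e = 1 → (N : ℤ) ∣ e := fun e he => by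
    have h4 := orderOf_dvd_iff_zpow_eq_one.2 he
    rwa [hord] at h4
  have hinj : Function.Injective (fun m : Fin 17 => ((ζ ^ (2 * ((m : ℤ) - 8)) : Fˣ) : F)) := by
    intro i j hij
    have h1 : ζ ^ (2 * ((i : ℤ) - 8) - 2 * ((j : ℤ) - 8)) = 1 := by
      rw [_root_.zpow_sub, Units.ext hij, mul_inv_cancel]
    have h3 := hdvd _ h1
    have hi := i.2
    have hj := j.2
    have h4 : 2 * ((i : ℤ) - 8) - 2 * ((j : ℤ) - 8) = 0 := by
      refine Int.eq_zero_of_abs_lt_dvd h3 ?_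
      rw [abs_lt]
      constructor <;> omega
    apply Fin.ext
    omega
  obtain ⟨J, _, B, m, hB, hrepr⟩ := exists_eig_basis hprim (by omega) hNF hA
    (fun m : Fin 17 => ((ζ ^ (2 * ((m : ℤ) - 8)) : Fˣ) : F)) hinj (fun μ v hv h => hw μ v hv h)
  obtain ⟨z, hz⟩ := exists_lam h2 B (fun j => ((m j : ℕ) : ℤ) - 8) (by
    intro i j l h
    have h1 := NN_RF (φ := φ) (Cfsg.Agent.H943.SL2Rel.h g) (B i) (B j) (B l)
    rw [hB, hB, hB] at h1
    simp only [map_smul, LinearMap.smul_apply, smul_eq_mul] at h1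
    have h3 : ζ ^ (2 * ((m i : ℤ) - 8) + 2 * ((m j : ℤ) - 8) + 2 * ((m l : ℤ) - 8)) = 1 := by
      apply Units.ext
      rw [_root_.zpow_add, _root_.zpow_add, Units.val_mul, Units.val_mul, Units.val_one]
      refine mul_right_cancel₀ h ?_
      rw [one_mul]
      refine Eq.trans ?_ h1
      ring
    have h4 := Int.eq_zero_of_abs_lt_dvd (hdvd _ h3) (by
      have hi := (m i).2
      have hj := (m j).2
      have hl := (m l).2
      rw [abs_lt]
      constructor <;> omega)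
    omega) (by
    intro i hi
    have h1 := hrepr 8 (u0 F) (by
      show RF φ (Cfsg.Agent.H943.SL2Rel.h g) (u0 F) = ((ζ ^ (2 * (((8 : Fin 17) : ℕ) : ℤ) - 8 * 2) : Fˣ) : F) • u0 F
      rw [RF_apply, Jr_u0]
      simp) i hi
    rw [h1]
    rfl) c
  refine ⟨z, fun i v hv => ?_⟩
  have h1 : v = ∑ j, B.repr v j • B j := (B.sum_repr v).symm
  conv_lhs => rw [h1]
  rw [map_sum]
  conv_rhs => rw [h1]
  rw [Finset.smul_sum]
  refine Finset.sum_congr rfl fun j _ => ?_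
  rw [map_smul, hz]
  by_cases h0 : B.repr v j = 0
  · rw [h0, zero_smul, zero_smul, smul_zero]
  · rw [hrepr i v hv j h0, smul_comm]

end Cfsg.Agent.R2.F4N
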